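import Cfsg.Agent.H14.CBSpec
import Cfsg.Agent.H14.FEKit

/-! Tower CB (S1308): job Perp. -/

set_option autoImplicit false
set_option linter.all false

namespace H82.CBPerp

open Cfsg Subgroup MulAction H14 H98 H1.Gold H31.S2 H14.GC H14.FE H14.NF H14.CB
open scoped commutatorElement

universe u

variable {G : Type u} [Group G] [Finite G] {Q E Qa Ea Qb Eb : Subgroup G}

theorem pt_le (h : TG Q E) (a : Pt Q E Qa Ea) : Ea ≤ Qa := by
  obtain ⟨g, rfl, rfl⟩ := a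
  exact cj_mono g h.le

theorem pt_two (h : TG Q E) (a : Pt Q E Qa Ea) : IsPGroup 2 Ea := by
  obtain ⟨g, rfl, rfl⟩ := a
  intro x
  refine ⟨1, Subtype.ext ?_⟩
  have := h.el _ (mem_cj.1 x.2)
  have e : (x : G) * x = g * (g⁻¹ * x * g * (g⁻¹ * x * g)) * g⁻¹ := by group
  rw [pow_one, pow_two, Subgroup.coe_mul, e, this]
  simp

theorem cen_nor (h : TG Q E) (a : Pt Q E Qa Ea) : cen Ea ≤ nor Qa := by
  obtain ⟨g, rfl, rfl⟩ := a
  obtain ⟨d, hd, h2⟩ := four_exists_inv (h.four.cj g)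
  exact fun x hx => h.cen_le g d (cj_mono g h.le hd) h2 (mem_cen1.2 (hx d hd).symm)

/-- A 2-element of the home of the second point that centralises it and normalises the first
home lies in the second point. -/
theorem mem_of_col (h : TG Q E) (c : Col Q E Qa Ea Qb Eb) {x : G} (h1 : x ∈ Qb) (h2 : x ∈ cen Eb)
    {n : ℕ} (h3 : x ^ 2 ^ n = 1) (h4 : x ∈ nor Qa) : x ∈ Eb := by
  refine h.exc _ _ _ _ c (zpowers x ⊔ Eb) (sup_le (zpowers_le.2 ⟨h1, h4⟩)
    (le_inf (pt_le h c.p2) (c.comm.trans (cen_nor h c.p1))))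
    (H14.isPGroup_sup_of_le_normalizer (isPGroup_zpowers h3) (pt_two h c.p2)
      (zpowers_le.2 (centralizer_le_normalizer _ h2))) le_sup_right
    (mem_sup_left (mem_zpowers x))

theorem jobX : JPerp.{u} := by
  intro G _ _ Q E h Qa Ea Qb Eb U pa pb ne hc hU h2 cm k y hy
  by_contra hn
  have two : ∀ x ∈ U, ∃ n : ℕ, x ^ 2 ^ n = 1 := fun x hx => by
    obtain ⟨n, e⟩ := h2 ⟨x, hx⟩
    exact ⟨n, by simpa using congrArg Subtype.val e⟩
  have c : Col Q E Qa Ea Qb Eb := ⟨pa, pb, ne, hc, y, hU hy, two y hy, fun t ht => cm t ht y hy, hn⟩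
  rcases k with ⟨x, x1, x2, x3⟩ | ⟨x, x1, x2, ⟨n, x3⟩, x4⟩
  · obtain ⟨n, e⟩ := two x x1
    exact x2 (mem_of_col h (h.sym _ _ _ _ c) (hU x1).1 (hU x1).2 e x3)
  · exact x2 (mem_of_col h c x1.1 x1.2 x3 x4)

end H82.CBPerp
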