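import Cfsg.Agent.H82.TPKit
import Cfsg.Agent.H99.BenderA

/-! HR tower (S2208): doubly transitive groups whose point stabiliser has a normal Bender group.
Definitions and jobs; the proofs are in `blueprints/HR.md`. -/

set_option autoImplicit false

namespace H82.HR

open MulAction Cfsg Subgroup H89.K H98

universe u v

section Defs

variable {G : Type*} [Group G]

abbrev nor (U : Subgroup G) : Subgroup G := normalizer (U : Set G)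

abbrev cen (U : Subgroup G) : Subgroup G := centralizer (U : Set G)

/-- `Ω₁(Z(U))` -/
def ZZ (U : Subgroup G) : Subgroup G where
  carrier := {z | z ∈ U ∧ z * z = 1 ∧ ∀ x ∈ U, x * z = z * x}
  one_mem' := ⟨U.one_mem, mul_one _, fun x _ => by rw [mul_one, one_mul]⟩
  mul_mem' := fun {y z} hy hz => ⟨U.mul_mem hy.1 hz.1, by
    rw [mul_assoc, ← mul_assoc z, hy.2.2 z hz.1, mul_assoc, hz.2.1, mul_one, hy.2.1],
    fun x hx => by rw [← mul_assoc, hy.2.2 x hx, mul_assoc, hz.2.2 x hx, mul_assoc]⟩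
  inv_mem' := fun {z} hz => (inv_eq_of_mul_eq_one_left hz.2.1).symm ▸ hz

/-- the torus -/
abbrev DD (N U V : Subgroup G) : Subgroup G := N ⊓ nor U ⊓ nor V

/-- `x` centralises `U / ZZ U` -/
def TV (U : Subgroup G) (x : G) : Prop := ∀ y ∈ U, x * y * x⁻¹ * y⁻¹ ∈ ZZ U

/-- The automorphisms fixing every involution induce on `U / Ω₁(U)` a group with `4 ∤` order. -/
def Q2 (U : Type*) [Group U] : Prop := ∀ α β : MulAut U, (∀ z, z * z = 1 → α z = z) →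
  (∀ z, z * z = 1 → β z = z) → α ^ 4 = 1 → β ^ 4 = 1 → (α * β) ^ 4 = 1 →
  ∃ γ : MulAut U, (γ = α ∨ γ = β ∨ γ = α * β) ∧ ∀ y, γ y * y⁻¹ * (γ y * y⁻¹) = 1

/-- `N` is a Bender group with opposite Sylow `2`-subgroups `U`, `V`. -/
structure BF (N U V : Subgroup G) (q : ℕ) : Prop where
  simple : IsSimpleGroup N
  q4 : 4 ≤ q
  sylU : IsSyl 2 U N
  sylV : IsSyl 2 V N
  ti : U ⊓ nor V = ⊥
  bru : ∀ g ∈ N, g ∈ nor U ∨ ∃ x ∈ U, cj g U = cj x V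
  cent : ∀ z ∈ U, z * z = 1 → z ∈ ZZ U
  card : Nat.card (ZZ U) = q
  e4 : ∀ x ∈ U, x * x ∈ ZZ U
  nab : U ≤ ZZ U ∨ ∃ x ∈ U, ∃ y ∈ U, x * y ≠ y * x
  cyc : IsCyclic (DD N U V)
  tr : ∀ y ∈ ZZ U, ∀ z ∈ ZZ U, y ≠ 1 → z ≠ 1 → ∃ d ∈ DD N U V, d * y * d⁻¹ = z
  irr : ∀ X : Subgroup G, ZZ U ≤ X → X ≤ U → DD N U V ≤ nor X → X = ZZ U ∨ X = U
  q2 : Q2 U

def BG (N : Subgroup G) (q : ℕ) : Prop := ∃ U V : Subgroup G, BF N U V q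

variable {Ω : Type*} [MulAction G Ω]

/-- The setting: `N c` is the normal Bender subgroup of the stabiliser of `c`. -/
structure Hy (N : Ω → Subgroup G) (q : ℕ) : Prop where
  t2 : T2 G Ω
  equi : ∀ (g : G) (c : Ω), N (g • c) = cj g (N c)
  le : ∀ c, N c ≤ stabilizer G c
  bg : ∀ c, BG (N c) q

/-- case S -/
def CS (N : Ω → Subgroup G) : Prop :=
  ∀ c d : Ω, c ≠ d → ∃ U, IsSyl 2 U (N c) ∧ U ≤ stabilizer G d

/-- case NS -/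
def NS (N : Ω → Subgroup G) : Prop :=
  ∀ c d : Ω, c ≠ d → ∀ U, IsSyl 2 U (N c) → ¬ U ≤ stabilizer G d

def ZL (N : Ω → Subgroup G) : Prop := ∀ c d : Ω, c ≠ d → ∃ U, IsSyl 2 U (N c) ∧
  ZZ U ≤ stabilizer G d ∧ N c ⊓ stabilizer G d ≤ nor U

/-- strong closure -/
def SC (N : Ω → Subgroup G) : Prop :=
  ∀ (c d : Ω) (z : G), z ∈ N d → z * z = 1 → z • c = c → z ∈ N c

/-- lines -/
def LN (N : Ω → Subgroup G) : Prop :=
  ∀ c d : Ω, c ≠ d → ∃ U, IsSyl 2 U (N c) ∧ IsSyl 2 U (N d)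

/-- line groups -/
def Ln (N : Ω → Subgroup G) (U : Subgroup G) : Prop := ∃ c, IsSyl 2 U (N c)

/-- the points of a line -/
def Fx (Ω : Type*) [MulAction G Ω] (U : Subgroup G) : Set Ω := {c | ∀ x ∈ U, x • c = c}

/-- The linear space of case S: lines have `f` points, line groups have order `m`. -/
structure LK (N : Ω → Subgroup G) (f m : ℕ) : Prop where
  syl : ∀ U, Ln N U → ∀ c, IsSyl 2 U (N c) ↔ c ∈ Fx Ω U
  fix : ∀ U, Ln N U → ∀ x ∈ U, x ≠ 1 → ∀ c : Ω, x • c = c → c ∈ Fx Ω U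
  ti : ∀ U U', Ln N U → Ln N U' → U ≠ U' → U ⊓ U' = ⊥
  line : ∀ c d : Ω, c ≠ d → ∃! U, Ln N U ∧ c ∈ Fx Ω U ∧ d ∈ Fx Ω U
  cU : ∀ U, Ln N U → Nat.card U = m
  cF : ∀ U, Ln N U → (Fx Ω U).ncard = f
  two : 2 ≤ f
  card : Nat.card Ω = f + (f - 1) * m
  dvd : f ∣ m
  stab : ∀ U, Ln N U → ∀ g : G, g ∈ nor U → ∀ c ∈ Fx Ω U, g • c ∈ Fx Ω U
  nor2 : ∀ U, Ln N U → ∀ (g : G), ∀ c ∈ Fx Ω U, ∀ d ∈ Fx Ω U, c ≠ d → g • c ∈ Fx Ω U →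
    g • d ∈ Fx Ω U → g ∈ nor U
  w : ∀ U, Ln N U → ∀ a ∈ Fx Ω U, ∀ g ∈ cen (N a), (∀ c ∈ Fx Ω U, g • c = c) → g = 1
  adj : ∀ U U', Ln N U → Ln N U' → U ≠ U' → U ⊓ nor U' ≠ ⊥ → Disjoint (Fx Ω U) (Fx Ω U') ∧
    U' ⊓ nor U ≠ ⊥ ∧ Nat.card ↥(U ⊓ nor U') ∣ f ∧
    ∀ x ∈ U' ⊓ nor U, x ≠ 1 → ∀ y ∈ U, y * x = x * y ↔ y ∈ nor U'
  par : ∀ U, Ln N U → ∀ z ∈ ZZ U, z ≠ 1 →
    f * {U' | Ln N U' ∧ U' ≠ U ∧ z ∈ nor U'}.ncard = (f - 1) * m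

/-- the socle -/
structure Soc (N : Ω → Subgroup G) (L : Subgroup G) : Prop where
  normal : L.Normal
  simple : IsSimpleGroup L
  nab : ¬ IsMulCommutative L
  cen : cen L = ⊥
  le : ∀ c, N c ≤ L

end Defs

/-! ### The models -/

def JobL2 : Prop := ∀ (F : Type) [Field F] [Fintype F] (n : ℕ), 2 ≤ n → Fintype.card F = 2 ^ n →
  BG (⊤ : Subgroup (PSL2 F)) (2 ^ n)

def JobSz : Prop := ∀ (F : Type) [Field F] [Fintype F] (m : ℕ), 1 ≤ m →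
  Fintype.card F = 2 ^ (2 * m + 1) → BG (⊤ : Subgroup (Lie.Sz F (2 ^ (m + 1)))) (2 ^ (2 * m + 1))

def JobU3 : Prop := ∀ (F : Type) [Field F] [Fintype F] (n : ℕ), 2 ≤ n →
  Fintype.card F = (2 ^ n) ^ 2 → BG (⊤ : Subgroup (PSU 3 F (2 ^ n))) (2 ^ n)

/-- The three models together. -/
def JobBG : Prop := ∀ (G : Type u) [Group G] (N : Subgroup G), H99.BenderGroup N → ∃ q, BG N q

/-! ### Local jobs -/

/-- Automorphisms that are inner. -/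
def JobKA : Prop := ∀ (G : Type u) [Group G] [Finite G] (N U V : Subgroup G) (q : ℕ), BF N U V q →
  (∀ k ∈ nor N, k ∈ nor U → k ∈ cen (ZZ U) → TV U k → ∃ x ∈ U, x⁻¹ * k ∈ cen N) ∧
  ∀ R : Subgroup G, IsPGroup 2 R → R ≤ nor N → R ≤ nor U → DD N U V ≤ nor R →
    ∀ r ∈ R, ∃ x ∈ U, x⁻¹ * r ∈ cen N

/-- Fibres of squaring; involutions normalising the Singer cycle. -/
def JobKB : Prop := ∀ (G : Type u) [Group G] [Finite G] (N U V : Subgroup G) (q : ℕ), BF N U V q →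
  (∀ R : Subgroup G, IsPGroup 2 R → R ≤ nor U → ∀ y ∈ ZZ U, y ≠ 1 → (∀ r ∈ R, r * y = y * r) →
    ¬ U ≤ ZZ U → ∃ x ∈ U, x * x = y ∧ ∀ r ∈ R, r * x * r⁻¹ * x⁻¹ ∈ ZZ U) ∧
  (¬ U ≤ ZZ U → Nat.card U ≤ 2 * q ^ 2 → Nat.card U = q ^ 2 ∧
    ∀ x ∈ U, ∀ y ∈ U, x * x = y * y → x * y⁻¹ ∈ ZZ U) ∧
  (∀ x ∈ nor N, x ∈ nor U → x * x = 1 → x ∉ cen (ZZ U) →
    Nat.card ↥(ZZ U ⊓ centralizer {x}) ^ 2 = q ∧
      ∀ c ∈ ZZ U, c * x = x * c → ∃ w ∈ ZZ U, x * w * x⁻¹ * w⁻¹ = c) ∧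
  ∀ x ∈ nor N, ∀ y ∈ nor N, x ∈ nor U → y ∈ nor U → x * x = 1 → y * y = 1 → x * y = y * x →
    x ∈ cen (ZZ U) ∨ y ∈ cen (ZZ U) ∨ x * y ∈ cen (ZZ U)

/-- Adjacent pairs are bad, full or of type I. -/
def JobPR : Prop := ∀ (G : Type u) [Group G] [Finite G] (N U V N' U' V' : Subgroup G) (q : ℕ),
  BF N U V q → BF N' U' V' q → Nat.card U = Nat.card U' → U ⊓ nor U' ≠ ⊥ → U' ⊓ nor U ≠ ⊥ →
  (∀ x ∈ U' ⊓ nor U, x ≠ 1 → ∀ y ∈ U, y * x = x * y ↔ y ∈ nor U') →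
  (∀ x ∈ U ⊓ nor U', x ≠ 1 → ∀ y ∈ U', y * x = x * y ↔ y ∈ nor U) →
  (U ≤ ZZ U ∧ ¬ U ≤ nor U' ∧ Nat.card ↥(U ⊓ nor U') = Nat.card ↥(U' ⊓ nor U)) ∨
    (U ≤ nor U' ∧ U' ≤ nor U) ∨
    (U ⊓ nor U' = ZZ U ∧ U' ⊓ nor U = ZZ U' ∧ ¬ U ≤ ZZ U ∧ Nat.card U = q ^ 2)

/-! ### Case S -/

def JobLU : Prop := ∀ (G : Type u) (Ω : Type v) [Group G] [Finite G] [MulAction G Ω]
  (N : Ω → Subgroup G) (q : ℕ), Hy N q → CS N → LN N

def JobLZ : Prop := ∀ (G : Type u) (Ω : Type v) [Group G] [Finite G] [MulAction G Ω]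
  (N : Ω → Subgroup G) (q : ℕ), Hy N q → ZL N →
  (∀ c d : Ω, c ≠ d → Even (Nat.card ↥(N c ⊓ N d))) → SC N

def JobLK : Prop := ∀ (G : Type u) (Ω : Type v) [Group G] [Finite G] [MulAction G Ω]
  (N : Ω → Subgroup G) (q : ℕ), Hy N q → LN N → ∃ f m, LK N f m

/-- The affine plane. -/
def JobFull : Prop := ∀ (G : Type u) (Ω : Type v) [Group G] [Finite G] [MulAction G Ω]
  (N : Ω → Subgroup G) (q f : ℕ), Hy N q → LK N f f → Aff G Ω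

def JobI : Prop := ∀ (G : Type u) (Ω : Type v) [Group G] [Finite G] [MulAction G Ω]
  (N : Ω → Subgroup G) (q f m : ℕ), Hy N q → LK N f m → f ≠ m → m = q

def JobBad : Prop := ∀ (G : Type u) (Ω : Type v) [Group G] [Finite G] [MulAction G Ω]
  (N : Ω → Subgroup G) (q f : ℕ), Hy N q → LK N f q → f ≠ q → q = 4 ∧ f = 2

/-! ### Case NS -/

def JobSoc : Prop := ∀ (G : Type u) (Ω : Type v) [Group G] [Finite G] [MulAction G Ω]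
  (N : Ω → Subgroup G) (q : ℕ), Hy N q → Odd (Nat.card Ω) → ¬ Aff G Ω → ∃ L, Soc N L

def JobH : Prop := ∀ (G : Type u) (Ω : Type v) [Group G] [Finite G] [MulAction G Ω]
  (N : Ω → Subgroup G) (q : ℕ) (L : Subgroup G), Hy N q → Odd (Nat.card Ω) → Soc N L →
  ¬ ∀ c d : Ω, c ≠ d → Odd (Nat.card ↥(N c ⊓ stabilizer G d))

def JobG1 : Prop := ∀ (G : Type u) (Ω : Type v) [Group G] [Finite G] [MulAction G Ω]
  (N : Ω → Subgroup G) (q : ℕ), Hy N q → NS N →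
  (∀ c d : Ω, c ≠ d → Even (Nat.card ↥(N c ⊓ stabilizer G d))) →
  ¬ ∀ c d : Ω, c ≠ d → Odd (Nat.card ↥(N c ⊓ N d))

def JobG2 : Prop := ∀ (G : Type u) (Ω : Type v) [Group G] [Finite G] [MulAction G Ω]
  (N : Ω → Subgroup G) (q : ℕ), Hy N q →
  (∀ c d : Ω, c ≠ d → Even (Nat.card ↥(N c ⊓ N d))) → SC N

def JobSC : Prop := ∀ (G : Type u) (Ω : Type v) [Group G] [Finite G] [MulAction G Ω]
  (N : Ω → Subgroup G) (q : ℕ) (L : Subgroup G), Hy N q → Odd (Nat.card Ω) → Soc N L → SC N →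
  (∀ c d : Ω, c ≠ d → Even (Nat.card ↥(N c ⊓ stabilizer G d))) →
  Nat.card Ω = 11 ∧ (∀ c, Nat.card (N c) = 60) ∧
    ∃ (F : Type) (_ : Field F) (_ : Fintype F), Fintype.card F = 11 ∧ Nonempty (L ≃* PSL2 F)

def JobG11 : Prop := ∀ (G : Type u) (Ω : Type v) [Group G] [Finite G] [MulAction G Ω]
  (N : Ω → Subgroup G) (q : ℕ) (L : Subgroup G), Hy N q → Soc N L → Nat.card Ω = 11 →
  (∀ c, Nat.card (N c) = 60) → Nat.card L = 660 → L = ⊤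

def JobN6 : Prop := ∀ (G : Type u) (Ω : Type v) [Group G] [Finite G] [MulAction G Ω] (a : Ω),
  T2 G Ω → Nat.card Ω = 6 → 60 ∣ Nat.card (stabilizer G a) →
  Nonempty (G ≃* alternatingGroup (Fin 6)) ∨ Nonempty (G ≃* Equiv.Perm (Fin 6))

end H82.HR
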