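import Cfsg.Agent.H82.FSSpec2
import Cfsg.Agent.H99.BenderA
import Cfsg.Agent.H82.HRSpec

/-! Tower FS, part 3 (blueprints/FS.md). -/

set_option autoImplicit false

namespace H82.FS

open Cfsg Subgroup
open scoped commutatorElement

universe u v

section Defs

variable {G : Type u} [Group G]

structure ConjF (r : ℕ) (A X : Subgroup G) : Prop where
  tr : ∀ Y, Blk r A Y → ∃ c ∈ centralizer (A : Set G), Y = cj c X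
  syl : ∃ S : Sylow r G, X ≤ S ∧ (S : Subgroup G) ≤ normalizer (X : Set G)
  dec : ∀ m ∈ normalizer (X : Set G), ∃ y ∈ X, y⁻¹ * m ∈ centralizer (A : Set G)
  cz : ∀ z ∈ ⁅X, X⁆, z ≠ 1 → centralizer ({z} : Set G) ≤ normalizer (X : Set G)
  ti : ∀ g, ∀ z ∈ ⁅X, X⁆, z ≠ 1 → g * z * g⁻¹ ∈ ⁅X, X⁆ → g ∈ normalizer (X : Set G)
  ne : X ≠ ⊥ ∧ ∃ Y, Blk r A Y ∧ Y ≠ X

structure NbF (A X : Subgroup G) : Prop where
  nb : ∃ g, g ∉ normalizer (X : Set G) ∧ ∃ z ∈ ⁅X, X⁆, z ≠ 1 ∧ g * z * g⁻¹ ∈ normalizer (X : Set G)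
  full : ∀ g, g ∉ normalizer (X : Set G) →
    (∃ z ∈ ⁅X, X⁆, z ≠ 1 ∧ g * z * g⁻¹ ∈ normalizer (X : Set G)) →
    ∀ z ∈ ⁅X, X⁆, ∀ z' ∈ ⁅X, X⁆, Commute (g * z * g⁻¹) z'
  fpf : ∀ g, g ∉ normalizer (X : Set G) → ∀ z ∈ ⁅X, X⁆, z ≠ 1 →
    g * z * g⁻¹ ∈ normalizer (X : Set G) → ∀ u ∈ X, g * z * g⁻¹ ∉ centralizer (cj u A : Set G)

/-- The data for `r = 2` in the cover (centre `center G`). -/
structure Two (p : ℕ) (A X : Subgroup G) : Prop where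
  uni : Uni p 2 A
  an : An A
  iso : Iso A
  sol : ∀ R, Sp 2 A R → Cls 2 A R
  sp : Sp 2 A X
  nz : ¬ ⁅X, X⁆ ≤ center G
  dec : ∀ m ∈ normalizer (X : Set G), ∃ y ∈ X, y⁻¹ * m ∈ centralizer (A : Set G)
  f1 : ∀ z ∈ ⁅X, X⁆, z ∉ center G → ∀ g, ⁅g, z⁆ ∈ center G → g ∈ normalizer (X : Set G)
  ti : ∀ g, ∀ z ∈ ⁅X, X⁆, z ∉ center G → g * z * g⁻¹ ∈ ⁅X, X⁆ ⊔ center G →
    g ∈ normalizer (X : Set G)
  za : ∀ c ∈ centralizer (A : Set G), c ∉ normalizer (X : Set G) → ∀ z ∈ ⁅X, X⁆,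
    c * z * c⁻¹ ∈ normalizer (X : Set G) → z ∈ center G
  nb : ∃ g, g ∉ normalizer (X : Set G) ∧
    ∃ z ∈ ⁅X, X⁆, z ∉ center G ∧ g * z * g⁻¹ ∈ normalizer (X : Set G)
  full : ∀ g, g ∉ normalizer (X : Set G) →
    (∃ z ∈ ⁅X, X⁆, z ∉ center G ∧ g * z * g⁻¹ ∈ normalizer (X : Set G)) →
    ∀ z ∈ ⁅X, X⁆, ∀ z' ∈ ⁅X, X⁆, ⁅g * z * g⁻¹, z'⁆ ∈ center G
  fpf : ∀ g, g ∉ normalizer (X : Set G) → ∀ z ∈ ⁅X, X⁆, z ∉ center G →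
    g * z * g⁻¹ ∈ normalizer (X : Set G) → ∀ u ∈ X, g * z * g⁻¹ ∉ centralizer (cj u A : Set G)

/-- A neighbour that does not commute with `⁅X, X⁆` in the cover. -/
def Non (X : Subgroup G) : Prop := ∃ g, g ∉ normalizer (X : Set G) ∧
  (∃ z ∈ ⁅X, X⁆, z ∉ center G ∧ g * z * g⁻¹ ∈ normalizer (X : Set G)) ∧
    ∃ z ∈ ⁅X, X⁆, ∃ z' ∈ ⁅X, X⁆, ¬ Commute (g * z * g⁻¹) z'

/-- `N(X) ∩ C(A) ∩ C(⁅X, X⁆)`. -/
def Gam (A X : Subgroup G) : Subgroup G :=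
  normalizer (X : Set G) ⊓ centralizer (A : Set G) ⊓ centralizer ((⁅X, X⁆ : Subgroup G) : Set G)

/-- No fixed point. -/
def Fpf (A X : Subgroup G) : Prop := ∀ g, g ∉ normalizer (X : Set G) → ∀ z ∈ ⁅X, X⁆, z ≠ 1 →
  g * z * g⁻¹ ∈ normalizer (X : Set G) → ∀ u ∈ X, g * z * g⁻¹ ∉ centralizer (cj u A : Set G)

/-- The rank one group `Δ ≤ C(A)` acting on the blocks at `A`. -/
structure Del (A X Δ S : Subgroup G) : Prop where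
  le : Δ ≤ centralizer (A : Set G)
  nor : centralizer (A : Set G) ≤ normalizer (Δ : Set G)
  zs : ⁅X, X⁆ ≤ S
  sd : S ≤ Δ
  s2 : IsPGroup 2 S
  sc : S ≤ centralizer ((⁅X, X⁆ : Subgroup G) : Set G)
  reg : ∀ Y Y', Blk 2 A Y → Blk 2 A Y' → Y ≠ X → Y' ≠ X → ∃ s ∈ S, Y' = cj s Y
  free : ∀ Y, Blk 2 A Y → Y ≠ X → S ⊓ normalizer (Y : Set G) = ⊥
  tr : ∀ W, Blk 2 A W → ∃ d ∈ Δ, W = cj d X
  trz : ∀ z ∈ ⁅X, X⁆, ∀ z' ∈ ⁅X, X⁆, z ≠ 1 → z' ≠ 1 →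
    ∃ d ∈ Δ, d ∈ normalizer (X : Set G) ∧ d * z * d⁻¹ = z'

/-- Case (a). -/
def DelA (A X Δ : Subgroup G) : Prop := ∃ (l : ℕ) (K : Subgroup G), l.Prime ∧ l ≠ 2 ∧
  IsPGroup l K ∧ K ≤ Δ ⊓ centralizer ((⁅X, X⁆ : Subgroup G) : Set G) ∧
  (∀ K' : Subgroup G, IsPGroup l K' → K' ≤ Δ ⊓ centralizer ((⁅X, X⁆ : Subgroup G) : Set G) →
    K ≤ K' → K' = K) ∧
  ∃ Y, Blk 2 A Y ∧ Y ≠ X ∧ K ≤ normalizer (Y : Set G) ∧
    ∀ Y', Blk 2 A Y' → Y' ≠ X → K ≤ normalizer (Y' : Set G) → ∃ z ∈ ⁅X, X⁆, Y' = cj z Y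

/-- Case (b). -/
def DelB (X S : Subgroup G) : Prop := ∃ n : ℕ, Odd n ∧ 3 ≤ n ∧
  Nat.card (⁅X, X⁆ : Subgroup G) = 2 ^ n ∧ Nat.card S = 2 ^ (2 * n)

/-- No nontrivial span lies in two blocks. -/
def NoBad (A : Subgroup G) : Prop :=
  ∀ L X Y, Sp 2 A L → Blk 2 A X → Blk 2 A Y → X ≠ Y → L ≤ X → L ≤ Y → L = ⊥

/-- Sylow `2`-subgroups of a central extension of a Bender group. -/
structure Syl2 (S : Sylow 2 G) (Z : Subgroup G) : Prop where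
  inv : ∀ s, s ∈ Z ↔ s ∈ S ∧ s ^ 2 = 1
  cen : (S : Subgroup G) ≤ centralizer (Z : Set G)
  reg : ∀ T T' : Sylow 2 G, T ≠ S → T' ≠ S → ∃ s ∈ S, T' = s • T
  free : ∀ T : Sylow 2 G, T ≠ S → ∀ s ∈ S, s • T = T → s = 1
  trz : ∀ z ∈ Z, ∀ z' ∈ Z, z ≠ 1 → z' ≠ 1 → ∃ d : G, d • S = S ∧ d * z * d⁻¹ = z'
  alt : (∃ (l : ℕ) (K : Subgroup G), l.Prime ∧ l ≠ 2 ∧ IsPGroup l K ∧ K ≤ centralizer (Z : Set G) ∧
      (∀ K' : Subgroup G, IsPGroup l K' → K' ≤ centralizer (Z : Set G) → K ≤ K' → K' = K) ∧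
      ∃ T : Sylow 2 G, T ≠ S ∧ (∀ k ∈ K, k • T = T) ∧
        ∀ T' : Sylow 2 G, T' ≠ S → (∀ k ∈ K, k • T' = T') → ∃ z ∈ Z, T' = z • T) ∨
    ∃ n : ℕ, Odd n ∧ 3 ≤ n ∧ Nat.card Z = 2 ^ n ∧ Nat.card (S : Subgroup G) = 2 ^ (2 * n)

/-- A central extension of a Bender group by a group of odd order. -/
def CB (D : Type u) [Group D] : Prop := ∃ (O : Subgroup D) (_ : O.Normal), O ≤ center D ∧
  Odd (Nat.card O) ∧ H99.BenderGroup (D ⧸ O)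

/-- `z` is central in `T_δ`. -/
def Zc {Ω : Type v} [MulAction G Ω] (T : Subgroup G) (δ : Ω) (z : G) : Prop :=
  z ∈ T ∧ z • δ = δ ∧ ∀ t ∈ T, t • δ = δ → Commute z t

/-- `N` is a minimal normal subgroup that is not simple, `T` one of its simple factors. -/
structure Soc (N T : Subgroup G) : Prop where
  norm : N.Normal
  min : ∀ M : Subgroup G, M.Normal → M ≤ N → M = ⊥ ∨ M = N
  le : T ≤ N
  ne : T ≠ N
  tn : N ≤ normalizer (T : Set G)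
  simple : IsSimpleGroup T
  nab : ¬ IsMulCommutative T
  dec : ∀ n ∈ N, ∃ t ∈ T, t⁻¹ * n ∈ centralizer (T : Set G)
  comm : ∀ g, cj g T ≠ T → cj g T ≤ centralizer (T : Set G)

end Defs

/-! ### `r = 2` -/

def JobConj : Prop := ∀ (G : Type u) [Group G] [Finite G] (p r : ℕ) (A N X : Subgroup G),
  Geo p r A N → Iso A → Blk r A X → ConjF r A X

def JobNbA : Prop := ∀ (G : Type u) [Group G] [Finite G] (p : ℕ) (A N X : Subgroup G),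
  Geo p 2 A N → Iso A → BlkF 2 A → Blk 2 A X → ConjF 2 A X → ⁅X, X⁆ ≠ ⊥ →
  (∃ g, g ∉ normalizer (X : Set G) ∧ ∃ z ∈ ⁅X, X⁆, z ≠ 1 ∧ g * z * g⁻¹ ∈ normalizer (X : Set G)) ∧
    Fpf A X

def JobNbB : Prop := ∀ (G : Type u) [Group G] [Finite G] (p : ℕ) (A N X : Subgroup G),
  Geo p 2 A N → Iso A → BlkF 2 A → Blk 2 A X → ConjF 2 A X → Fpf A X →
  ∀ g, g ∉ normalizer (X : Set G) →
    (∃ z ∈ ⁅X, X⁆, z ≠ 1 ∧ g * z * g⁻¹ ∈ normalizer (X : Set G)) →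
    ∀ z ∈ ⁅X, X⁆, ∀ z' ∈ ⁅X, X⁆, Commute (g * z * g⁻¹) z'

def JobLift : Prop := ∀ (G : Type u) [Group G] [Finite G] (p : ℕ) (A : Subgroup G)
  (N X : Subgroup (G ⧸ center G)), Uni p 2 A → An A → Iso A → (∀ R, Sp 2 A R → Cls 2 A R) →
  Loc 2 A → Geo p 2 (bar A) N → BlkF 2 (bar A) → Blk 2 (bar A) X → ConjF 2 (bar A) X →
  ⁅X, X⁆ ≠ ⊥ → NbF (bar A) X →
  ∃ Y : Subgroup G, Two p A Y ∧ bar Y = X ∧
    normalizer (Y : Set G) = (normalizer (X : Set (G ⧸ center G))).comap (QuotientGroup.mk' _)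

/-- `2`-elements of `C(A)` centralising `⁅X, X⁆` centralise `X`. -/
def JobAN : Prop := ∀ (G : Type u) [Group G] [Finite G] (p : ℕ) (A X : Subgroup G),
  Uni p 2 A → An A → Sp 2 A X → Cls 2 A X → ∀ c ∈ centralizer (A : Set G),
  c ∈ normalizer (X : Set G) → c ∈ centralizer ((⁅X, X⁆ : Subgroup G) : Set G) →
  ∀ k : ℕ, c ^ 2 ^ k = 1 → c ∈ centralizer (X : Set G)

def JobNon : Prop := JobAN.{u} → ∀ (G : Type u) [Group G] [Finite G] (p : ℕ) (A X : Subgroup G),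
  Two p A X → Non X

/-- Two commuting involutory actions have the same commutator with `z`. -/
def JobTw : Prop := ∀ (G : Type u) [Group G] [Finite G] (p : ℕ) (A X : Subgroup G),
  Uni p 2 A → An A → Sp 2 A X → Cls 2 A X →
  (∀ z ∈ ⁅X, X⁆, ∀ z' ∈ ⁅X, X⁆, z ∉ center G → z' ∉ center G → z * z' ∈ center G) →
  ∀ z ∈ ⁅X, X⁆, ∀ e ∈ centralizer (A : Set G), ∀ e' ∈ centralizer (A : Set G),
  e ∈ normalizer (X : Set G) → e' ∈ normalizer (X : Set G) →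
  (∀ y ∈ X, ⁅e ^ 2, y⁆ ∈ ⁅X, X⁆) → (∀ y ∈ X, ⁅e' ^ 2, y⁆ ∈ ⁅X, X⁆) →
  (∀ y ∈ X, ⁅⁅e, e'⁆, y⁆ ∈ ⁅X, X⁆) → ⁅e, z⁆ ∈ center G → ⁅e', z⁆ ∈ center G →
  ⁅e, z⁆ ≠ 1 → ⁅e', z⁆ ≠ 1 → ⁅e, z⁆ = ⁅e', z⁆

def JobCW : Prop := ∀ (G : Type u) [Group G] [Finite G] (A P : Subgroup G) (ζ : G),
  IsCyclic A → A ≤ normalizer (P : Set G) → ζ ^ 2 = 1 → ⁅P, P⁆ ≤ zpowers ζ →
  P ⊓ centralizer (A : Set G) ≤ centralizer (P : Set G) → ⁅P, P⁆ ≤ centralizer (A : Set G) →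
  (∀ y ∈ P, y ^ 2 ∈ centralizer (A : Set G)) →
  (∀ u ∈ P, ∀ w ∈ orb A u ⊔ P ⊓ centralizer (A : Set G), w ∉ centralizer (A : Set G) →
    u ∈ orb A w ⊔ P ⊓ centralizer (A : Set G)) →
  (∃ u ∈ P, ∃ w ∈ P, u ∉ centralizer (A : Set G) ∧ w ∉ orb A u ⊔ P ⊓ centralizer (A : Set G)) →
  ∃ u ∈ P, u ∉ centralizer (A : Set G) ∧ ∀ a ∈ A, Commute u (a * u * a⁻¹)

def JobZ2 : Prop := JobTw.{u} → JobCW.{u} →
  ∀ (G : Type u) [Group G] [Finite G] (p : ℕ) (A X : Subgroup G),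
  Two p A X → (∀ z ∈ ⁅X, X⁆, ∀ z' ∈ ⁅X, X⁆, z ∉ center G → z' ∉ center G → z * z' ∈ center G) →
  ¬ Non X

def JobPsi : Prop := ∀ (G : Type u) [Group G] [Finite G] (p : ℕ) (A X : Subgroup G),
  Two p A X → (∃ z ∈ ⁅X, X⁆, ∃ z' ∈ ⁅X, X⁆, z ∉ center G ∧ z' ∉ center G ∧ z * z' ∉ center G) →
  ∀ d ∈ normalizer (X : Set G), d ∈ centralizer (A : Set G) →
  (∀ z ∈ ⁅X, X⁆, ⁅d, z⁆ ∈ center G) → ∀ c ∈ centralizer (A : Set G), c ∉ normalizer (X : Set G) →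
  d ∈ normalizer (cj c X : Set G) → ∀ z ∈ ⁅X, X⁆, Commute d z

def JobPar : Prop := ∀ (G : Type u) [Group G] [Finite G] (p : ℕ) (A N X : Subgroup G),
  Geo p 2 A N → Sp 2 A X → ⁅X, X⁆ ≠ ⊥ → ∀ W : Subgroup G, ⁅X, X⁆ ≤ W → W ≤ X →
  A ≤ normalizer (W : Set G) → ∃ k, Nat.card W = Nat.card (⁅X, X⁆ : Subgroup G) * 4 ^ k

def JobBen : Prop := ∀ (L : Type u) [Group L] [Finite L], H99.BenderGroup L →
  ∃ (U V : Subgroup L) (q : ℕ), HR.BF ⊤ U V q ∧ (U ≤ HR.ZZ U ∨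
    (∃ d ∈ HR.DD ⊤ U V, d ≠ 1 ∧ d ∈ centralizer (HR.ZZ U : Set L)) ∨
    ∃ n : ℕ, Odd n ∧ 3 ≤ n ∧ q = 2 ^ n ∧ Nat.card U = 2 ^ (2 * n))

def JobZA1 : Prop := JobBen.{u} → ∀ (D : Type u) [Group D] [Finite D], CB D →
  ∀ S : Sylow 2 D, ∃ Z, Syl2 S Z

def JobZA2 : Prop := ∀ (G : Type u) [Group G] [Finite G] (p : ℕ) (A N X : Subgroup G),
  Geo p 2 A N → Iso A → BlkF 2 A → Blk 2 A X → ConjF 2 A X →
  4 ≤ Nat.card (⁅X, X⁆ : Subgroup G) → ∃ Δ : Subgroup G, Δ ≤ centralizer (A : Set G) ∧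
    centralizer (A : Set G) ≤ normalizer (Δ : Set G) ∧ ⁅X, X⁆ ≤ Δ ∧ CB Δ

def JobZA3 : Prop := ∀ (G : Type u) [Group G] [Finite G] (p : ℕ) (A N X Δ : Subgroup G),
  Geo p 2 A N → BlkF 2 A → Blk 2 A X → ConjF 2 A X → ⁅X, X⁆ ≠ ⊥ →
  Δ ≤ centralizer (A : Set G) → centralizer (A : Set G) ≤ normalizer (Δ : Set G) → ⁅X, X⁆ ≤ Δ →
  (∀ S : Sylow 2 Δ, ∃ Z, Syl2 S Z) → ∃ S, Del A X Δ S ∧ (DelA A X Δ ∨ DelB X S)

def JobZB : Prop := ∀ (G : Type u) [Group G] [Finite G] (p : ℕ) (A N X Δ S : Subgroup G),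
  Geo p 2 A N → Blk 2 A X → ⁅X, X⁆ ≠ ⊥ → Del A X Δ S → DelA A X Δ →
  ∀ K : Subgroup G, Gam A X ≤ normalizer (K : Set G) →
  (∀ d ∈ Gam A X, Odd (orderOf d) → d ∈ K) → ⁅X, X⁆ ≤ K →
  (∀ d ∈ Gam A X, ∀ Y, Blk 2 A Y → Y ≠ X → d ∈ normalizer (Y : Set G) → d ∈ K) → Gam A X ≤ K

def JobZC : Prop := ∀ (G : Type u) [Group G] [Finite G] (p : ℕ) (A N X Δ S : Subgroup G),
  Geo p 2 A N → Iso A → BlkF 2 A → BlkM 2 A → Blk 2 A X → ConjF 2 A X → Del A X Δ S → DelB X S →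
  NoBad A

def JobZD : Prop := JobPar.{u} →
  ∀ (G : Type u) [Group G] [Finite G] (p : ℕ) (A N X Δ S : Subgroup G),
  Geo p 2 A N → Iso A → Blk 2 A X → ConjF 2 A X → Del A X Δ S → DelB X S → ¬ NoBad A

/-! ### S3617 -/

def HZ : Prop := ∀ (X : Type u) [Group X] [Finite X] (Ω : Type v) [Finite Ω] [MulAction X Ω]
  [FaithfulSMul X Ω], MulAction.IsMultiplyPretransitive X Ω 2 → ∀ T : Subgroup X, T.Normal →
  IsSimpleGroup T → ¬ IsMulCommutative T → ∀ (γ : Ω) (x : X), x ∈ T → x • γ = γ →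
  (∀ t ∈ T, t • γ = γ → Commute x t) → x = 1

def JobHZ1 : Prop := ∀ (X : Type u) [Group X] [Finite X] (Ω : Type v) [Finite Ω] [MulAction X Ω]
  [FaithfulSMul X Ω], MulAction.IsMultiplyPretransitive X Ω 2 → ∀ T : Subgroup X, T.Normal →
  IsSimpleGroup T → ¬ IsMulCommutative T → ∀ (δ : Ω) (z : X), Zc T δ z → z ≠ 1 →
  (∀ β : Ω, z • β = β → β = δ) ∧ orderOf z ≠ 2

def JobHZ2 : Prop := ∀ (X : Type u) [Group X] [Finite X] (Ω : Type v) [Finite Ω] [MulAction X Ω]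
  [FaithfulSMul X Ω], MulAction.IsMultiplyPretransitive X Ω 2 → ∀ T : Subgroup X, T.Normal →
  (∀ (δ : Ω) (z : X), Zc T δ z → z ≠ 1 → ∀ β : Ω, z • β = β → β = δ) →
  ∀ (p : ℕ) (γ : Ω) (x : X), p.Prime → Zc T γ x → orderOf x = p → ∀ g : X, g • γ ≠ γ →
  (∀ z, Zc T γ z → z ^ p = 1 → z ∈ zpowers x) ∧ ∃ r : ℕ, r.Prime ∧ r ≠ p ∧
    IsPGroup r (kl (zpowers x) g) ∧ cj g (zpowers x) ≤ kl (zpowers x) g ⊔ zpowers x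

def JobHZL : Prop := JobHZ1.{u, v} → JobHZ2.{u, v} →
  ∀ (X : Type u) [Group X] [Finite X] (Ω : Type v) [Finite Ω] [MulAction X Ω]
  [FaithfulSMul X Ω], MulAction.IsMultiplyPretransitive X Ω 2 → ∀ T : Subgroup X, T.Normal →
  IsSimpleGroup T → ¬ IsMulCommutative T → ∀ (γ : Ω) (x : X), Zc T γ x → x ≠ 1 →
  ∃ (p r : ℕ) (A : Subgroup T), Uni p r A ∧ Iso A ∧ (Ab A ∨ An A)

/-- `HZ` for actions that need not be faithful. -/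
def HZ' : Prop := ∀ (H : Type u) [Group H] [Finite H] (Γ : Type v) [Finite Γ] [MulAction H Γ],
  MulAction.IsMultiplyPretransitive H Γ 2 → ∀ D : Subgroup H, D.Normal →
  (∀ E : Subgroup H, E.Normal → E ≤ D → E = ⊥ ∨ E = D) → ¬ IsMulCommutative D →
  (∃ d ∈ D, ∃ γ : Γ, d • γ ≠ γ) → IsSimpleGroup D ∧ ∀ γ : Γ,
    (∀ M : Subgroup H, D ⊓ MulAction.stabilizer H γ ≤ M → M ≤ D →
      M = D ⊓ MulAction.stabilizer H γ ∨ M = D) ∧ ∀ x, Zc D γ x → x = 1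

def JobT17H : Prop := HZ.{v, v} → HZ'.{u, v}

/-- The hypotheses of S3617. -/
structure Hy (G : Type u) (Ω : Type v) [Group G] [MulAction G Ω] (α β : Ω) : Prop where
  prim : MulAction.IsPreprimitive G Ω
  ne : β ≠ α
  two : 2 ≤ Nat.card ↥(MulAction.orbit ↥(MulAction.stabilizer G α) β)
  t2 : MulAction.IsMultiplyPretransitive ↥(MulAction.stabilizer G α)
    ↥(MulAction.orbit ↥(MulAction.stabilizer G α) β) 2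

def JobT17A : Prop := HZ'.{u, v} →
  ∀ (G : Type u) (Ω : Type v) [Group G] [Finite G] [MulAction G Ω] [FaithfulSMul G Ω] [Finite Ω]
  (α β : Ω), Hy G Ω α β → ∀ N : Subgroup G, N.Normal →
  (∀ M : Subgroup G, M.Normal → M ≤ N → M = ⊥ ∨ M = N) → ¬ IsMulCommutative N →
  centralizer (N : Set G) = ⊥

def JobT17B : Prop :=
  ∀ (G : Type u) (Ω : Type v) [Group G] [Finite G] [MulAction G Ω] [FaithfulSMul G Ω] [Finite Ω]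
  (α β : Ω), Hy G Ω α β → ∀ N T : Subgroup G, Soc N T → N ⊓ MulAction.stabilizer G α ≠ ⊥ →
  T ≤ N ⊓ MulAction.stabilizer G α ⊔ N ⊓ centralizer (T : Set G)

def JobT17C : Prop := HZ'.{u, v} →
  ∀ (G : Type u) (Ω : Type v) [Group G] [Finite G] [MulAction G Ω] [FaithfulSMul G Ω] [Finite Ω]
  (α β : Ω), Hy G Ω α β → ∀ N T : Subgroup G, Soc N T →
  ¬ T ≤ N ⊓ MulAction.stabilizer G α ⊔ N ⊓ centralizer (T : Set G)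

def JobT17 : Prop := JobT17A.{u, v} → JobT17B.{u, v} → JobT17C.{u, v} → HZ'.{u, v} →
  ∀ (G : Type u) (Ω : Type v) [Group G] [Finite G] [MulAction G Ω] [FaithfulSMul G Ω] [Finite Ω]
  (α β : Ω), Hy G Ω α β →
  (∃ T : Subgroup G, T.Normal ∧ IsSimpleGroup ↥T ∧ ¬ IsMulCommutative ↥T ∧
      centralizer (T : Set G) = ⊥) ∨
    (∃ N : Subgroup G, N.Normal ∧ N ≠ ⊥ ∧ (∀ M : Subgroup G, M.Normal → M ≠ ⊥ → N ≤ M) ∧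
      MulAction.IsPretransitive ↥N Ω ∧ ∀ ω : Ω, MulAction.stabilizer ↥N ω = ⊥)

end H82.FS
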