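import Cfsg.Agent.H82.FSSpec
import Cfsg.Agent.H46.Coprime

/-! Kit for tower FS. -/

set_option autoImplicit false
set_option linter.all false

namespace H82.FS

open Cfsg Subgroup
open scoped commutatorElement

universe u

variable {G : Type u} [Group G]

theorem mem_cj {g x : G} {H : Subgroup G} : x ∈ cj g H ↔ g⁻¹ * x * g ∈ H := by
  constructor
  · rintro ⟨y, hy, rfl⟩
    simpa [mul_assoc] using hy
  · intro h
    exact ⟨_, h, by simp [mul_assoc]⟩

theorem conj_mem_cj {g x : G} {H : Subgroup G} (h : x ∈ H) : g * x * g⁻¹ ∈ cj g H :=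
  mem_cj.2 (by simpa [mul_assoc] using h)

theorem cj_cj (g h : G) (H : Subgroup G) : cj g (cj h H) = cj (g * h) H := by
  ext x; simp only [mem_cj, mul_inv_rev, mul_assoc]

theorem cj_mul (g h : G) (H : Subgroup G) : cj (g * h) H = cj g (cj h H) := (cj_cj g h H).symm

theorem cj_one (H : Subgroup G) : cj 1 H = H := by ext x; rw [mem_cj]; simp

theorem cj_inv_cj (g : G) (H : Subgroup G) : cj g⁻¹ (cj g H) = H := by
  rw [cj_cj, inv_mul_cancel, cj_one]

theorem cj_cj_inv (g : G) (H : Subgroup G) : cj g (cj g⁻¹ H) = H := by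
  rw [cj_cj, mul_inv_cancel, cj_one]

theorem cj_inj {g : G} {H K : Subgroup G} (h : cj g H = cj g K) : H = K := by
  rw [← cj_inv_cj g H, h, cj_inv_cj]

theorem cj_mono (g : G) {H K : Subgroup G} (h : H ≤ K) : cj g H ≤ cj g K := map_mono h

theorem cj_sup (g : G) (H K : Subgroup G) : cj g (H ⊔ K) = cj g H ⊔ cj g K := map_sup _ _ _

theorem cj_inf (g : G) (H K : Subgroup G) : cj g (H ⊓ K) = cj g H ⊓ cj g K := by
  ext x; simp only [mem_cj, mem_inf]

theorem cj_comm (g : G) (H K : Subgroup G) : cj g ⁅H, K⁆ = ⁅cj g H, cj g K⁆ := map_commutator _ _ _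

theorem cj_bot (g : G) : cj g (⊥ : Subgroup G) = ⊥ := map_bot _

theorem cj_eq_iff {g : G} {H : Subgroup G} : cj g H = H ↔ g ∈ normalizer (H : Set G) := by
  rw [mem_normalizer_iff'']
  constructor
  · intro h x
    rw [← mem_cj, h]
  · intro h; ext x; rw [mem_cj]; exact (h x).symm

theorem cj_le_of {g : G} {A H : Subgroup G} (hA : A ≤ H) (hg : g ∈ H) : cj g A ≤ H := by
  rintro _ ⟨a, ha, rfl⟩
  exact H.mul_mem (H.mul_mem hg (hA ha)) (H.inv_mem hg)

theorem cj_le_of_norm {g : G} {A H : Subgroup G} (hA : A ≤ H) (hg : g ∈ normalizer (H : Set G)) :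
    cj g A ≤ H := by
  rw [← cj_eq_iff.2 hg]; exact cj_mono g hA

theorem card_cj (g : G) (H : Subgroup G) : Nat.card (cj g H) = Nat.card H :=
  card_map_of_injective (MulAut.conj g).injective

theorem cj_norm (g : G) (H : Subgroup G) :
    cj g (normalizer (H : Set G)) = normalizer (cj g H : Set G) := by
  ext x
  rw [mem_cj, ← cj_eq_iff, ← cj_eq_iff, cj_cj]
  constructor
  · intro h
    have : x * g = g * (g⁻¹ * x * g) := by group
    rw [this, cj_mul, h]
  · intro h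
    rw [mul_assoc, cj_mul, h, cj_inv_cj]

theorem cj_cen (g : G) (H : Subgroup G) :
    cj g (centralizer (H : Set G)) = centralizer (cj g H : Set G) := by
  ext x
  rw [mem_cj, mem_centralizer_iff, mem_centralizer_iff]
  constructor
  · rintro h _ ⟨a, ha, rfl⟩
    have := h a ha
    show g * a * g⁻¹ * x = x * (g * a * g⁻¹)
    calc g * a * g⁻¹ * x = g * (a * (g⁻¹ * x * g)) * g⁻¹ := by group
      _ = g * ((g⁻¹ * x * g) * a) * g⁻¹ := by rw [this]
      _ = _ := by group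
  · intro h a ha
    have := h _ (conj_mem_cj (g := g) ha)
    calc a * (g⁻¹ * x * g) = g⁻¹ * (g * a * g⁻¹ * x) * g := by group
      _ = g⁻¹ * (x * (g * a * g⁻¹)) * g := by rw [this]
      _ = _ := by group

theorem cj_eq_of_cen {g : G} {H : Subgroup G} (h : g ∈ centralizer (H : Set G)) : cj g H = H :=
  cj_eq_iff.2 (centralizer_le_normalizer _ h)

theorem norm_of_cj_le [Finite G] {g : G} {H : Subgroup G} (h : cj g H ≤ H) :
    g ∈ normalizer (H : Set G) :=
  cj_eq_iff.1 (eq_of_le_of_card_ge h (card_cj g H).ge)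

theorem le_norm_comm {H K L : Subgroup G} (hH : L ≤ normalizer (H : Set G))
    (hK : L ≤ normalizer (K : Set G)) : L ≤ normalizer ((⁅H, K⁆ : Subgroup G) : Set G) := by
  intro g hg
  rw [← cj_eq_iff, cj_comm, cj_eq_iff.2 (hH hg), cj_eq_iff.2 (hK hg)]

theorem le_norm_sup {H K L : Subgroup G} (hH : L ≤ normalizer (H : Set G))
    (hK : L ≤ normalizer (K : Set G)) : L ≤ normalizer ((H ⊔ K : Subgroup G) : Set G) := by
  intro g hg
  rw [← cj_eq_iff, cj_sup, cj_eq_iff.2 (hH hg), cj_eq_iff.2 (hK hg)]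

theorem le_norm_inf {H K L : Subgroup G} (hH : L ≤ normalizer (H : Set G))
    (hK : L ≤ normalizer (K : Set G)) : L ≤ normalizer ((H ⊓ K : Subgroup G) : Set G) := by
  intro g hg
  rw [← cj_eq_iff, cj_inf, cj_eq_iff.2 (hH hg), cj_eq_iff.2 (hK hg)]

theorem le_norm_cen {H L : Subgroup G} (hH : L ≤ normalizer (H : Set G)) :
    L ≤ normalizer ((centralizer (H : Set G) : Subgroup G) : Set G) := by
  intro g hg
  rw [← cj_eq_iff, cj_cen, cj_eq_iff.2 (hH hg)]

theorem le_norm_norm {H L : Subgroup G} (hH : L ≤ normalizer (H : Set G)) :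
    L ≤ normalizer ((normalizer (H : Set G) : Subgroup G) : Set G) := by
  intro g hg
  rw [← cj_eq_iff, cj_norm, cj_eq_iff.2 (hH hg)]

/-- `⁅W, A⁆ ≤ W` when `A` normalises `W`. -/
theorem comm_le_left {W A : Subgroup G} (h : A ≤ normalizer (W : Set G)) : ⁅W, A⁆ ≤ W := by
  rw [commutator_le]
  intro w hw a ha
  rw [commutatorElement_def, mul_assoc, mul_assoc]
  refine W.mul_mem hw ?_
  rw [← mul_assoc]
  exact (mem_normalizer_iff.1 (h ha) _).1 (W.inv_mem hw)

theorem comm_le_right {W A : Subgroup G} (h : W ≤ normalizer (A : Set G)) : ⁅W, A⁆ ≤ A := by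
  rw [commutator_comm]; exact comm_le_left h

/-- `W` normalises `⁅W, A⁆`. -/
theorem left_le_norm_comm [Finite G] (W A : Subgroup G) :
    W ≤ normalizer ((⁅W, A⁆ : Subgroup G) : Set G) := by
  intro u hu
  refine norm_of_cj_le ?_
  rw [map_le_iff_le_comap, commutator_le]
  intro w hw a ha
  show u * ⁅w, a⁆ * u⁻¹ ∈ ⁅W, A⁆
  have : u * ⁅w, a⁆ * u⁻¹ = ⁅u * w, a⁆ * ⁅u, a⁆⁻¹ := by
    simp only [commutatorElement_def]; group
  rw [this]
  exact mul_mem (commutator_mem_commutator (W.mul_mem hu hw) ha)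
    (inv_mem (commutator_mem_commutator hu ha))

theorem right_le_norm_comm [Finite G] (W A : Subgroup G) :
    A ≤ normalizer ((⁅W, A⁆ : Subgroup G) : Set G) := by
  rw [commutator_comm]; exact left_le_norm_comm A W

/-- Elements of `W ⊔ A` for `A ≤ N(W)`. -/
theorem mem_sup_norm {W A : Subgroup G} (h : A ≤ normalizer (W : Set G)) {x : G} (hx : x ∈ W ⊔ A) :
    ∃ w ∈ W, ∃ a ∈ A, x = w * a := by
  have : (x : G) ∈ ((W ⊔ A : Subgroup G) : Set G) := hx
  rw [coe_mul_of_right_le_normalizer_left _ _ h] at this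
  obtain ⟨w, hw, a, ha, rfl⟩ := this
  exact ⟨w, hw, a, ha, rfl⟩

/-- "`c` centralises `⁅W, A⁆`". -/
theorem cen_comm {W A Z : Subgroup G} {c : G} (hc : c ∈ centralizer (A : Set G))
    (hZ : ∀ w ∈ W, ⁅w, c⁆ ∈ Z)
    (hZA : Z ≤ centralizer (A : Set G)) (hZW : Z ≤ centralizer (W : Set G)) :
    ⁅W, A⁆ ≤ centralizer ({c} : Set G) := by
  rw [commutator_le]
  intro w hw a ha
  rw [mem_centralizer_singleton_iff]
  have h1 : a * c = c * a := hc a ha
  set z := ⁅w, c⁆ with hz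
  have hzz := hZ w hw
  have e1 : w * c * w⁻¹ = z * c := by rw [hz, commutatorElement_def]; group
  have h2 : a * z = z * a := hZA hzz a ha
  have h3 : w * z = z * w := hZW hzz w hw
  -- `a w⁻¹ a⁻¹` conjugates `c` to `z⁻¹ c`
  have e2 : w⁻¹ * c * w = z⁻¹ * c := by
    have : w⁻¹ * (z * c) * w = c := by rw [← e1]; group
    calc w⁻¹ * c * w = w⁻¹ * z⁻¹ * (z * c) * w := by group
      _ = z⁻¹ * (w⁻¹ * (z * c) * w) := by
        have : w⁻¹ * z⁻¹ = z⁻¹ * w⁻¹ := by rw [← mul_inv_rev, ← mul_inv_rev, h3]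
        rw [this]; group
      _ = _ := by rw [this]
  have e3 : a * z⁻¹ = z⁻¹ * a := (Commute.inv_right h2)
  have e4 : w * z⁻¹ = z⁻¹ * w := (Commute.inv_right h3)
  have : ⁅w, a⁆ * c * ⁅w, a⁆⁻¹ = c := by
    calc ⁅w, a⁆ * c * ⁅w, a⁆⁻¹ = w * (a * (w⁻¹ * (a⁻¹ * c * a) * w) * a⁻¹) * w⁻¹ := by
          rw [commutatorElement_def]; group
      _ = w * (a * (z⁻¹ * c) * a⁻¹) * w⁻¹ := by
          rw [show a⁻¹ * c * a = c by rw [mul_assoc, ← h1]; group, e2]
      _ = w * (z⁻¹ * c) * w⁻¹ := by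
          rw [← mul_assoc a, e3, mul_assoc z⁻¹, h1]; group
      _ = z⁻¹ * (w * c * w⁻¹) := by rw [← mul_assoc w, e4]; group
      _ = c := by rw [e1]; group
  calc ⁅w, a⁆ * c = ⁅w, a⁆ * c * ⁅w, a⁆⁻¹ * ⁅w, a⁆ := by group
    _ = _ := by rw [this]

section Lin

variable [Finite G] {p r : ℕ} {A : Subgroup G}

theorem Lin.solv (hL : Lin p r A) : Group.IsSolvable A := by
  haveI := Fact.mk hL.hp
  haveI : IsCyclic A := isCyclic_of_prime_card hL.card
  exact isSolvable_of_comm fun a b => by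
    letI := IsCyclic.commGroup (α := A); exact mul_comm a b

theorem Lin.comm (hL : Lin p r A) : A ≤ centralizer (A : Set G) := by
  haveI := Fact.mk hL.hp
  haveI : IsCyclic A := isCyclic_of_prime_card hL.card
  intro a ha b hb
  letI := IsCyclic.commGroup (α := A)
  exact congrArg Subtype.val (mul_comm (⟨b, hb⟩ : A) ⟨a, ha⟩)

theorem Lin.pgp (hL : Lin p r A) : IsPGroup p A :=
  IsPGroup.of_card (n := 1) (by rw [hL.card, pow_one])

theorem Lin.cop (hL : Lin p r A) {W : Subgroup G} (hW : IsPGroup r W) :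
    (Nat.card A).Coprime (Nat.card W) := by
  haveI := Fact.mk hL.hr
  obtain ⟨n, hn⟩ := IsPGroup.iff_card.1 hW
  rw [hL.card, hn]
  exact Nat.Coprime.pow_right _ ((Nat.coprime_primes hL.hp hL.hr).2 hL.pr.symm)

theorem Lin.inf_bot (hL : Lin p r A) {W : Subgroup G} (hW : IsPGroup r W) : A ⊓ W = ⊥ :=
  H46.inf_eq_bot_of_coprime' (hL.cop hW)

/-- A subgroup of `A` is `⊥` or `A`. -/
theorem Lin.le_or (hL : Lin p r A) (H : Subgroup G) : A ⊓ H = ⊥ ∨ A ≤ H := by
  have h := card_dvd_of_le (inf_le_left : A ⊓ H ≤ A)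
  rw [hL.card] at h
  rcases (Nat.dvd_prime hL.hp).1 h with h | h
  · exact Or.inl (card_eq_one.1 h)
  · right
    have := eq_of_le_of_card_ge (inf_le_left : A ⊓ H ≤ A) (by rw [h, hL.card])
    exact this ▸ inf_le_right

theorem Lin.ne_bot (hL : Lin p r A) : A ≠ ⊥ := fun h => by
  have := hL.card; rw [h, card_bot] at this; exact hL.hp.one_lt.ne this

theorem kl_le_ln (A : Subgroup G) (g : G) : kl A g ≤ ln A g := comm_le_left le_normalizer

theorem ln_le_norm_kl (A : Subgroup G) (g : G) : ln A g ≤ normalizer (kl A g : Set G) :=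
  left_le_norm_comm _ _

theorem A_le_norm_kl (A : Subgroup G) (g : G) : A ≤ normalizer (kl A g : Set G) :=
  le_sup_left.trans (ln_le_norm_kl A g)

theorem Lin.ln_eq (hL : Lin p r A) (g : G) : ln A g = kl A g ⊔ A :=
  le_antisymm (sup_le le_sup_right (hL.sub g)) (sup_le (kl_le_ln A g) le_sup_left)

/-- An `r`-subgroup (more generally a `p'`-subgroup) of `W ⊔ A` lies in `W`. -/
theorem le_of_le_sup_cop {W L : Subgroup G} (hA : A ≤ normalizer (W : Set G)) (hL : L ≤ W ⊔ A)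
    (hc : (Nat.card A).Coprime (Nat.card L)) : L ≤ W := by
  intro y hy
  obtain ⟨w, hw, a, ha, rfl⟩ := mem_sup_norm hA (hL hy)
  -- `(w a)^n ∈ W a^n`
  have key : ∀ n : ℕ, (w * a) ^ n * (a ^ n)⁻¹ ∈ W := by
    intro n
    induction n with
    | zero => simp
    | succ n ih =>
      have : (w * a) ^ (n + 1) * (a ^ (n + 1))⁻¹ =
          (w * a) ^ n * (a ^ n)⁻¹ * (a ^ n * w * (a ^ n)⁻¹) := by rw [pow_succ, pow_succ]; group
      rw [this]
      exact W.mul_mem ih ((mem_normalizer_iff.1 (hA (A.pow_mem ha n)) _).1 hw)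
  have h1 : (w * a) ^ Nat.card A ∈ W := by
    have := key (Nat.card A)
    rwa [show a ^ Nat.card A = 1 from congrArg Subtype.val (pow_card_eq_one' (x := (⟨a, ha⟩ : A))),
      inv_one, mul_one] at this
  have h2 : (orderOf (w * a)).Coprime (Nat.card A) :=
    (Nat.Coprime.coprime_dvd_right (Subgroup.orderOf_dvd_natCard L hy) hc).symm
  obtain ⟨m, hm⟩ := exists_pow_eq_self_of_coprime (x := w * a) h2.symm
  rw [← hm]; exact W.pow_mem h1 m

theorem sp_comm (hL : Lin p r A) {W : Subgroup G} (hW : IsPGroup r W)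
    (hA : A ≤ normalizer (W : Set G)) : Sp r A ⁅W, A⁆ :=
  ⟨hW.to_le (comm_le_left hA), right_le_norm_comm W A,
    H46.coprime_commGid hA (hL.cop hW) (Or.inl hL.solv)⟩

/-- `W = ⁅W, A⁆ C_W(A)`. -/
theorem dec (hL : Lin p r A) {W : Subgroup G} (hW : IsPGroup r W)
    (hA : A ≤ normalizer (W : Set G)) {w : G} (hw : w ∈ W) :
    ∃ y ∈ ⁅W, A⁆, ∃ c ∈ W ⊓ centralizer (A : Set G), w = y * c := by
  have h := H46.coprime_cent_prod hA (hL.cop hW) (Or.inl hL.solv)
  exact mem_sup_norm (inf_le_left.trans (left_le_norm_comm W A)) (h.ge hw)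

theorem Lin.norm_cen (hL : Lin p r A) {W : Subgroup G} (hc : (Nat.card A).Coprime (Nat.card W))
    (hA : A ≤ normalizer (W : Set G)) {w : G} (hw : w ∈ W) (hn : w ∈ normalizer (A : Set G)) :
    w ∈ centralizer (A : Set G) := by
  intro a ha
  have h1 : ⁅w, a⁆ ∈ A ⊓ W := ⟨comm_le_right (W := zpowers w) (zpowers_le.2 hn)
    (commutator_mem_commutator (mem_zpowers w) ha),
    comm_le_left hA (commutator_mem_commutator hw ha)⟩
  rw [H46.inf_eq_bot_of_coprime' hc, mem_bot, commutatorElement_eq_one_iff_mul_comm] at h1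
  exact h1.symm

theorem Lin.exists_kl (hL : Lin p r A) (g : G) : ∃ k ∈ kl A g, cj g A = cj k A := by
  have hs : Group.IsSolvable (kl A g) := by
    haveI := Fact.mk hL.hr
    haveI := (hL.line g).isNilpotent
    infer_instance
  obtain ⟨n, hn, e⟩ := H46.exists_cj_le_of_le_sup (A := cj g A) (N := kl A g) (K := A)
    (le_sup_right.trans (ln_le_norm_kl A g)) (A_le_norm_kl A g)
    (by rw [card_cj]; exact hL.cop (hL.line g)) (Or.inr hs) (hL.sub g)
  refine ⟨n⁻¹, inv_mem hn, ?_⟩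
  have e' : cj n (cj g A) = A := eq_of_le_of_card_ge e (by rw [card_cj, card_cj])
  rw [← cj_inv_cj n (cj g A), e']

theorem cj_le_comm_sup {W : Subgroup G} {y : G} (hy : y ∈ W) : cj y A ≤ ⁅W, A⁆ ⊔ A := by
  rintro _ ⟨a, ha, rfl⟩
  have : y * a * y⁻¹ = ⁅y, a⁆ * a := by rw [commutatorElement_def]; group
  show y * a * y⁻¹ ∈ _
  rw [this]
  exact mul_mem_sup (commutator_mem_commutator hy ha) ha

theorem Lin.kl_sp (hL : Lin p r A) (g : G) : Sp r A (kl A g) := by
  refine ⟨hL.line g, A_le_norm_kl A g, le_antisymm (comm_le_left (A_le_norm_kl A g)) ?_⟩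
  obtain ⟨k, hk, e⟩ := hL.exists_kl g
  refine le_of_le_sup_cop (right_le_norm_comm _ _) ((kl_le_ln A g).trans ?_) (hL.cop (hL.line g))
  exact sup_le le_sup_right (e ▸ cj_le_comm_sup hk)

theorem Lin.eq_of_le (hL : Lin p r A) {g : G} (h : cj g A ≤ A) : cj g A = A :=
  eq_of_le_of_card_ge h (card_cj g A).ge

theorem Lin.kl_ne_bot (hL : Lin p r A) {g : G} (h : cj g A ≠ A) : kl A g ≠ ⊥ := fun e =>
  h (hL.eq_of_le (by simpa [e] using hL.sub g))

theorem Lin.kl_bot (hL : Lin p r A) {g : G} (h : cj g A = A) : kl A g = ⊥ := by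
  rw [kl, ln, h, sup_idem, commutator_eq_bot_iff_le_centralizer]; exact hL.comm

theorem ln_cj (A : Subgroup G) (h g : G) : ln (cj h A) g = cj h (ln A (h⁻¹ * g * h)) := by
  rw [ln, ln, cj_sup, cj_cj, cj_cj]; congr 2; group

theorem kl_cj (A : Subgroup G) (h g : G) : kl (cj h A) g = cj h (kl A (h⁻¹ * g * h)) := by
  rw [kl, kl, cj_comm, ln_cj]

theorem Lin.cj (hL : Lin p r A) (h : G) : Lin p r (cj h A) where
  hp := hL.hp
  p2 := hL.p2
  hr := hL.hr
  pr := hL.pr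
  card := by rw [card_cj, hL.card]
  gen := by
    rw [eq_top_iff, ← hL.gen]
    refine normalClosure_le_normal fun a ha => ?_
    have h1 : h * a * h⁻¹ ∈ normalClosure ((H82.FS.cj h A : Subgroup G) : Set G) :=
      subset_normalClosure (conj_mem_cj ha)
    have := (normalClosure_normal).conj_mem _ h1 h⁻¹
    simpa [mul_assoc] using this
  line g := by rw [kl_cj]; exact (hL.line _).map _
  sub g := by
    rw [kl_cj, ← cj_sup, cj_cj, show g * h = h * (h⁻¹ * g * h) by group, cj_mul]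
    exact cj_mono _ (hL.sub _)

theorem Lin.wc0 (hL : Lin p r A) {g : G} {P : Subgroup G} (hP : IsPGroup p P) (h1 : A ≤ P)
    (h2 : H82.FS.cj g A ≤ P) : H82.FS.cj g A = A := by
  by_contra h
  haveI := Fact.mk hL.hp
  haveI := Fact.mk hL.hr
  refine hL.kl_ne_bot h ?_
  have hle : kl A g ≤ P := (kl_le_ln A g).trans (sup_le h1 h2)
  have := IsPGroup.disjoint_of_ne r p hL.pr _ _ (hL.line g) hP
  exact le_bot_iff.1 (this le_rfl hle)

/-- Weak closure. -/
theorem Lin.wc (hL : Lin p r A) {g h : G} {P : Subgroup G} (hP : IsPGroup p P)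
    (h1 : H82.FS.cj h A ≤ P) (h2 : H82.FS.cj g A ≤ P) : H82.FS.cj g A = H82.FS.cj h A := by
  have := (hL.cj h).wc0 (g := g * h⁻¹) hP h1 (by rwa [cj_cj, inv_mul_cancel_right])
  rwa [cj_cj, inv_mul_cancel_right] at this

theorem Lin.eq_of_norm (hL : Lin p r A) {g : G} (h : H82.FS.cj g A ≤ normalizer (A : Set G)) :
    H82.FS.cj g A = A := by
  haveI := Fact.mk hL.hp
  exact hL.wc0 (IsPGroup.to_sup_of_normal_right' (hL.cj g).pgp hL.pgp h) le_sup_right le_sup_left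

theorem Lin.eq_of_comm (hL : Lin p r A) {g : G} (h : H82.FS.cj g A ≤ centralizer (A : Set G)) :
    H82.FS.cj g A = A := hL.eq_of_norm (h.trans (centralizer_le_normalizer _))

theorem Lin.kl_le (hL : Lin p r A) {W : Subgroup G} (hA : A ≤ normalizer (W : Set G)) {g : G}
    (hg : H82.FS.cj g A ≤ W ⊔ A) : kl A g ≤ W :=
  le_of_le_sup_cop hA ((kl_le_ln A g).trans (sup_le le_sup_right hg)) (hL.cop (hL.line g))

theorem Lin.kl_le' (hL : Lin p r A) {W : Subgroup G} (hA : A ≤ normalizer (W : Set G)) {y : G}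
    (hy : y ∈ W) : kl A y ≤ W :=
  hL.kl_le hA (cj_le_of le_sup_right (mem_sup_left hy))

/-- An `A`-invariant `{p, r}'`-group centralises `A`. -/
theorem Lin.cen_of_cop (hL : Lin p r A) {W : Subgroup G} (hA : A ≤ normalizer (W : Set G))
    (hc : (Nat.card A).Coprime (Nat.card W)) (hr : (Nat.card W).Coprime r) :
    W ≤ centralizer (A : Set G) := by
  intro w hw
  refine hL.norm_cen hc hA hw (cj_eq_iff.1 ?_)
  by_contra h
  refine hL.kl_ne_bot h ?_
  haveI := Fact.mk hL.hr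
  obtain ⟨n, hn⟩ := IsPGroup.iff_card.1 (hL.line w)
  have h1 := card_dvd_of_le (hL.kl_le' hA hw)
  rw [← card_eq_one]
  exact Nat.Coprime.eq_one_of_dvd (by rw [hn]; exact (hr.symm.pow_left n)) h1

/-- Something normal containing all points. -/
theorem Lin.top_of (hL : Lin p r A) {H : Subgroup G} (h : ∀ g, H82.FS.cj g A ≤ H) : H = ⊤ := by
  rw [eq_top_iff, ← hL.gen, normalClosure, closure_le]
  intro x hx
  obtain ⟨a, ha, hc⟩ := Group.mem_conjugatesOfSet_iff.1 hx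
  obtain ⟨g, rfl⟩ := isConj_iff.1 hc
  exact h g (conj_mem_cj ha)

theorem Sp.le_loc (hL : Lin p r A) {L R H : Subgroup G} (hs : Sp r A L) (hLH : L ≤ H) (hAH : A ≤ H)
    (hR : Sp r A R) (hpt : ∀ g, cj g A ≤ H → ∃ y ∈ R, cj g A = cj y A) : L ≤ R := by
  refine le_of_le_sup_cop hR.2.1 ?_ (hL.cop hs.1)
  rw [← hs.2.2, commutator_le]
  intro y hy a ha
  obtain ⟨w, hw, e⟩ := hpt y (cj_le_of hAH (hLH hy))
  have h1 : y * a * y⁻¹ ∈ R ⊔ A :=
    cj_le_of le_sup_right (mem_sup_left hw) (e ▸ conj_mem_cj ha)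
  exact mul_mem h1 (inv_mem (mem_sup_right ha))

theorem Sp.cj {R : Subgroup G} (h : Sp r A R) (g : G) : Sp r (cj g A) (cj g R) :=
  ⟨h.1.map _, by rw [← cj_norm]; exact cj_mono g h.2.1, by rw [← cj_comm, h.2.2]⟩

theorem Sp.cjn {R : Subgroup G} (h : Sp r A R) {g : G} (hg : g ∈ normalizer (A : Set G)) :
    Sp r A (H82.FS.cj g R) := by
  have := h.cj g; rwa [cj_eq_iff.2 hg] at this

theorem Blk.cjn {X : Subgroup G} (h : Blk r A X) {g : G} (hg : g ∈ normalizer (A : Set G)) :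
    Blk r A (cj g X) := by
  refine ⟨h.1.cjn hg, fun Y hY hle => ?_⟩
  have := h.2 _ (hY.cjn (inv_mem hg)) (by rw [← cj_inv_cj g X]; exact cj_mono _ hle)
  rw [← this, cj_cj_inv]

theorem Blk.cj {X : Subgroup G} (h : Blk r A X) {g : G} (hg : g ∈ centralizer (A : Set G)) :
    Blk r A (cj g X) := h.cjn (centralizer_le_normalizer _ hg)

theorem exists_blk {L : Subgroup G} (h : Sp r A L) : ∃ X, Blk r A X ∧ L ≤ X := by
  obtain ⟨X, hX, hm⟩ := (Set.toFinite {Y : Subgroup G | Sp r A Y}).exists_le_maximal h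
  exact ⟨X, ⟨hm.1, fun Y hY hle => le_antisymm (hm.2 hY hle) hle⟩, hX⟩

theorem Sp.sup {R S : Subgroup G} (hr : r.Prime) (hR : Sp r A R) (hS : Sp r A S)
    (h : S ≤ normalizer (R : Set G)) : Sp r A (R ⊔ S) := by
  haveI := Fact.mk hr
  have hn := le_norm_sup hR.2.1 hS.2.1
  refine ⟨IsPGroup.to_sup_of_normal_left' hR.1 hS.1 h, hn, le_antisymm (comm_le_left hn) ?_⟩
  exact sup_le (hR.2.2.ge.trans (commutator_mono le_sup_left le_rfl))
    (hS.2.2.ge.trans (commutator_mono le_sup_right le_rfl))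

variable {N : Subgroup G}

theorem Geo.cen_ne_top (h : Geo p r A N) {g : G} (hg : g ≠ 1) : centralizer ({g} : Set G) ≠ ⊤ := by
  intro e
  apply hg
  rw [← mem_bot, ← h.cen]
  intro n _
  exact mem_centralizer_singleton_iff.1 (e.ge (mem_top n))

theorem Geo.norm_ne_top' (h : Geo p r A N) {l : ℕ} (hl : l.Prime) {Q : Subgroup G}
    (hQ : IsPGroup l Q) (h1 : Q ≠ ⊥) : normalizer (Q : Set G) ≠ ⊤ := by
  intro e
  haveI := Fact.mk hl
  haveI := h.norm
  haveI := h.simple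
  haveI : Q.Normal := normalizer_eq_top_iff.1 e
  rcases (inferInstance : (Q.subgroupOf N).Normal).eq_bot_or_eq_top with e1 | e1
  · apply h1
    rw [eq_bot_iff, ← h.cen, ← commutator_eq_bot_iff_le_centralizer, eq_bot_iff]
    refine (commutator_le_inf Q N).trans ?_
    rw [subgroupOf_eq_bot] at e1
    exact e1.le_bot
  · have hN : IsPGroup l N := hQ.to_le (subgroupOf_eq_top.1 e1)
    haveI := hN.isNilpotent
    exact h.nab ⟨⟨IsSimpleGroup.comm_iff_isSolvable.2 inferInstance⟩⟩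

theorem Geo.norm_ne_top (h : Geo p r A N) {Q : Subgroup G} (hQ : IsPGroup r Q) (h1 : Q ≠ ⊥) :
    normalizer (Q : Set G) ≠ ⊤ := h.norm_ne_top' h.lin.hr hQ h1

/-- `R(H)`. -/
theorem Geo.R (h : Geo p r A N) {H : Subgroup G} (hH : H ≠ ⊤) (hA : A ≤ H) :
    ∃ R, Sp r A R ∧ R ≤ H ∧ H ≤ normalizer (R : Set G) ∧ (∀ L, Sp r A L → L ≤ H → L ≤ R) ∧
      ∀ g, cj g A ≤ H → ∃ y ∈ R, cj g A = cj y A := by
  obtain ⟨R, h1, h2, h3, h4⟩ := h.loc H hH hA
  exact ⟨R, h1, h2, h3, fun L hL hle => hL.le_loc h.lin hle hA h1 h4, h4⟩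

theorem Blk.norm_of_le (h : Geo p r A N) {X H : Subgroup G} (hX : Blk r A X) (hH : H ≠ ⊤)
    (hXH : X ≤ H) (hA : A ≤ H) :
    H ≤ normalizer (X : Set G) ∧ ∀ L, Sp r A L → L ≤ H → L ≤ X := by
  obtain ⟨R, h1, -, h3, h4, -⟩ := h.R hH hA
  have e := hX.2 R h1 (h4 X hX.1 hXH)
  exact ⟨e ▸ h3, fun L hL hle => e ▸ h4 L hL hle⟩

theorem Geo.Z_cen (h : Geo p r A N) {X : Subgroup G} (hX : Sp r A X) :
    ⁅X, X⁆ ≤ centralizer (A : Set G) := (h.cls X hX).1.le.trans inf_le_right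

theorem Blk.cz' (h : Geo p r A N) {X : Subgroup G} (hX : Blk r A X) {z : G} (hz : z ∈ ⁅X, X⁆)
    (h1 : z ≠ 1) : centralizer ({z} : Set G) ≤ normalizer (X : Set G) ∧
      ∀ L, Sp r A L → L ≤ centralizer ({z} : Set G) → L ≤ X :=
  hX.norm_of_le h (h.cen_ne_top h1)
    (fun y hy => mem_centralizer_singleton_iff.2 ((h.cls X hX.1).2.1 hz y hy))
    (fun a ha => mem_centralizer_singleton_iff.2 (h.Z_cen hX.1 hz a ha))

theorem Blk.cz (h : Geo p r A N) {X : Subgroup G} (hX : Blk r A X) {z : G} (hz : z ∈ ⁅X, X⁆)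
    (h1 : z ≠ 1) : centralizer ({z} : Set G) ≤ normalizer (X : Set G) := (hX.cz' h hz h1).1

theorem Blk.Z_inf (h : Geo p r A N) {X Y : Subgroup G} (hX : Blk r A X) (hY : Blk r A Y)
    (hne : X ≠ Y) : ⁅X, X⁆ ⊓ ⁅Y, Y⁆ = ⊥ := by
  rw [eq_bot_iff]
  rintro z ⟨h1, h2⟩
  by_contra h3
  refine hne (hY.2 X hX.1 ((hX.cz' h h1 h3).2 Y hY.1 fun y hy => ?_))
  exact mem_centralizer_singleton_iff.2 ((h.cls Y hY.1).2.1 h2 y hy)

theorem Geo.not_normal (h : Geo p r A N) : ¬ A.Normal := fun hn =>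
  h.norm_ne_top' h.lin.hp h.lin.pgp h.lin.ne_bot (normalizer_eq_top_iff.2 hn)

end Lin

end H82.FS
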