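import Cfsg.Agent.H82.HRSpec

/-! Tool kit of the HR jobs (see `blueprints/HR.md`). -/

set_option autoImplicit false

namespace H82.HR

open MulAction Cfsg Subgroup H89.K H98 H82.TP

section Basic

variable {G G' : Type*} [Group G] [Group G'] {N U V W A : Subgroup G} {q : ℕ} {g x y z : G}

theorem mem_ZZ : z ∈ ZZ U ↔ z ∈ U ∧ z * z = 1 ∧ ∀ x ∈ U, x * z = z * x := Iff.rfl

theorem ZZ_le : ZZ U ≤ U := fun _ h => h.1

theorem map_ZZ {φ : G →* G'} (hφ : Function.Injective φ) : (ZZ U).map φ = ZZ (U.map φ) := by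
  ext w
  constructor
  · rintro ⟨z, hz, rfl⟩
    refine ⟨mem_map_of_mem φ hz.1, by rw [← map_mul, hz.2.1, map_one], ?_⟩
    rintro _ ⟨x, hx, rfl⟩
    rw [← map_mul, hz.2.2 x hx, map_mul]
  · rintro ⟨⟨z, hz, rfl⟩, h1, h2⟩
    exact ⟨z, ⟨hz, hφ (by rw [map_mul, h1, map_one]), fun x hx =>
      hφ (by rw [map_mul, h2 _ (mem_map_of_mem φ hx), map_mul])⟩, rfl⟩

theorem cj_ZZ (g : G) : cj g (ZZ U) = ZZ (cj g U) := map_ZZ (MulAut.conj g).injective

theorem nor_le_ZZ : nor U ≤ nor (ZZ U) := fun _ hg =>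
  cj_eq_self_iff.1 (by rw [cj_ZZ, cj_eq_self hg])

theorem map_cj' (φ : G →* G') (g : G) (U : Subgroup G) : (cj g U).map φ = cj (φ g) (U.map φ) := by
  simp only [cj, map_map]
  congr 1
  ext x; simp

theorem map_mem_nor {φ : G →* G'} (hφ : Function.Injective φ) :
    φ g ∈ nor (U.map φ) ↔ g ∈ nor U := by
  rw [← cj_eq_self_iff, ← cj_eq_self_iff, ← map_cj', (map_injective hφ).eq_iff]

theorem map_DD {φ : G →* G'} (hφ : Function.Injective φ) :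
    (DD N U V).map φ = DD (N.map φ) (U.map φ) (V.map φ) := by
  ext w
  constructor
  · rintro ⟨d, hd, rfl⟩
    exact ⟨⟨mem_map_of_mem φ hd.1.1, (map_mem_nor hφ).2 hd.1.2⟩, (map_mem_nor hφ).2 hd.2⟩
  · rintro ⟨⟨⟨d, hd, rfl⟩, h1⟩, h2⟩
    exact ⟨d, ⟨⟨hd, (map_mem_nor hφ).1 h1⟩, (map_mem_nor hφ).1 h2⟩, rfl⟩

theorem Q2.of_equiv (h : Q2 G) (e : G ≃* G') : Q2 G' := fun α β h1 h2 h3 h4 h5 => by
  let c := MulAut.congr e.symm
  have k : ∀ α : MulAut G', (∀ z, z * z = 1 → α z = z) → ∀ z, z * z = 1 → c α z = z :=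
    fun α hα z hz => by simp [c, hα (e z) (by rw [← map_mul, hz, map_one])]
  obtain ⟨γ, hγ, r⟩ := h (c α) (c β) (k α h1) (k β h2) (by rw [← map_pow, h3, map_one])
    (by rw [← map_pow, h4, map_one]) (by rw [← map_mul, ← map_pow, h5, map_one])
  refine ⟨c.symm γ, ?_, fun y => ?_⟩
  · rcases hγ with rfl | rfl | rfl
    exacts [.inl (by simp), .inr (.inl (by simp)), .inr (.inr (by simp))]
  · simpa [c] using congrArg e (r (e.symm y))

theorem card_ne {α : Type*} [Finite α] (a : α) : Nat.card {x // x ≠ a} = Nat.card α - 1 := by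
  classical
  rw [← Nat.card_congr (Equiv.optionSubtypeNe a), Finite.card_option, Nat.add_sub_cancel]

namespace BF

theorem map (h : BF N U V q) {φ : G →* G'} (hφ : Function.Injective φ) :
    BF (N.map φ) (U.map φ) (V.map φ) q where
  simple := by
    have := h.simple
    exact (N.equivMapOfInjective φ hφ).symm.isSimpleGroup
  q4 := h.q4
  sylU := h.sylU.map_of_injective hφ
  sylV := h.sylV.map_of_injective hφ
  ti := eq_bot_iff.2 <| by
    rintro _ ⟨⟨x, hx, rfl⟩, h1⟩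
    rw [mem_bot.1 (h.ti.le ⟨hx, (map_mem_nor hφ).1 h1⟩), map_one]
    exact one_mem _
  bru := by
    rintro _ ⟨g, hg, rfl⟩
    exact (h.bru g hg).imp (map_mem_nor hφ).2 fun ⟨x, hx, e⟩ =>
      ⟨φ x, mem_map_of_mem φ hx, by rw [← map_cj', ← map_cj', e]⟩
  cent := by
    rintro _ ⟨z, hz, rfl⟩ h1
    exact map_ZZ hφ ▸ mem_map_of_mem φ (h.cent z hz (hφ (by rw [map_mul, h1, map_one])))
  card := by rw [← map_ZZ hφ, card_map_of_injective hφ, h.card]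
  e4 := by
    rintro _ ⟨x, hx, rfl⟩
    rw [← map_mul, ← map_ZZ hφ]
    exact mem_map_of_mem φ (h.e4 x hx)
  nab := h.nab.imp (fun r => map_ZZ hφ ▸ map_mono r) fun ⟨x, hx, y, hy, r⟩ =>
    ⟨φ x, mem_map_of_mem φ hx, φ y, mem_map_of_mem φ hy, fun e => r (hφ (by simpa using e))⟩
  cyc := by
    have := h.cyc
    rw [← map_DD hφ]
    exact isCyclic_of_surjective _ ((DD N U V).equivMapOfInjective φ hφ).surjective
  tr := by
    rw [← map_ZZ hφ, ← map_DD hφ]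
    rintro _ ⟨y, hy, rfl⟩ _ ⟨z, hz, rfl⟩ h1 h2
    obtain ⟨d, hd, e⟩ := h.tr y hy z hz (fun e => h1 (by rw [e, map_one]))
      fun e => h2 (by rw [e, map_one])
    exact ⟨φ d, mem_map_of_mem φ hd, by rw [← e]; simp⟩
  irr := fun X h1 h2 h3 => by
    have e : (X.comap φ).map φ = X := map_comap_eq_self (h2.trans (map_le_range φ U))
    rw [← map_ZZ hφ] at h1 ⊢
    rw [← map_DD hφ] at h3
    rw [← e]
    exact (h.irr (X.comap φ) (map_le_iff_le_comap.1 h1)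
      ((comap_mono h2).trans (comap_map_eq_self_of_injective hφ U).le) fun d hd =>
        (map_mem_nor hφ).1 (e.symm ▸ h3 (mem_map_of_mem φ hd))).imp (congrArg _) (congrArg _)
  q2 := h.q2.of_equiv (U.equivMapOfInjective φ hφ)

theorem cj (h : BF N U V q) (g : G) : BF (cj g N) (cj g U) (cj g V) q :=
  h.map (MulAut.conj g).injective

theorem cj' (h : BF N U V q) (hg : g ∈ nor N) : BF N (H98.cj g U) (H98.cj g V) q := by
  have := h.cj g
  rwa [cj_eq_self hg] at this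

variable (h : BF N U V q)
include h

theorem pow4 (hx : x ∈ U) : x ^ 4 = 1 := by
  rw [show x ^ 4 = x * x * (x * x) by simp only [pow_succ, pow_zero, one_mul, mul_assoc],
    (h.e4 x hx).2.1]

theorem comm_mem (hx : x ∈ U) (hy : y ∈ U) : x * y * x⁻¹ * y⁻¹ ∈ ZZ U := by
  have e : x * y * x⁻¹ * y⁻¹ = x * y * (x * y) * (y * y)⁻¹ * (x * x)⁻¹ := by
    have h1 := (h.e4 x hx).2.2 y hy
    have h2 := (h.e4 y hy).2.2 x hx
    calc x * y * x⁻¹ * y⁻¹ = x * y * x⁻¹ * y⁻¹ * (x * x) * (x * x)⁻¹ := by group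
      _ = x * y * x⁻¹ * (y⁻¹ * (x * x) * y) * y⁻¹ * (x * x)⁻¹ := by group
      _ = x * y * x⁻¹ * (y⁻¹ * (y * (x * x))) * y⁻¹ * (x * x)⁻¹ := by rw [h1]; group
      _ = _ := by group
  rw [e]
  exact mul_mem (mul_mem (h.e4 _ (mul_mem hx hy)) (inv_mem (h.e4 y hy))) (inv_mem (h.e4 x hx))

theorem uniq (hx : x ∈ U) (hy : y ∈ U) (e : H98.cj x V = H98.cj y V) : x = y :=
  (inv_mul_eq_one.1 (mem_bot.1 (h.ti.le ⟨U.mul_mem (U.inv_mem hy) hx, cj_eq_self_iff.1 (by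
    rw [← cj_cj, e, cj_inv_cj])⟩))).symm

theorem q2G (hx : x ∈ nor U) (hy : y ∈ nor U) (h1 : x ∈ cen (ZZ U)) (h2 : y ∈ cen (ZZ U))
    (h3 : x ^ 4 = 1) (h4 : y ^ 4 = 1) (h5 : (x * y) ^ 4 = 1) : TV U x ∨ TV U y ∨ TV U (x * y) := by
  let φ := U.normalizerMonoidHom
  have k : ∀ g : nor U, (g : G) ∈ cen (ZZ U) → ∀ z : U, z * z = 1 → φ g z = z := fun g hg z hz =>
    Subtype.ext (by
      show (g : G) * z * (g : G)⁻¹ = z
      rw [← hg z (h.cent z z.2 (congrArg Subtype.val hz)), mul_inv_cancel_right])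
  have p : ∀ g : nor U, (g : G) ^ 4 = 1 → φ g ^ 4 = 1 := fun g hg => by
    rw [← map_pow, show g ^ 4 = 1 from Subtype.ext hg, map_one]
  have t : ∀ g : nor U, (∀ y, φ g y * y⁻¹ * (φ g y * y⁻¹) = 1) → TV U g := fun g hg y hy =>
    h.cent _ (φ g ⟨y, hy⟩ * (⟨y, hy⟩ : U)⁻¹).2 (congrArg Subtype.val (hg ⟨y, hy⟩))
  obtain ⟨γ, hγ, r⟩ := h.q2 (φ ⟨x, hx⟩) (φ ⟨y, hy⟩) (k _ h1) (k _ h2) (p _ h3) (p _ h4)
    (by rw [← map_mul]; exact p _ h5)
  rcases hγ with rfl | rfl | rfl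
  exacts [.inl (t _ r), .inr (.inl (t _ r)), .inr (.inr (t (⟨x, hx⟩ * ⟨y, hy⟩) (by rwa [map_mul])))]

variable [Finite G]

/-- two different involutions -/
theorem two : ∃ y ∈ ZZ U, ∃ z ∈ ZZ U, y ≠ 1 ∧ z ≠ 1 ∧ y ≠ z := by
  have := h.q4
  have := Fintype.ofFinite (ZZ U)
  obtain ⟨a, b, c, h1, h2, h3⟩ := (Fintype.two_lt_card_iff (α := ZZ U)).1 (by
    rw [← Nat.card_eq_fintype_card, h.card]; omega)
  exact ⟨a⁻¹ * b, (a⁻¹ * b).2, a⁻¹ * c, (a⁻¹ * c).2, fun e => h1 (Subtype.ext (inv_mul_eq_one.1 e)),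
    fun e => h2 (Subtype.ext (inv_mul_eq_one.1 e)), fun e => h3 (Subtype.ext (mul_left_cancel e))⟩

theorem ne : V ≠ U := fun e => by
  obtain ⟨y, hy, -, -, h1, -⟩ := h.two
  exact h1 (mem_bot.1 (h.ti.le ⟨hy.1, le_normalizer (e ▸ hy.1)⟩))

theorem pow_q : ∃ k, q = 2 ^ k := by
  obtain ⟨k, hk⟩ := IsPGroup.iff_card.1 (h.sylU.isPGroup.to_le ZZ_le)
  exact ⟨k, h.card ▸ hk⟩

theorem trans (hW : IsSyl 2 W N) (hne : W ≠ U) : ∃ x ∈ U, H98.cj x V = W := by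
  obtain ⟨g, hg, rfl⟩ := h.sylU.exists_cj_eq hW
  obtain ⟨x, hx, e⟩ := (h.bru g hg).resolve_left fun r => hne (cj_eq_self r)
  exact ⟨x, hx, e.symm⟩

theorem all {U' V' : Subgroup G} (hU : IsSyl 2 U' N) (hV : IsSyl 2 V' N) (hne : V' ≠ U') :
    BF N U' V' q := by
  obtain ⟨g, hg, rfl⟩ := h.sylU.exists_cj_eq hU
  have h1 := h.cj' (le_normalizer hg)
  obtain ⟨x, hx, rfl⟩ := h1.trans hV hne
  have := h1.cj' (le_normalizer (hU.le hx))
  rwa [cj_eq_self_of_mem hx] at this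

theorem eq_of_mem (hW : IsSyl 2 W N) (hx : x ∈ U) (h1 : x ≠ 1) (h2 : x ∈ nor W) : W = U :=
  by_contra fun r => h1 (mem_bot.1 ((h.all h.sylU hW r).ti.le ⟨hx, h2⟩))

omit [Finite G] in
theorem eq_bot {K : Subgroup G} (h1 : K ≤ N) (h2 : N ≤ nor K) (h3 : K ≠ N) : K = ⊥ := by
  have := h.simple
  have hn : (K.subgroupOf N).Normal := (normal_subgroupOf_iff_le_normalizer h1).2 h2
  rcases hn.eq_bot_or_eq_top with e | e
  · exact (subgroupOf_eq_bot.1 e).eq_bot_of_le h1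
  · exact absurd (h1.antisymm (subgroupOf_eq_top.1 e)) h3

theorem ker (hg : g ∈ nor N) (h1 : ∀ W, IsSyl 2 W N → g ∈ nor W) : g ∈ cen N := by
  let K : Subgroup G := N ⊓ ⨅ W : {W // IsSyl 2 W N}, nor W.1
  have key : ∀ x ∈ N, ∀ c, (∀ W, IsSyl 2 W N → c ∈ nor W) → ∀ W, IsSyl 2 W N →
      x * c * x⁻¹ ∈ nor W := fun x hx c hc W hW => by
    have := conj_mem_cj (g := x) (hc _ (hW.cj_of_mem (inv_mem hx)))
    rwa [cj_normalizer, cj_cj_inv] at this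
  have hK : K = ⊥ := h.eq_bot inf_le_left (fun x hx => mem_normalizer_fintype fun c hc =>
    ⟨N.mul_mem (N.mul_mem hx hc.1) (N.inv_mem hx), mem_iInf.2 fun W =>
      key x hx c (fun W hW => mem_iInf.1 hc.2 ⟨W, hW⟩) W.1 W.2⟩) fun e => by
    obtain ⟨y, hy, -, -, h2, -⟩ := h.two
    exact h2 (mem_bot.1 (h.ti.le ⟨hy.1, mem_iInf.1 (e.ge (h.sylU.le hy.1)).2 ⟨V, h.sylV⟩⟩))
  intro x hx
  have : x * g * x⁻¹ * g⁻¹ ∈ K := mem_inf.2 ⟨by
    simpa only [mul_assoc] using mul_mem hx (conj_mem_of_mem_normalizer hg (inv_mem hx)),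
    mem_iInf.2 fun W => mul_mem (key x hx g h1 W.1 W.2) (inv_mem (h1 W.1 W.2))⟩
  rw [hK, mem_bot] at this
  exact commutatorElement_eq_one_iff_mul_comm.1 this

theorem ker2 (hg : g ∈ nor N) (h1 : g ∈ nor V) (h2 : g ∈ cen U) : g ∈ cen N :=
  h.ker hg fun W hW => by
    by_cases e : W = U
    · exact e ▸ centralizer_le_normalizer _ h2
    obtain ⟨x, hx, rfl⟩ := h.trans hW e
    exact cj_eq_self_iff.1 (by rw [cj_cj, ← h2 x hx, ← cj_cj, cj_eq_self h1])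

theorem bor (hg : g ∈ nor N) (h1 : g ∈ nor U) : ∃ x ∈ U, x⁻¹ * g ∈ nor V := by
  obtain ⟨x, hx, e⟩ := h.trans (h.sylV.cj_of_mem_normalizer hg) fun e =>
    h.ne (cj_inj.1 (e.trans (cj_eq_self h1).symm))
  exact ⟨x, hx, cj_eq_self_iff.1 (by rw [← cj_cj, ← e, cj_inv_cj])⟩

theorem odd_DD : Odd (Nat.card (DD N U V)) := by
  by_contra r
  obtain ⟨t, ht⟩ := exists_prime_orderOf_dvd_card' 2 (Nat.not_odd_iff_even.1 r).two_dvd
  have h1 := (orderOf_coe t).trans ht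
  exact ne_of_ord h1 (mem_bot.1 (h.ti.le ⟨h.sylU.le_of_le_normalizer'
    (isPGroup_zpowers (k := 1) (by rw [pow_one, sq, sq_of_ord h1])) (zpowers_le.2 t.2.1.1)
    (zpowers_le.2 t.2.1.2) (mem_zpowers _), t.2.2⟩))

theorem cen_le (hz : z ∈ U) (h1 : z ≠ 1) (hg : g ∈ nor N) (e : g * z = z * g) : g ∈ nor U :=
  cj_eq_self_iff.1 (h.eq_of_mem (h.sylU.cj_of_mem_normalizer hg) hz h1 (le_normalizer (by
    simpa [e] using conj_mem_cj (g := g) hz)))

theorem inf_cen : N ⊓ cen N = ⊥ :=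
  h.eq_bot inf_le_left (le_normalizer_inf le_normalizer
    (le_normalizer_centralizer le_normalizer)) fun e => by
    obtain ⟨y, hy, -, -, h2, -⟩ := h.two
    exact h2 (mem_bot.1 (h.ti.le ⟨hy.1, centralizer_le_normalizer _
      (centralizer_anti h.sylV.le (e.ge (h.sylU.le hy.1)).2)⟩))

theorem le_nor (h1 : A ≤ N) (h2 : U ≤ A) (h3 : A ≠ N) : A ≤ nor U := fun g hg => by_contra fun r => by
  have k : ∀ W, IsSyl 2 W N → W ≤ A := fun W hW => by
    by_cases e : W = U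
    · exact e ▸ h2
    obtain ⟨x, hx, rfl⟩ := (h.all h.sylU (h.sylU.cj_of_mem (h1 hg))
      fun e => r (cj_eq_self_iff.1 e)).trans hW e
    exact cj_le_of_le_of_mem (cj_le_of_le_of_mem h2 hg) (h2 hx)
  let K : Subgroup G := ⨆ W : {W // IsSyl 2 W N}, W.1
  have hK : K ≤ A := iSup_le fun W => k W.1 W.2
  have := h.eq_bot (K := K) (hK.trans h1) (fun x hx => mem_normalizer_of_cj_le (by
    rw [H98.cj, Subgroup.map_iSup]
    exact iSup_le fun W => le_iSup_of_le ⟨_, W.2.cj_of_mem hx⟩ le_rfl)) fun e =>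
      h3 (h1.antisymm (e ▸ hK))
  obtain ⟨y, hy, -, -, h2, -⟩ := h.two
  exact h2 (mem_bot.1 (this.le (le_iSup (fun W : {W // IsSyl 2 W N} => W.1) ⟨U, h.sylU⟩ hy.1)))

/-- every involution lies in a framed Sylow subgroup -/
theorem exists_frame (hx : x ∈ N) (h1 : x * x = 1) : ∃ U V, BF N U V q ∧ x ∈ ZZ U := by
  obtain ⟨g, hg, r⟩ := h.sylU.exists_le_cj
    (isPGroup_zpowers (k := 1) (by rw [pow_one, sq, h1])) (zpowers_le.2 hx)
  exact ⟨_, _, h.cj' (le_normalizer hg), (h.cj' (le_normalizer hg)).cent x (r (mem_zpowers x)) h1⟩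

theorem mem_of_comm (hx : x ∈ U) (h1 : x ≠ 1) (hy : y ∈ N) (h2 : y * y = 1) (e : y * x = x * y) :
    y ∈ ZZ U :=
  h.cent y (h.sylU.le_of_le_normalizer' (isPGroup_zpowers (k := 1) (by rw [pow_one, sq, h2]))
    (zpowers_le.2 hy) (zpowers_le.2 (h.cen_le hx h1 (le_normalizer hy) e)) (mem_zpowers y)) h2

theorem tr3 (hx : x ∈ N) (hy : y ∈ N) (hz : z ∈ N) (h1 : x * x = 1) (h2 : y * y = 1)
    (h3 : z * z = 1) (h4 : y ≠ 1) (e1 : x * y = y * x) (e2 : z * y = y * z) : x * z = z * x := by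
  obtain ⟨U, V, k, r⟩ := h.exists_frame hy h2
  exact (k.mem_of_comm r.1 h4 hz h3 e2).2.2 x (k.mem_of_comm r.1 h4 hx h1 e1).1

theorem one_or (h1 : A ≤ N) : (∀ s ∈ A, ∀ t ∈ A, orderOf s = 2 → orderOf t = 2 →
    ∃ g ∈ A, g * s * g⁻¹ = t) ∨ ∃ W, IsSyl 2 W N ∧ A ≤ nor W := by
  refine or_iff_not_imp_right.2 fun r s hs t ht s2 t2 => ?_
  have key : ∀ s ∈ A, ∀ t ∈ A, orderOf s = 2 → orderOf t = 2 → (∀ W, IsSyl 2 W N → s ∈ W → t ∉ W) →
      ∃ g ∈ A, g * s * g⁻¹ = t := fun s hs t ht s2 t2 hW => by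
    have a1 := sq_of_ord s2
    have a2 := sq_of_ord t2
    have i1 : s * (s * t) * s⁻¹ = (s * t)⁻¹ := by
      rw [mul_inv_rev, ← mul_assoc, a1, one_mul, inv_of_sq a2]
    have i2 : t * (s * t) * t⁻¹ = (s * t)⁻¹ := by
      rw [mul_inv_rev, inv_of_sq a1, inv_of_sq a2, mul_assoc, mul_assoc, a2, mul_one]
    have p : ∀ (u : G) (k : ℕ), u * (s * t) * u⁻¹ = (s * t)⁻¹ →
        u * (s * t) ^ k = ((s * t) ^ k)⁻¹ * u := fun u k e => by
      rw [← inv_pow, ← e, conj_pow, inv_mul_cancel_right]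
    rcases Nat.even_or_odd' (orderOf (s * t)) with ⟨k, e | e⟩
    · have w2 : (s * t) ^ k * (s * t) ^ k = 1 := by rw [← pow_add, ← two_mul, ← e, pow_orderOf_eq_one]
      have w1 : (s * t) ^ k ≠ 1 := pow_ne_one_of_lt_orderOf
        (fun r => (orderOf_pos (s * t)).ne' (by rw [e, r])) (by have := orderOf_pos (s * t); omega)
      obtain ⟨U, V, k', m⟩ := h.exists_frame (h1 (pow_mem (mul_mem hs ht) k)) w2
      exact absurd (k'.mem_of_comm m.1 w1 (h1 ht) a2 (by rw [p t k i2, inv_of_sq w2])).1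
        (hW U k'.sylU (k'.mem_of_comm m.1 w1 (h1 hs) a1 (by rw [p s k i1, inv_of_sq w2])).1)
    · refine ⟨(s * t) ^ k, pow_mem (mul_mem hs ht) k, ?_⟩
      have e1 := p s k i1
      have e2 : (s * t) ^ k * (s * t) ^ k * (s * t) = 1 := by
        rw [← pow_add, ← pow_succ, ← two_mul, ← e, pow_orderOf_eq_one]
      have e3 : s * ((s * t) ^ k)⁻¹ = (s * t) ^ k * s := by
        rw [mul_inv_eq_iff_eq_mul, mul_assoc, e1, mul_inv_cancel_left]
      rw [mul_assoc, e3, ← mul_assoc, eq_inv_of_mul_eq_one_left e2, mul_inv_rev,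
        inv_mul_cancel_right, inv_of_sq a2]
  obtain ⟨U, V, k, m⟩ := h.exists_frame (h1 hs) (sq_of_ord s2)
  by_cases e : t ∈ U
  · obtain ⟨g, hg, r1⟩ := SetLike.not_le_iff_exists.1 fun e => r ⟨U, k.sylU, e⟩
    have n1 : g * s * g⁻¹ ∉ U := fun e => r1 (cj_eq_self_iff.1 (k.eq_of_mem
      (k.sylU.cj_of_mem (h1 hg)) e (by simpa using ne_of_ord s2) (le_normalizer (conj_mem_cj m.1))))
    obtain ⟨g', hg', e'⟩ := key _ (mul_mem (mul_mem hg hs) (inv_mem hg)) t ht ((ord_conj g).trans s2)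
      t2 fun W hW a b => n1 (k.eq_of_mem hW e (ne_of_ord t2) (le_normalizer b) ▸ a)
    exact ⟨g' * g, mul_mem hg' hg, by rw [← e']; group⟩
  · exact key s hs t ht s2 t2 fun W hW a b =>
      e (k.eq_of_mem hW m.1 (ne_of_ord s2) (le_normalizer a) ▸ b)

theorem card_syl : {W | IsSyl 2 W N}.ncard = Nat.card U + 1 := by
  have e : {W | IsSyl 2 W N} = insert U ((fun x => H98.cj x V) '' U) := by
    ext W
    refine ⟨fun hW => (em (W = U)).imp_right (h.trans hW), ?_⟩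
    rintro (rfl | ⟨x, hx, rfl⟩)
    exacts [h.sylU, h.sylV.cj_of_mem (h.sylU.le hx)]
  rw [e, Set.ncard_insert_of_notMem, Set.InjOn.ncard_image fun x hx y hy => h.uniq hx hy]
  · rfl
  · rintro ⟨x, hx, e⟩
    exact h.ne (cj_inj.1 (e.trans (cj_eq_self_of_mem hx).symm))

theorem card_B : Nat.card ↥(N ⊓ nor U) = Nat.card U * Nat.card (DD N U V) := by
  rw [← Nat.card_prod]
  refine (Nat.card_eq_of_bijective (fun p : U × DD N U V => (⟨p.1 * p.2, mul_mem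
    ⟨h.sylU.le p.1.2, le_normalizer p.1.2⟩ p.2.2.1⟩ : ↥(N ⊓ nor U))) ⟨?_, fun g => ?_⟩).symm
  · rintro ⟨x, d⟩ ⟨y, e⟩ r
    have r : (x : G) * d = y * e := congrArg Subtype.val r
    have : x = y := Subtype.ext (h.uniq x.2 y.2 (by
      rw [← cj_eq_self d.2.2, cj_cj, r, ← cj_cj, cj_eq_self e.2.2, cj_eq_self d.2.2]))
    subst this
    rw [Subtype.ext (mul_left_cancel r)]
  · obtain ⟨x, hx, r⟩ := h.bor (le_normalizer g.2.1) g.2.2
    exact ⟨(⟨x, hx⟩, ⟨x⁻¹ * g, (N ⊓ nor U).mul_mem ((N ⊓ nor U).inv_mem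
      ⟨h.sylU.le hx, le_normalizer hx⟩) g.2, r⟩), Subtype.ext (by simp)⟩

theorem card_N : Nat.card N = (Nat.card U + 1) * (Nat.card U * Nat.card (DD N U V)) := by
  rw [← h.card_B, ← h.card_syl, ← Nat.card_coe_set_eq, ← Nat.card_prod]
  choose f f1 f2 using fun W : {W | IsSyl 2 W N} => h.sylU.exists_cj_eq W.2
  refine (Nat.card_eq_of_bijective (fun p : {W | IsSyl 2 W N} × ↥(N ⊓ nor U) =>
    (⟨f p.1 * p.2, mul_mem (f1 _) p.2.2.1⟩ : N)) ⟨?_, fun g => ?_⟩).symm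
  · rintro ⟨x, d⟩ ⟨y, e⟩ r
    have r : f x * d = f y * e := congrArg Subtype.val r
    have : x = y := Subtype.ext (by
      rw [← f2 x, ← f2 y, ← cj_eq_self d.2.2, cj_cj, r, ← cj_cj, cj_eq_self e.2.2, cj_eq_self d.2.2])
    subst this
    rw [Subtype.ext (mul_left_cancel r)]
  · let W : {W | IsSyl 2 W N} := ⟨_, h.sylU.cj_of_mem g.2⟩
    exact ⟨(W, ⟨(f W)⁻¹ * g, N.mul_mem (N.inv_mem (f1 W)) g.2, cj_eq_self_iff.1 (by
      rw [← cj_cj, show H98.cj (g : G) U = H98.cj (f W) U from (f2 W).symm, cj_inv_cj])⟩),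
      Subtype.ext (by simp)⟩

omit [Finite G] in
theorem DD_comm {d e : G} (hd : d ∈ DD N U V) (he : e ∈ DD N U V) : d * e = e * d := by
  have := h.cyc
  exact congrArg Subtype.val (IsCyclic.isMulCommutative.is_comm.comm (⟨d, hd⟩ : DD N U V) ⟨e, he⟩)

omit [Finite G] in
/-- an element of `D` that centralises one involution centralises `Z` -/
theorem DD_cen {d : G} (hd : d ∈ DD N U V) (hy : y ∈ ZZ U) (h1 : y ≠ 1) (e : d * y = y * d) :
    d ∈ cen (ZZ U) := fun z hz => by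
  by_cases r : z = 1
  · rw [r, mul_one, one_mul]
  obtain ⟨c, hc, rfl⟩ := h.tr y hy z hz h1 r
  rw [mul_assoc, ← h.DD_comm hd (inv_mem hc), ← mul_assoc, mul_assoc c, ← e, ← mul_assoc,
    ← h.DD_comm hd hc]
  group

theorem DD_free (hU : U ≤ ZZ U) {d : G} (hd : d ∈ DD N U V) (hy : y ∈ U) (h1 : y ≠ 1)
    (e : d * y = y * d) : d = 1 :=
  mem_bot.1 (h.inf_cen.le ⟨hd.1.1, h.ker2 (le_normalizer hd.1.1) hd.2
    (centralizer_anti hU (h.DD_cen hd (hU hy) h1 e))⟩)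

theorem card_DD (hU : U ≤ ZZ U) : Nat.card (DD N U V) = q - 1 := by
  obtain ⟨y, hy, -, -, h1, -⟩ := h.two
  rw [← h.card, ← card_ne (1 : ZZ U)]
  refine Nat.card_eq_of_bijective (fun d : DD N U V => (⟨⟨d * y * (d : G)⁻¹,
    conj_mem_of_mem_normalizer (nor_le_ZZ d.2.1.2) hy⟩, fun e => h1 (by
      simpa using congrArg Subtype.val e)⟩ : {z : ZZ U // z ≠ 1})) ⟨fun d e r => ?_, fun z => ?_⟩
  · have r : (d : G) * y * (d : G)⁻¹ = e * y * (e : G)⁻¹ := congrArg (fun z => (z.1 : G)) r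
    refine Subtype.ext (inv_mul_eq_one.1 (h.DD_free hU (e⁻¹ * d).2 hy.1 h1 ?_)).symm
    show (e : G)⁻¹ * d * y = y * ((e : G)⁻¹ * d)
    calc _ = (e : G)⁻¹ * (d * y * (d : G)⁻¹) * d := by group
      _ = _ := by rw [r]; group
  · obtain ⟨d, hd, e⟩ := h.tr y hy z.1 z.1.2 h1 fun e => z.2 (Subtype.ext e)
    exact ⟨⟨d, hd⟩, Subtype.ext (Subtype.ext e)⟩

theorem nI : nI N = (Nat.card U + 1) * (q - 1) := by
  rw [nI_eq, ← h.card_syl, ← h.card, ← card_ne (1 : ZZ U), ← Nat.card_coe_set_eq,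
    ← Nat.card_coe_set_eq, ← Nat.card_prod]
  choose f f1 f2 using fun W : {W | IsSyl 2 W N} => h.sylU.exists_cj_eq W.2
  refine (Nat.card_eq_of_bijective (fun p : {W | IsSyl 2 W N} × {z : ZZ U // z ≠ 1} =>
    (⟨f p.1 * p.2.1 * (f p.1)⁻¹, (ord_conj _).trans (ord_of_sq p.2.1.2.2.1
      fun e => p.2.2 (Subtype.ext e)), mul_mem (mul_mem (f1 _) (h.sylU.le p.2.1.2.1)) (inv_mem (f1 _))⟩ :
      {u : G | orderOf u = 2 ∧ u ∈ N})) ⟨?_, fun g => ?_⟩).symm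
  · rintro ⟨x, d⟩ ⟨y, e⟩ r
    have r : f x * d.1 * (f x)⁻¹ = f y * e.1 * (f y)⁻¹ := congrArg Subtype.val r
    have : x = y := Subtype.ext ((h.cj' (le_normalizer (f1 y))).eq_of_mem x.2
      (conj_mem_cj e.1.2.1) (by simpa using e.2) (le_normalizer (r ▸ f2 x ▸ conj_mem_cj d.1.2.1))
      |>.trans (f2 y))
    subst this
    rw [Subtype.ext (Subtype.ext (mul_left_cancel (mul_right_cancel r)))]
  · obtain ⟨U', V', k, m⟩ := h.exists_frame g.2.2 (sq_of_ord g.2.1)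
    let W : {W | IsSyl 2 W N} := ⟨_, k.sylU⟩
    exact ⟨(W, ⟨⟨(f W)⁻¹ * g * f W, mem_cj.1 (by rwa [cj_ZZ, f2 W])⟩, fun e => ne_of_ord g.2.1 (by
      simpa [mul_assoc] using congrArg (fun z : ZZ U => f W * z * (f W)⁻¹) e)⟩),
      Subtype.ext (by simp [mul_assoc])⟩

end BF

theorem BG.frame [Finite G] (h : BG N q) (hU : IsSyl 2 U N) : ∃ V, BF N U V q := by
  obtain ⟨U, V, h⟩ := h
  obtain ⟨g, hg, rfl⟩ := h.sylU.exists_cj_eq hU
  exact ⟨_, h.cj' (le_normalizer hg)⟩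

theorem BG.of_equiv (e : N ≃* G') (h : BG (⊤ : Subgroup G') q) : BG N q := by
  obtain ⟨U, V, h⟩ := h
  have := h.map (φ := N.subtype.comp e.symm.toMonoidHom) (N.subtype_injective.comp e.symm.injective)
  rw [← map_map, map_top_of_surjective _ e.symm.surjective, map_subtype_top] at this
  exact ⟨_, _, this⟩

end Basic

namespace Hy

variable {G Ω : Type*} [Group G] [Finite G] [MulAction G Ω] {N : Ω → Subgroup G} {q : ℕ}
  {a b c d : Ω} {g x : G} {U : Subgroup G} (H : Hy N q)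
include H

theorem frame (hU : IsSyl 2 U (N c)) : ∃ V, BF (N c) U V q := (H.bg c).frame hU

omit [Finite G] in
theorem nor_N (hg : g • c = c) : g ∈ nor (N c) := cj_eq_self_iff.1 (by rw [← H.equi, hg])

omit [Finite G] in
theorem conj_mem (g : G) (hx : x ∈ N c) : g * x * g⁻¹ ∈ N (g • c) := H.equi g c ▸ conj_mem_cj hx

omit [Finite G] in
theorem cj_A (g : G) (c d : Ω) : cj g (N c ⊓ stabilizer G d) = N (g • c) ⊓ stabilizer G (g • d) := by
  rw [cj_inf, H.equi, stabilizer_smul_eq_stabilizer_map_conj]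

omit [Finite G] in
theorem card_A (hab : a ≠ b) (hcd : c ≠ d) :
    Nat.card ↥(N c ⊓ stabilizer G d) = Nat.card ↥(N a ⊓ stabilizer G b) := by
  obtain ⟨g, rfl, rfl⟩ := H.t2.two hab hcd
  rw [← H.cj_A, card_cj]

omit [Finite G] in
theorem card_I (hab : a ≠ b) (hcd : c ≠ d) : Nat.card ↥(N c ⊓ N d) = Nat.card ↥(N a ⊓ N b) := by
  obtain ⟨g, rfl, rfl⟩ := H.t2.two hab hcd
  rw [H.equi, H.equi, ← cj_inf, card_cj]

omit [Finite G] in
theorem card_N (a c : Ω) : Nat.card (N c) = Nat.card (N a) := by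
  obtain ⟨g, rfl⟩ := H.t2.trans a c
  rw [H.equi, card_cj]

theorem card_U {U' : Subgroup G} (hU : IsSyl 2 U (N a)) (hU' : IsSyl 2 U' (N c)) :
    Nat.card U' = Nat.card U := by
  rw [hU.card_eq, hU'.card_eq, H.card_N a c]

theorem not_le (hcd : c ≠ d) : ¬ N c ≤ stabilizer G d := fun r => by
  obtain ⟨U, V, h⟩ := H.bg c
  obtain ⟨y, hy, -, -, h1, -⟩ := h.two
  refine h1 (H.t2.faith y fun e => ?_)
  by_cases k : e = c
  · exact k ▸ H.le c (h.sylU.le hy.1)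
  obtain ⟨g, h2, rfl⟩ := H.t2.two hcd (Ne.symm k)
  have : g⁻¹ * y * g ∈ stabilizer G d :=
    r (conj_mem_of_mem_normalizer' (H.nor_N h2) (h.sylU.le hy.1))
  rwa [mem_stabilizer_iff, mul_smul, mul_smul, inv_smul_eq_iff] at this

omit [Finite G] in
theorem cs_or_ns : CS N ∨ NS N := by
  refine or_iff_not_imp_right.2 fun r c d hcd => ?_
  simp only [NS, not_forall, not_not] at r
  obtain ⟨a, b, hab, U, h1, h2⟩ := r
  obtain ⟨g, rfl, rfl⟩ := H.t2.two hab hcd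
  exact ⟨cj g U, H.equi g a ▸ h1.cj g,
    (cj_mono g (le_inf h1.le h2)).trans ((H.cj_A g a b).le.trans inf_le_right)⟩

theorem odd_of_ns (h : NS N) : Odd (Nat.card Ω) := by
  have := H.t2.finite
  obtain ⟨a, -⟩ := H.t2.big
  obtain ⟨U, V, k⟩ := H.bg a
  by_contra r
  obtain ⟨b, hb, e⟩ := odd_fix (F := {a}ᶜ) k.sylU.isPGroup (fun g hg x hx e => hx (by
    rw [← (H.le a (k.sylU.le hg) : g • a = a)] at e
    exact (MulAction.injective g e))) (by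
    have := Set.ncard_add_ncard_compl ({a} : Set Ω)
    rw [Set.ncard_singleton] at this
    rw [Nat.odd_iff] at r ⊢
    omega)
  exact h a b (Ne.symm hb) U k.sylU e

end Hy

end H82.HR
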