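import Cfsg.Agent.H82.FSSpec3
import Cfsg.Agent.H82.HRKit
import Cfsg.Agent.H85.U3Syl
import Cfsg.Agent.H61.SubField
import Cfsg.Agent.S1163
import Cfsg.Agent.H66.HrModel
import Cfsg.Agent.H72.HRU3

/-! Tower FS: slot Ben. -/

set_option autoImplicit false
set_option linter.all false

namespace H82.FSB

open Cfsg Subgroup H82.HR

universe u

variable {L : Type u} [Group L] [Finite L] {U V : Subgroup L} {q : ℕ}

/-- the `2`-part -/
theorem card_U (h : BF ⊤ U V q) {k c m : ℕ} (hc : Odd c) (hm : Odd m)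
    (e : c * Nat.card L = 2 ^ k * m) : Nat.card U = 2 ^ k := by
  obtain ⟨j, hj⟩ := IsPGroup.iff_card.1 h.sylU.2.1
  have h1 := h.card_N
  rw [card_top, hj] at h1
  have hj0 : j ≠ 0 := by
    rintro rfl
    obtain ⟨y, hy, -, -, hy1, -⟩ := h.two
    rw [pow_zero, card_eq_one] at hj
    exact hy1 (mem_bot.1 (hj ▸ hy.1))
  have ho : Odd (c * ((2 ^ j + 1) * Nat.card (DD ⊤ U V))) :=
    hc.mul (((Nat.even_pow.2 ⟨even_two, hj0⟩).add_one).mul h.odd_DD)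
  have e2 : 2 ^ j * (c * ((2 ^ j + 1) * Nat.card (DD ⊤ U V))) = 2 ^ k * m := by
    rw [← e, h1]; ring
  have d1 : 2 ^ j ∣ 2 ^ k :=
    (Nat.Coprime.pow_left j (Nat.coprime_two_left.2 hm)).dvd_of_dvd_mul_right ⟨_, e2.symm⟩
  have d2 : 2 ^ k ∣ 2 ^ j :=
    (Nat.Coprime.pow_left k (Nat.coprime_two_left.2 ho)).dvd_of_dvd_mul_right ⟨_, e2⟩
  rw [hj]; exact Nat.dvd_antisymm d1 d2

theorem card_DD_le (h : BF ⊤ U V q)
    (hn : ¬ ∃ d ∈ DD ⊤ U V, d ≠ 1 ∧ d ∈ centralizer (ZZ U : Set L)) :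
    Nat.card (DD ⊤ U V) ≤ q := by
  obtain ⟨y, hy, -, -, hy1, -⟩ := h.two
  have hz : ∀ d ∈ DD ⊤ U V, d * y * d⁻¹ ∈ ZZ U := by
    intro d hd
    have hU : d ∈ normalizer (U : Set L) := hd.1.2
    have m := (mem_normalizer_iff.1 hU y).1 hy.1
    refine h.cent _ m ?_
    rw [conj_mul, hy.2.1]; group
  rw [← h.card]
  refine Nat.card_le_card_of_injective (fun d : DD ⊤ U V => (⟨_, hz d d.2⟩ : ZZ U)) ?_
  intro d e hde
  have e1 : (d : L) * y * (d : L)⁻¹ = e * y * (e : L)⁻¹ := congrArg Subtype.val hde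
  have m : (e : L)⁻¹ * d ∈ DD ⊤ U V := mul_mem (inv_mem e.2) d.2
  by_contra hne
  refine hn ⟨_, m, fun e2 => hne (Subtype.ext (inv_mul_eq_one.1 e2).symm), h.DD_cen m hy hy1 ?_⟩
  calc (e : L)⁻¹ * d * y = (e : L)⁻¹ * (d * y * (d : L)⁻¹) * d := by group
    _ = _ := by rw [e1]; group

theorem jobBen : FS.JobBen.{u} := by
  rintro L _ _ (⟨F, _, _, ⟨n, h1, h2⟩, ⟨e⟩⟩ | ⟨F, _, _, m, h1, h2, ⟨e⟩⟩ | ⟨F, _, _, n, h1, h2, ⟨e⟩⟩)
  · obtain ⟨U, V, h⟩ := (H66.HR.jobL2 F n h1 h2).of_equiv (N := (⊤ : Subgroup L)) (topEquiv.trans e)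
    refine ⟨U, V, _, h, Or.inl ?_⟩
    have c : Nat.card F = 2 ^ n := by rw [Nat.card_eq_fintype_card, h2]
    have ev : Even (2 ^ n) := Nat.even_pow.2 ⟨even_two, by omega⟩
    have c1 := H61.card_psl_of_even (F := F) (c ▸ ev)
    rw [c, ← Nat.card_congr e.toEquiv] at c1
    have := card_U h (k := n) odd_one (m := (2 ^ n) ^ 2 - 1)
      (Nat.Even.sub_odd (Nat.one_le_pow _ _ (by positivity)) (Nat.even_pow.2 ⟨ev, two_ne_zero⟩) odd_one)
      (by rw [one_mul, c1])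
    exact (eq_of_le_of_card_ge (fun z hz => hz.1 : ZZ U ≤ U) (by rw [this, h.card])).ge
  · obtain ⟨U, V, h⟩ := (H66.HR.jobSz F m h1 h2).of_equiv (N := (⊤ : Subgroup L)) (topEquiv.trans e)
    refine ⟨U, V, _, h, Or.inr (Or.inr ⟨2 * m + 1, odd_two_mul_add_one m, by omega, rfl, ?_⟩)⟩
    have c1 := (Cfsg.Agent.S1163.result h1 h2).1
    rw [← Nat.card_congr e.toEquiv] at c1
    have ev : Even (2 ^ (2 * m + 1)) := Nat.even_pow.2 ⟨even_two, by omega⟩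
    refine card_U h odd_one (m := (2 ^ (2 * m + 1) - 1) * ((2 ^ (2 * m + 1)) ^ 2 + 1))
      ((Nat.Even.sub_odd (Nat.one_le_pow _ _ (by positivity)) ev odd_one).mul
        (Nat.even_pow.2 ⟨ev, two_ne_zero⟩).add_one) ?_
    rw [one_mul, c1, ← pow_mul, mul_comm (2 * m + 1) 2, mul_assoc]
  · obtain ⟨U, V, h⟩ := (H72.HRU.jobU3 F n h1 h2).of_equiv (N := (⊤ : Subgroup L)) (topEquiv.trans e)
    refine ⟨U, V, _, h, Or.inr (Or.inl ?_)⟩
    by_contra hn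
    have hle := card_DD_le h hn
    have c1 := H85.card_PSU_three h2
    rw [← Nat.card_congr e.toEquiv] at c1
    have ev : Even (2 ^ n) := Nat.even_pow.2 ⟨even_two, by omega⟩
    have hd : Nat.gcd 3 (2 ^ n + 1) ∣ 3 := Nat.gcd_dvd_left _ _
    have hU := card_U h (k := n * 3) (Odd.of_dvd_nat (by decide) hd)
      (m := ((2 ^ n) ^ 2 - 1) * ((2 ^ n) ^ 3 + 1))
      ((Nat.Even.sub_odd (Nat.one_le_pow _ _ (by positivity)) (Nat.even_pow.2 ⟨ev, two_ne_zero⟩)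
        odd_one).mul (Nat.even_pow.2 ⟨ev, three_ne_zero⟩).add_one) (by rw [c1, pow_mul])
    have h3 := h.card_N
    rw [card_top, hU, pow_mul] at h3
    rw [h3] at c1
    have q4 := h.q4
    generalize 2 ^ n = q at hle c1 hd q4
    have e3 : Nat.gcd 3 (q + 1) * Nat.card (DD ⊤ U V) = q ^ 2 - 1 := by
      have hp : 0 < q ^ 3 * (q ^ 3 + 1) := by positivity
      refine Nat.eq_of_mul_eq_mul_left hp ?_
      calc _ = Nat.gcd 3 (q + 1) * ((q ^ 3 + 1) * (q ^ 3 * Nat.card (DD ⊤ U V))) := by ring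
        _ = _ := by rw [c1]; ring
    have e4 : q ^ 2 - 1 ≤ 3 * q := e3 ▸ Nat.mul_le_mul (Nat.le_of_dvd (by norm_num) hd) hle
    have : 4 * q ≤ q ^ 2 := by nlinarith
    omega

end H82.FSB
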