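import Cfsg.Agent.H41.ItSpec
import Cfsg.Agent.H24.PiPart

/-! Tower IT, slot M: nothing proper on the `y` side makes `C y` a CC-subgroup. -/

set_option autoImplicit false
set_option linter.all false

namespace H82.ITM
open Cfsg Subgroup H41.IT

universe u

variable {G : Type*} [Group G]

theorem c_conj (g z : G) : c (g * z * g⁻¹) = c z := by
  have e : C (g * z * g⁻¹) = (C z).map (MulAut.conj g).toMonoidHom := by
    ext h
    rw [Subgroup.mem_map_equiv, mem_centralizer_singleton_iff, mem_centralizer_singleton_iff]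
    simp only [MulAut.conj_symm_apply]
    constructor
    · intro e
      calc g⁻¹ * h * g * z = g⁻¹ * (h * (g * z * g⁻¹)) * g := by group
        _ = _ := by rw [e]; group
    · intro e
      calc h * (g * z * g⁻¹) = g * (g⁻¹ * h * g * z) * g⁻¹ := by group
        _ = _ := by rw [e]; group
  unfold c
  rw [e]
  exact Subgroup.card_map_of_injective (MulAut.conj g).injective

/-- a free action on cosets -/
theorem dvd_index_of_free [Finite G] {Z A : Subgroup G}
    (h : ∀ z ∈ Z, ∀ g : G, g * z * g⁻¹ ∈ A → z = 1) : Nat.card Z ∣ A.index := by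
  have hs : ∀ b : G ⧸ A, MulAction.stabilizer Z b = ⊥ := by
    intro b
    induction b using QuotientGroup.induction_on with
    | H g =>
      rw [eq_bot_iff]
      intro z hz
      rw [MulAction.mem_stabilizer_iff] at hz
      have h1 : (((z : G) * g : G) : G ⧸ A) = (g : G ⧸ A) := hz
      rw [eq_comm, QuotientGroup.eq] at h1
      rw [mem_bot]
      apply Subtype.ext
      apply h z z.2 g⁻¹
      simpa [mul_assoc] using h1
  have e := Nat.card_congr (MulAction.selfEquivOrbitsQuotientProd hs)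
  rw [Nat.card_prod] at e
  rw [Subgroup.index, e]
  exact Dvd.intro_left _ rfl

/-- second centre of a non-abelian `p`-group -/
theorem exists_z2 {Q : Type*} [Group Q] [Finite Q] {p : ℕ} [Fact p.Prime] (hQ : IsPGroup p Q)
    (hn : center Q ≠ ⊤) :
    ∃ g : Q, g ∉ center Q ∧ (centralizer ({g} : Set Q)).index ∣ Nat.card (center Q) := by
  have hnt : Nontrivial (Q ⧸ center Q) := by
    rw [QuotientGroup.nontrivial_iff]; exact hn
  have h2 := (hQ.to_quotient (center Q)).center_nontrivial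
  obtain ⟨⟨w, hw⟩, w1⟩ := exists_ne (1 : center (Q ⧸ center Q))
  obtain ⟨g, rfl⟩ := QuotientGroup.mk_surjective w
  have hg : g ∉ center Q := fun e => w1 (Subtype.ext ((QuotientGroup.eq_one_iff g).mpr e))
  have hc : ∀ h : Q, g * h * g⁻¹ * h⁻¹ ∈ center Q := by
    intro h
    rw [← QuotientGroup.eq_one_iff]
    have := mem_center_iff.mp hw (h : Q ⧸ center Q)
    simp only [QuotientGroup.mk_mul, QuotientGroup.mk_inv]
    rw [← this]; group
  let φ : Q →* center Q := MonoidHom.mk' (fun h => ⟨g * h * g⁻¹ * h⁻¹, hc h⟩) (by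
    intro a b
    apply Subtype.ext
    have e := mem_center_iff.mp (hc b) a
    show g * (a * b) * g⁻¹ * (a * b)⁻¹ = g * a * g⁻¹ * a⁻¹ * (g * b * g⁻¹ * b⁻¹)
    calc g * (a * b) * g⁻¹ * (a * b)⁻¹
        = g * a * g⁻¹ * a⁻¹ * (a * (g * b * g⁻¹ * b⁻¹)) * a⁻¹ := by group
      _ = _ := by rw [e]; group)
  have hk : φ.ker = centralizer ({g} : Set Q) := by
    ext h
    rw [MonoidHom.mem_ker, mem_centralizer_singleton_iff, Subtype.ext_iff]
    show g * h * g⁻¹ * h⁻¹ = 1 ↔ _
    constructor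
    · intro e
      calc h * g = (g * h * g⁻¹ * h⁻¹)⁻¹ * (g * h) := by group
        _ = _ := by rw [e]; group
    · intro e
      rw [← e]; group
  refine ⟨g, hg, ?_⟩
  rw [← hk, Subgroup.index_ker]
  exact Subgroup.card_subgroup_dvd_card _

section Main
variable [Finite G] {x y : G}

/-- centre of `C y`, inside `G` -/
abbrev Zy (y : G) : Subgroup G := C y ⊓ centralizer (C y : Set G)

theorem mem_Zy {z : G} : z ∈ Zy y ↔ z ∈ C y ∧ C y ≤ C z := by
  constructor
  · rintro ⟨h1, h2⟩
    exact ⟨h1, fun b hb => mem_centralizer_singleton_iff.mpr (h2 b hb)⟩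
  · rintro ⟨h1, h2⟩
    exact ⟨h1, fun b hb => mem_centralizer_singleton_iff.mp (h2 hb)⟩

theorem zc (hK : K2 x y) {z : G} (hz : z ∈ Zy y) (z1 : z ≠ 1) : C z = C y := by
  have hle := (mem_Zy.mp hz).2
  exact (Subgroup.eq_of_le_of_card_ge hle
    (le_of_eq (hK.my z z1 (Subgroup.card_dvd_of_le hle)))).symm

theorem zfree (hK : K2 x y) (hS : SZ x y) (z : G) (hz : z ∈ Zy y) (g : G)
    (h : g * z * g⁻¹ ∈ C x) : z = 1 := by
  by_contra z1
  refine hS.nc x (g * z * g⁻¹) hK.x1 (fun e => z1 (by simpa using e)) rfl ?_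
    (mem_centralizer_singleton_iff.mp h).symm
  rw [c_conj]
  unfold c
  rw [zc hK hz z1]

/-- the alternative for an element of order prime to a central element -/
theorem alt (hK : K2 x y) (H : ∀ g : G, g ≠ 1 → c g ∣ c y → c g = c y ∨ c g ∣ c x)
    {z g : G} (hz : z ∈ Zy y) (z1 : z ≠ 1) (hg : g ∈ C y)
    (hc : (orderOf g).Coprime (orderOf z)) :
    C y ≤ C g ∨ Nat.card (C g ⊓ C y : Subgroup G) ∣ c x := by
  have hcm : Commute g z := mem_centralizer_singleton_iff.mp ((mem_Zy.mp hz).2 hg)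
  have e : C (g * z) = C g ⊓ C y := by
    rw [← zc hK hz z1]; exact H24.centralizer_mul_of_coprime hcm hc
  have h1 : g * z ≠ 1 := by
    intro h
    have := hcm.orderOf_mul_eq_mul_orderOf_of_coprime hc
    rw [h, orderOf_one] at this
    exact z1 (orderOf_eq_one_iff.mp (Nat.eq_one_of_mul_eq_one_left this.symm))
  have e' : c (g * z) = Nat.card (C g ⊓ C y : Subgroup G) := by unfold c; rw [e]
  rcases H (g * z) h1 (e' ▸ Subgroup.card_dvd_of_le inf_le_right) with h | h
  · left
    have := Subgroup.eq_of_le_of_card_ge (inf_le_right : C g ⊓ C y ≤ C y) (le_of_eq (e' ▸ h).symm)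
    rw [← this]; exact inf_le_left
  · right; exact e' ▸ h

/-- a full Sylow subgroup inside `C y` -/
theorem exists_syl (hS : SZ x y) {s : ℕ} (hs : s.Prime) (hn : s ∣ (C x).index) :
    ∃ Q : Subgroup G, Q ≤ C y ∧ Nat.card Q =
      s ^ ((c x).factorization s + (C x).index.factorization s) := by
  have := Fact.mk hs
  have hG : Nat.card G ≠ 0 := Nat.card_pos.ne'
  have h1 := (C x).card_mul_index
  have h2 := (C y).card_mul_index
  have hi : ¬ s ∣ (C y).index := fun h =>
    hs.one_lt.ne' (Nat.eq_one_of_dvd_coprimes hS.cop hn h)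
  have hd : s ^ ((c x).factorization s + (C x).index.factorization s) ∣ Nat.card (C y) := by
    have : s ^ ((c x).factorization s + (C x).index.factorization s) ∣
        Nat.card (C y) * (C y).index := by
      rw [h2, ← h1, pow_add]
      exact Nat.mul_dvd_mul (Nat.ordProj_dvd _ _) (Nat.ordProj_dvd _ _)
    exact (Nat.Coprime.pow_left _ ((Nat.Prime.coprime_iff_not_dvd hs).mpr hi)).dvd_of_dvd_mul_right
      this
  obtain ⟨K, hK⟩ := Sylow.exists_subgroup_card_pow_prime s hd
  refine ⟨K.map (C y).subtype, map_subtype_le _, ?_⟩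
  rw [Subgroup.card_map_of_injective (C y).subtype_injective, hK]

theorem not_dvd {s : ℕ} (hs : s.Prime) (hn : s ∣ (C x).index) :
    ¬ s ^ ((c x).factorization s + (C x).index.factorization s) ∣ c x := by
  intro h
  have h0 : c x ≠ 0 := Nat.card_pos.ne'
  have h1 := (hs.pow_dvd_iff_le_factorization h0).mp h
  have h2 := hs.factorization_pos_of_dvd (C x).index_ne_zero_of_finite hn
  omega

theorem ord_of_mem {Q : Subgroup G} {s m : ℕ} (hs : s.Prime) (hQ : Nat.card Q = s ^ m) {g : G}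
    (hg : g ∈ Q) : ∃ k, orderOf g = s ^ k := by
  have := Subgroup.orderOf_dvd_natCard Q hg
  rw [hQ] at this
  obtain ⟨k, -, hk⟩ := (Nat.dvd_prime_pow hs).mp this
  exact ⟨k, hk⟩

/-- the alternative (P) for all elements of prime power order -/
theorem altP (hK : K2 x y) (hS : SZ x y)
    (H : ∀ g : G, g ≠ 1 → c g ∣ c y → c g = c y ∨ c g ∣ c x) {g : G} (hg : g ∈ C y)
    (hp : Pri g) : C y ≤ C g ∨ Nat.card (C g ⊓ C y : Subgroup G) ∣ c x := by
  have hy : y ∈ Zy y := mem_Zy.mpr ⟨mem_centralizer_singleton_iff.mpr rfl, le_rfl⟩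
  have ho : orderOf y ≠ 1 := fun e => hK.y1 (orderOf_eq_one_iff.mp e)
  obtain ⟨q, hq, hqd⟩ := Nat.exists_prime_and_dvd ho
  have hy0 : orderOf (y ^ (orderOf y / q)) = q :=
    orderOf_pow_orderOf_div (orderOf_pos y).ne' hqd
  set y0 := y ^ (orderOf y / q)
  have y0Z : y0 ∈ Zy y := pow_mem hy _
  have y01 : y0 ≠ 1 := fun e => hq.one_lt.ne' (by rw [← hy0, e, orderOf_one])
  obtain ⟨s, hs, hn, sq⟩ : ∃ s : ℕ, s.Prime ∧ s ∣ (C x).index ∧ s ≠ q := by
    by_contra hcon
    push Not at hcon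
    exact hS.np q _ hq (Nat.eq_prime_pow_of_unique_prime_dvd (C x).index_ne_zero_of_finite
      (fun {d} hd h => hcon d hd h))
  have := Fact.mk hs
  obtain ⟨Q, hQB, hQ⟩ := exists_syl hS hs hn
  have hnt : Nontrivial Q := by
    rw [← Finite.one_lt_card_iff_nontrivial, hQ]
    have h2 := hs.factorization_pos_of_dvd (C x).index_ne_zero_of_finite hn
    exact Nat.one_lt_pow (by omega) hs.one_lt
  have h2 := (IsPGroup.of_card hQ).center_nontrivial
  obtain ⟨⟨w, hw⟩, w1⟩ := exists_ne (1 : center Q)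
  have w1' : (w : G) ≠ 1 := fun e => w1 (Subtype.ext (Subtype.ext e))
  obtain ⟨k, hk⟩ := ord_of_mem hs hQ w.2
  have wZ : (w : G) ∈ Zy y := by
    refine mem_Zy.mpr ⟨hQB w.2, ?_⟩
    refine (alt hK H y0Z y01 (hQB w.2) ?_).resolve_right fun h => not_dvd hs hn ?_
    · rw [hk, hy0]; exact Nat.Coprime.pow_left _ ((Nat.coprime_primes hs hq).mpr sq)
    · rw [← hQ]
      refine (Subgroup.card_dvd_of_le (le_inf (fun a ha => ?_) hQB)).trans h
      exact mem_centralizer_singleton_iff.mpr
        (congrArg Subtype.val (mem_center_iff.mp hw ⟨a, ha⟩))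
  obtain ⟨r, j, hr, hj⟩ := hp
  by_cases rq : r = q
  · refine alt hK H wZ w1' hg ?_
    rw [hj, hk, rq]
    exact Nat.Coprime.pow _ _ ((Nat.coprime_primes hq hs).mpr sq.symm)
  · refine alt hK H y0Z y01 hg ?_
    rw [hj, hy0]
    exact Nat.Coprime.pow_left _ ((Nat.coprime_primes hr hq).mpr rq)

/-- if some primary element is not central in `C y`, the index of `C x` divides the centre -/
theorem index_dvd (hK : K2 x y) (hS : SZ x y)
    (H : ∀ g : G, g ≠ 1 → c g ∣ c y → c g = c y ∨ c g ∣ c x) {g1 : G} (hg : g1 ∈ C y)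
    (hp : Pri g1) (hn : ¬ C y ≤ C g1) : (C x).index ∣ Nat.card (Zy y) := by
  rw [Nat.dvd_iff_prime_pow_dvd_dvd]
  intro s k hs hk
  rcases Nat.eq_zero_or_pos k with rfl | k0
  · simp
  have hsn : s ∣ (C x).index := (dvd_pow_self s k0.ne').trans hk
  have := Fact.mk hs
  obtain ⟨Q, hQB, hQ⟩ := exists_syl hS hs hsn
  have hP : ∀ g : Q, C y ≤ C (g : G) ∨ Nat.card (C (g : G) ⊓ C y : Subgroup G) ∣ c x := by
    intro g
    obtain ⟨j, hj⟩ := ord_of_mem hs hQ g.2
    exact altP hK hS H (hQB g.2) ⟨s, j, hs, hj⟩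
  have hZ : ∀ w ∈ center Q, (w : G) ∈ Zy y := by
    intro w hw
    refine mem_Zy.mpr ⟨hQB w.2, (hP w).resolve_right fun h => not_dvd hs hsn ?_⟩
    rw [← hQ]
    refine (Subgroup.card_dvd_of_le (le_inf (fun a ha => ?_) hQB)).trans h
    exact mem_centralizer_singleton_iff.mpr (congrArg Subtype.val (mem_center_iff.mp hw ⟨a, ha⟩))
  have hna : center Q ≠ ⊤ := by
    intro e
    apply not_dvd hs hsn
    rw [← hQ]
    refine (Subgroup.card_dvd_of_le (le_inf (fun a ha => ?_) hQB)).trans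
      ((altP hK hS H hg hp).resolve_left hn)
    have := (mem_Zy.mp (hZ ⟨a, ha⟩ (e ▸ mem_top _))).2 hg
    exact mem_centralizer_singleton_iff.mpr (mem_centralizer_singleton_iff.mp this).symm
  obtain ⟨g, hgc, hgi⟩ := exists_z2 (IsPGroup.of_card hQ) hna
  have hb : (centralizer ({g} : Set Q)).index ∣ Nat.card (Zy y) := by
    refine hgi.trans ?_
    rw [← Subgroup.card_map_of_injective (K := center Q) Q.subtype_injective]
    apply Subgroup.card_dvd_of_le
    rintro _ ⟨w, hw, rfl⟩
    exact hZ w hw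
  have ha : Nat.card (centralizer ({g} : Set Q)) ∣ c x := by
    refine Dvd.dvd.trans ?_ ((hP g).resolve_left fun h => hgc (mem_center_iff.mpr fun a =>
      Subtype.ext (mem_centralizer_singleton_iff.mp (h (hQB a.2)))))
    rw [← Subgroup.card_map_of_injective (K := centralizer ({g} : Set Q)) Q.subtype_injective]
    apply Subgroup.card_dvd_of_le
    rintro _ ⟨w, hw, rfl⟩
    exact ⟨mem_centralizer_singleton_iff.mpr
      (congrArg Subtype.val (mem_centralizer_singleton_iff.mp hw)), hQB w.2⟩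
  have hm := (centralizer ({g} : Set Q)).card_mul_index
  rw [hQ] at hm
  obtain ⟨i, -, hi⟩ := (Nat.dvd_prime_pow hs).mp (Dvd.intro _ hm)
  obtain ⟨j, -, hj⟩ := (Nat.dvd_prime_pow hs).mp (Dvd.intro_left _ hm)
  rw [hi, hj, ← pow_add] at hm
  have e1 := Nat.pow_right_injective hs.two_le hm
  rw [hi] at ha
  have e2 := (hs.pow_dvd_iff_le_factorization (Nat.card_pos (α := C x)).ne').mp ha
  have e3 := (hs.pow_dvd_iff_le_factorization (C x).index_ne_zero_of_finite).mp hk
  rw [hj] at hb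
  exact (pow_dvd_pow s (by unfold c at e1; omega)).trans hb

theorem le_Zy (hK : K2 x y) (hS : SZ x y)
    (H : ∀ g : G, g ≠ 1 → c g ∣ c y → c g = c y ∨ c g ∣ c x) : C y ≤ Zy y := by
  by_cases hall : ∀ g ∈ C y, Pri g → C y ≤ C g
  · refine (Subgroup.eq_of_le_of_card_ge (inf_le_left : Zy y ≤ C y)
      (Nat.le_of_dvd Nat.card_pos ?_)).ge
    rw [Nat.dvd_iff_prime_pow_dvd_dvd]
    intro s k hs hk
    have := Fact.mk hs
    obtain ⟨K, hKc⟩ := Sylow.exists_subgroup_card_pow_prime s hk
    have hc : Nat.card (K.map (C y).subtype) = s ^ k := by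
      rw [Subgroup.card_map_of_injective (C y).subtype_injective, hKc]
    rw [← hc]
    apply Subgroup.card_dvd_of_le
    intro g hg
    obtain ⟨j, hj⟩ := ord_of_mem hs hc hg
    exact mem_Zy.mpr ⟨map_subtype_le _ hg, hall g (map_subtype_le _ hg) ⟨s, j, hs, hj⟩⟩
  · push Not at hall
    obtain ⟨g1, hg, hp, hn⟩ := hall
    have e : Nat.card (Zy y) = (C x).index :=
      Nat.dvd_antisymm (dvd_index_of_free (zfree hK hS)) (index_dvd hK hS H hg hp hn)
    have hcomp : IsComplement' (Zy y) (C x) := by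
      apply Subgroup.isComplement'_of_card_mul_and_disjoint
      · rw [e, mul_comm]; exact (C x).card_mul_index
      · rw [Subgroup.disjoint_def]
        intro z hz hx
        exact zfree hK hS z hz 1 (by simpa using hx)
    have dec : ∀ b ∈ C y, ∃ z ∈ Zy y, ∃ a ∈ C x ⊓ C y, b = z * a := by
      intro b hb
      obtain ⟨⟨z, a⟩, hza⟩ := hcomp.2 b
      have hza' : (z : G) * a = b := hza
      refine ⟨z, z.2, a, ⟨a.2, ?_⟩, hza'.symm⟩
      have : (a : G) = (z : G)⁻¹ * b := by rw [← hza']; group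
      rw [this]
      exact (C y).mul_mem ((C y).inv_mem (mem_Zy.mp z.2).1) hb
    have hN : C x ⊓ C y = ⊥ := by
      apply hS.core _ inf_le_left
      intro b hb
      obtain ⟨z, hz, a, ha, rfl⟩ := dec b hb
      refine mul_mem ?_ (le_normalizer ha)
      apply centralizer_le_normalizer
      intro m hm
      exact hz.2 m hm.2
    intro b hb
    obtain ⟨z, hz, a, ha, rfl⟩ := dec b hb
    rw [hN, mem_bot] at ha
    rw [ha, mul_one]
    exact hz

end Main

theorem jobM : JobM.{u} := by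
  intro G _ _ x y hK hS H
  have hle := le_Zy hK hS H
  refine ⟨fun z hz z1 => zc hK (hle hz) z1, ?_⟩
  rw [eq_bot_iff]
  intro z hz
  exact mem_bot.mpr (zfree hK hS z (hle hz.2) 1 (by simpa using hz.1))

end H82.ITM
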