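import Cfsg.Agent.H82.FSKit

/-! Tower FS, part 2 (blueprints/FS.md). -/

set_option autoImplicit false

namespace H82.FS

open Cfsg Subgroup
open scoped commutatorElement

universe u v

section Defs

variable {G : Type u} [Group G]

/-- Involutions centralising `A` fix a second point and a point on each line they reflect. -/
def F1 (A : Subgroup G) : Prop := ∀ t, orderOf t = 2 → t ∈ centralizer (A : Set G) →
  (∃ g, cj g A ≠ A ∧ cj g A ≤ centralizer ({t} : Set G)) ∧
    ∀ g, ∃ h, cj h A ≤ centralizer ({t} : Set G) ∧ cj h A ≤ cj g A ⊔ cj (t * g) A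

/-- `L` is the span of the points fixed by `t`. -/
def Fx (r : ℕ) (A : Subgroup G) (t : G) (L : Subgroup G) : Prop :=
  Sp r A L ∧ L ≤ centralizer ({t} : Set G) ∧ centralizer ({t} : Set G) ≤ normalizer (L : Set G) ∧
    ∀ g, cj g A ≤ centralizer ({t} : Set G) → ∃ y ∈ L, cj g A = cj y A

/-- The fixed points of an involution lie in one block only. -/
def TyU (r : ℕ) (A : Subgroup G) : Prop := ∀ t, orderOf t = 2 → t ∈ centralizer (A : Set G) →
  ∀ L, Fx r A t L → ∀ X Y, Blk r A X → Blk r A Y → L ≤ X → L ≤ Y → X = Y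

end Defs

/-! ### `r` odd -/

def JobF1 : Prop := ∀ (G : Type u) [Group G] [Finite G] (p r : ℕ) (A N : Subgroup G),
  Geo p r A N → r ≠ 2 → TR A →
  (∃ S : Sylow 2 G, (S : Subgroup G) ≤ centralizer (A : Set G)) ∧ F1 A

def JobU : Prop := ∀ (G : Type u) [Group G] [Finite G] (p r : ℕ) (A N : Subgroup G),
  Geo p r A N → r ≠ 2 → BlkF r A → F1 A → TyU r A

def JobKB : Prop := ∀ (G : Type u) [Group G] [Finite G] (p r : ℕ) (A N : Subgroup G),
  Geo p r A N → r ≠ 2 → BlkF r A → F1 A → TyU r A → ∀ Y, Blk r A Y → ∀ (t t' : G) (L L' : Subgroup G),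
  orderOf t = 2 → orderOf t' = 2 → t ≠ t' → Commute t t' → t ∈ centralizer (A : Set G) →
  t' ∈ centralizer (A : Set G) → t ∈ normalizer (Y : Set G) → t' ∈ normalizer (Y : Set G) →
  Fx r A t L → Fx r A t' L' → ¬ L ≤ Y → ¬ L' ≤ Y → t * t' ∈ centralizer (Y : Set G)

def JobK : Prop := JobKB.{u} → ∀ (G : Type u) [Group G] [Finite G] (p r : ℕ) (A N : Subgroup G),
  Geo p r A N → r ≠ 2 → BlkF r A → F1 A → TyU r A → ∀ S : Sylow 2 G,
  (S : Subgroup G) ≤ centralizer (A : Set G) → PRankAtLeast 2 3 G →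
  IsFourConnected (S : Subgroup G) → ∃ H : Subgroup G, IsStronglyEmbedded H

def JobRk2 : Prop := ∀ (F : Type) [Field F] [Fintype F], Odd (Fintype.card F) →
  ∀ z x y : Matrix.ProjectiveSpecialLinearGroup (Fin 2) F, orderOf z = 2 → Odd (orderOf x) →
  Odd (orderOf y) → Commute x z → Commute y z → Commute x y

/-- The conclusion for `L₃(q)` and `U₃(q)`. -/
def R3 (G : Type) [Group G] : Prop := ∀ (S : Sylow 2 G) (z x : G), orderOf z = 2 → z ∈ S →
  z ∈ centralizer (S : Set G) → x ∈ centralizer (S : Set G) → (orderOf x).Coprime 6 →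
  ∀ y, Commute y z → Commute y x

def JobRk3 : Prop :=
  (∀ (F : Type) [Field F] [Fintype F], Odd (Fintype.card F) →
    R3 (Matrix.ProjectiveSpecialLinearGroup (Fin 3) F)) ∧
  ∀ (F : Type) [Field F] [Fintype F] (q : ℕ), Fintype.card F = q ^ 2 → Odd q → R3 (PSU 3 F q)

def JobRkB : Prop := ∀ (G : Type u) [Group G] [Finite G] [IsSimpleGroup G],
  (∃ H : Subgroup G, IsStronglyEmbedded H) → ∀ (S : Sylow 2 G) (x : G),
  x ∈ centralizer (S : Set G) → Odd (orderOf x) → x = 1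

def JobRk : Prop := ∀ (G : Type u) [Group G] [Finite G] [IsSimpleGroup G], ¬ IsMulCommutative G →
  (PRankLE 2 2 G ∨ ∃ H : Subgroup G, IsStronglyEmbedded H) → ∀ (S : Sylow 2 G) (z x : G) (p r : ℕ)
  (R : Subgroup G), orderOf z = 2 → z ∈ S → z ∈ centralizer (S : Set G) →
  x ∈ centralizer (S : Set G) → p.Prime → 7 ≤ p → orderOf x = p → r.Prime → r ≠ 2 → r ≠ p →
  IsPGroup r R → R ≤ centralizer ({z} : Set G) →
  centralizer ({z} : Set G) ≤ normalizer (R : Set G) → x ∈ centralizer (R : Set G)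

def JobRkM : Prop := JobRk2 → JobRk3 → JobRkB.{u} → JobRk.{u}

def JobJ : Prop := ∀ (G : Type u) [Group G] [Finite G] [IsSimpleGroup G], ¬ PRankLE 2 2 G →
  ∀ S : Sylow 2 G, ¬ IsFourConnected (S : Subgroup G) → ∀ z : G, orderOf z = 2 → z ∈ S →
  z ∈ centralizer (S : Set G) → Nat.card (centralizer ({z} : Set G)) ∣ 1920

def JobFin : Prop := JobRk.{u} → JobJ.{u} →
  ∀ (G : Type u) [Group G] [Finite G] (p r : ℕ) (A N : Subgroup G),
  Geo p r A N → r ≠ 2 → TR A → F1 A → ∀ S : Sylow 2 G,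
  (S : Subgroup G) ≤ centralizer (A : Set G) → PRankAtLeast 2 3 G ∧
    IsFourConnected (S : Subgroup G) ∧ ¬ ∃ H : Subgroup G, IsStronglyEmbedded H

end H82.FS
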