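import Cfsg.Agent.H57.DPCSpec
import Cfsg.Agent.H14.Rel

/-! S3275, chapter C+KM: `JobCm` (components of proper subgroups with trivial `O₂`). -/

set_option autoImplicit false
set_option linter.all false

namespace H82.DPCm

open Subgroup Cfsg H98 H48.DP H57.DPC

universe u

theorem three_congr {X Y : Type*} [Group X] [Group Y] (e : X ≃* Y) (h : Three X) : Three Y := by
  rcases h with ⟨⟨f⟩⟩ | ⟨⟨f⟩⟩ | ⟨F, _, _, hF, ⟨f⟩⟩
  · exact .inl ⟨e.symm.trans f⟩
  · exact .inr (.inl ⟨e.symm.trans f⟩)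
  · exact .inr (.inr ⟨F, _, _, hF, ⟨e.symm.trans f⟩⟩)

theorem map_center {X Y : Type*} [Group X] [Group Y] (e : X ≃* Y) :
    (center X).map (e : X →* Y) = center Y := by
  ext y
  constructor
  · rintro ⟨x, hx, rfl⟩
    refine mem_center_iff.mpr fun g => ?_
    obtain ⟨a, rfl⟩ := e.surjective g
    show e a * e x = e x * e a
    rw [← map_mul, ← map_mul, mem_center_iff.mp hx a]
  · intro hy
    obtain ⟨x, rfl⟩ := e.surjective y
    refine ⟨x, mem_center_iff.mpr fun g => e.injective ?_, rfl⟩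
    rw [map_mul, map_mul, mem_center_iff.mp hy (e g)]

theorem three_quot_congr {X Y : Type*} [Group X] [Group Y] (e : X ≃* Y)
    (h : Three (X ⧸ center X)) : Three (Y ⧸ center Y) :=
  three_congr (QuotientGroup.congr (center X) (center Y) e (map_center e)) h

variable {G : Type u} [Group G] [Finite G]

/-- `Act` for a component of a subgroup. -/
theorem act_rel (act : Act.{u}) (nd : ND G) {K H : Subgroup G} (hK : IsComponentOf K H)
    (h3 : Three (K ⧸ center K)) : (∀ g ∈ H, IsPGroup 2 (zpowers g) → g ∈ No K) ∧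
      ∀ g ∈ H, g ∈ No K → ∃ l ∈ K, l⁻¹ * g ∈ Ce K := by
  obtain ⟨a1, a2⟩ := act H (nd.sub H) (K.subgroupOf H) hK.2
    (three_quot_congr (subgroupOfEquivOfLe hK.1).symm h3)
  constructor
  · intro g hg h2
    have h2' : IsPGroup 2 (zpowers (⟨g, hg⟩ : H)) := by
      obtain ⟨k, hk⟩ := h2 ⟨g, mem_zpowers g⟩
      have hk' : g ^ 2 ^ k = 1 := congrArg Subtype.val hk
      exact isPGroup_zpowers (k := k) (Subtype.ext hk')
    exact H14.map_le_normalizer_of_subgroupOf hK.1 (N := No (K.subgroupOf H)) le_rfl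
      ⟨_, a1 ⟨g, hg⟩ h2', rfl⟩
  · intro g hg hn
    obtain ⟨l, hl, hc⟩ := a2 ⟨g, hg⟩
      (H14.subgroupOf_le_normalizer H (le_refl (No K)) (show (⟨g, hg⟩ : H) ∈ _ from hn))
    exact ⟨l, hl, fun k hk => congrArg Subtype.val (hc ⟨k, hK.1 hk⟩ hk)⟩

/-- The centre of a subnormal subgroup of `H` has odd order when `O₂(H) = 1`. -/
theorem odd_center {K H : Subgroup G} (hs : SubN K H) (h2 : O2 H = ⊥) :
    Odd (Nat.card (center K)) := by
  by_contra h
  have : Fact (Nat.Prime 2) := ⟨Nat.prime_two⟩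
  obtain ⟨z, hz⟩ := exists_prime_orderOf_dvd_card' (G := center K) 2
    (even_iff_two_dvd.mp (Nat.not_odd_iff_even.mp h))
  have ho : orderOf ((z : K) : G) = 2 := by rw [orderOf_coe, orderOf_coe, hz]
  have hle : zpowers ((z : K) : G) ≤ K := (zpowers_le (G := G)).mpr (z : K).2
  have hn : K ≤ normalizer (zpowers ((z : K) : G) : Set G) := by
    intro k hk
    apply centralizer_le_normalizer
    rintro _ ⟨n, rfl⟩
    have : Commute ((z : K) : G) k :=
      (congrArg Subtype.val (mem_center_iff.mp z.2 ⟨k, hk⟩)).symm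
    exact (this.zpow_left n).eq
  have := ((SubN.of_normal hle hn).trans hs).le_pCoreOf
    (isPGroup_zpowers (p := 2) (k := 1) (by rw [pow_one, ← ho, pow_orderOf_eq_one]))
  have h1 : ((z : K) : G) ∈ O2 H := this (mem_zpowers _)
  rw [h2, mem_bot] at h1
  rw [h1, orderOf_one] at ho
  omega

theorem jobCm : JobCm.{u} := by
  intro act cov sm G _ _ hG H K hH h2 hK
  have hcp := H14.cp_iff.mpr hK
  have hKt : K ≠ ⊤ := fun e => hH (top_le_iff.mp (e ▸ hK.1))
  have h3 : Three (K ⧸ center K) :=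
    hG.k K hKt (center K) hcp.2.2 (H14.quasi_quotient_not_comm hcp.2)
  have h3' : Three K := cov K hcp.2 (odd_center hcp.1 h2) h3
  have hN : IsComponentOf K (No K) :=
    H14.cp_iff.mp ⟨SubN.of_normal le_normalizer le_rfl, hcp.2⟩
  exact ⟨hK, sm G K h3', (act_rel act hG.nd hK h3).1,
    fun g hg => (act_rel act hG.nd hN h3).2 g hg hg⟩

end H82.DPCm
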