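import Cfsg.Agent.Base
import Cfsg.Prelude.Def_Solvable
import Cfsg.Prelude.Def_Involutions
import Cfsg.Prelude.Def_EvenType
import Cfsg.Prelude.Def_CaseTheorems

/-! Tower FS (blueprints/FS.md, captain helper82): F-sets with solvable pairs; S3257 and S3617. -/

set_option autoImplicit false

namespace H82.FS

open Cfsg Subgroup
open scoped commutatorElement

universe u v

section Defs

variable {G : Type u} [Group G]

/-- `g H g⁻¹`. -/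
abbrev cj (g : G) (H : Subgroup G) : Subgroup G := H.map (MulAut.conj g).toMonoidHom

/-- The line group through the points `A` and `cj g A`. -/
def ln (A : Subgroup G) (g : G) : Subgroup G := A ⊔ cj g A

/-- Its kernel. -/
def kl (A : Subgroup G) (g : G) : Subgroup G := ⁅ln A g, ln A g⁆

/-- The subgroup generated by the `A`-conjugates of `u`. -/
def orb (A : Subgroup G) (u : G) : Subgroup G := closure {w | ∃ a ∈ A, w = a * u * a⁻¹}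

structure Lin (p r : ℕ) (A : Subgroup G) : Prop where
  hp : p.Prime
  p2 : p ≠ 2
  hr : r.Prime
  pr : r ≠ p
  card : Nat.card A = p
  gen : normalClosure (A : Set G) = ⊤
  line : ∀ g, IsPGroup r (kl A g)
  sub : ∀ g, cj g A ≤ kl A g ⊔ A

structure Uni (p r : ℕ) (A : Subgroup G) : Prop where
  lin : Lin p r A
  eq : ∀ g h, cj g A ≠ A → cj h A ≠ A → Nat.card (ln A g) = Nat.card (ln A h)

def Iso (A : Subgroup G) : Prop := normalizer (A : Set G) ≤ centralizer (A : Set G)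

def TR (A : Subgroup G) : Prop :=
  ∀ g ∈ normalizer (A : Set G), ∀ k : ℕ, g ^ 2 ^ k = 1 → g ∈ centralizer (A : Set G)

def Ab (A : Subgroup G) : Prop := ∀ g, IsMulCommutative (kl A g)

def An (A : Subgroup G) : Prop := ∀ g, cj g A ≠ A → ¬ IsMulCommutative (kl A g)

/-- Two points determine their line. -/
def Lr (A : Subgroup G) : Prop := ∀ g h, cj h A ≠ A → cj h A ≤ ln A g → cj g A ≤ ln A h

/-- A span at `A`. -/
def Sp (r : ℕ) (A R : Subgroup G) : Prop :=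
  IsPGroup r R ∧ A ≤ normalizer (R : Set G) ∧ ⁅R, A⁆ = R

def Cls (r : ℕ) (A R : Subgroup G) : Prop :=
  ⁅R, R⁆ = R ⊓ centralizer (A : Set G) ∧ ⁅R, R⁆ ≤ centralizer (R : Set G) ∧
    ∀ y ∈ R, y ^ r ∈ ⁅R, R⁆

def Loc (r : ℕ) (A : Subgroup G) : Prop :=
  ∀ H : Subgroup G, H ≠ ⊤ → A ≤ H → ∃ R, Sp r A R ∧ R ≤ H ∧ H ≤ normalizer (R : Set G) ∧
    ∀ g, cj g A ≤ H → ∃ y ∈ R, cj g A = cj y A

structure Geo (p r : ℕ) (A N : Subgroup G) : Prop where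
  lin : Lin p r A
  lr : Lr A
  norm : N.Normal
  simple : IsSimpleGroup N
  nab : ¬ IsMulCommutative N
  sup : N ⊔ A = ⊤
  cen : centralizer (N : Set G) = ⊥
  dvd : p ∣ Nat.card N
  loc : Loc r A
  cls : ∀ R, Sp r A R → Cls r A R

/-- A block at `A`: a maximal span. -/
def Blk (r : ℕ) (A X : Subgroup G) : Prop := Sp r A X ∧ ∀ Y, Sp r A Y → X ≤ Y → Y = X

structure BlkF (r : ℕ) (A : Subgroup G) : Prop where
  zl : ∀ X Y, Blk r A X → Blk r A Y → X ≠ Y → ⁅X, X⁆ ⊓ normalizer (Y : Set G) = ⊥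
  lag : ∀ L X Y, Sp r A L → L ≠ ⊥ → Blk r A X → Blk r A Y → X ≠ Y → L ≤ X → L ≤ Y →
    ⁅X, X⁆ ≠ ⊥ ∧ ∀ M, Sp r A M → M ≤ normalizer (L : Set G) → M ≤ X

/-- The image in the central quotient. -/
abbrev bar (A : Subgroup G) : Subgroup (G ⧸ center G) := A.map (QuotientGroup.mk' (center G))

end Defs

/-! ### General part -/

def JobLine : Prop := ∀ (G : Type u) [Group G] [Finite G], ¬ IsMulCommutative G →
  ∀ (p : ℕ), p.Prime → p ≠ 2 → ∀ D : Set (Subgroup G), (∀ A ∈ D, Nat.card A = p) →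
  (∀ A ∈ D, ∀ g : G, cj g A ∈ D) → sSup D = ⊤ →
  ∀ (F : Type v) [Group F] [Finite F], Odd (Nat.card F) →
  (∀ A ∈ D, ∀ B ∈ D, A ≠ B → Nonempty (↥(A ⊔ B) ≃* F)) →
  ∃ (r : ℕ) (A : Subgroup G), r ≠ 2 ∧ Uni p r A ∧ (Ab A ∨ An A)

def JobTR : Prop := ∀ (G : Type u) [Group G] [Finite G] (p r : ℕ) (A : Subgroup G),
  Lin p r A → r ≠ 2 → TR A

def JobAb : Prop := ∀ (G : Type u) [Group G] [Finite G] (p r : ℕ) (A : Subgroup G),
  Lin p r A → TR A → Ab A → centralizer (A : Set G) ≤ A ∧ ¬ A ≤ commutator G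

def JobSol : Prop := ∀ (G : Type u) [Group G] [Finite G] (p r : ℕ) (A : Subgroup G),
  Uni p r A → An A → ∀ R, Sp r A R → Cls r A R

def JobHol : Prop := ∀ (G : Type u) [Group G] [Finite G] (p r : ℕ) (A : Subgroup G),
  Uni p r A → TR A → (∀ R, Sp r A R → Cls r A R) → ∀ Q : Subgroup G, Q.Normal → IsPGroup r Q →
  ∀ g ∈ commutator G, (orderOf g).Coprime r → g ∈ centralizer (Q : Set G)

def JobHolA : Prop := ∀ (G : Type u) [Group G] [Finite G] (p r : ℕ) (A : Subgroup G),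
  Lin p r A → ∀ (V : Type u) [AddCommGroup V] [Module (ZMod r) V]
  (ρ : Representation (ZMod r) G V),
  (∀ W : Submodule (ZMod r) V, (∀ g, ∀ w ∈ W, ρ g w ∈ W) → W = ⊥ ∨ W = ⊤) →
  (∀ g, ∀ k ∈ kl A g, ∀ a ∈ A, ∀ b ∈ A, ∀ w : V,
    ρ b (ρ k (ρ a w - w) - (ρ a w - w)) = ρ k (ρ a w - w) - (ρ a w - w)) →
  ∀ g ∈ commutator G, ρ g = 1

def JobHolB : Prop := JobHolA.{u} → JobHol.{u}

def JobRedA : Prop := JobHol.{u} → ∀ (G : Type u) [Group G] [Finite G] (p r : ℕ) (A : Subgroup G),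
  Uni p r A → An A → TR A → (∀ R, Sp r A R → Cls r A R) → Loc r A →
  (¬ ∃ R, Sp r A R ∧ R ⊔ A = ⊤) →
  (∀ M : Subgroup (G ⧸ center G), M.Normal → M = ⊥ ∨ M ⊔ bar A = ⊤) ∧
  (∀ Q : Subgroup (G ⧸ center G), Q.Normal → IsPGroup r Q → Q = ⊥) ∧
  ¬ (bar A).Normal ∧ ¬ A ≤ center G

def JobRedB : Prop := ∀ (G : Type u) [Group G] [Finite G] (p r : ℕ) (A : Subgroup G),
  Uni p r A → ¬ A ≤ center G → Lin p r (bar A) ∧ Lr (bar A) ∧ (Loc r A → Loc r (bar A)) ∧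
  ((∀ R, Sp r A R → Cls r A R) → ∀ R, Sp r (bar A) R → Cls r (bar A) R) ∧ (Iso A → Iso (bar A))

def JobRedC : Prop := ∀ (G : Type u) [Group G] [Finite G] (p r : ℕ) (A : Subgroup G),
  Lin p r A → (∀ M : Subgroup G, M.Normal → M = ⊥ ∨ M ⊔ A = ⊤) →
  (∀ Q : Subgroup G, Q.Normal → IsPGroup r Q → Q = ⊥) → ¬ A.Normal →
  ∃ N : Subgroup G, N.Normal ∧ IsSimpleGroup N ∧ ¬ IsMulCommutative N ∧ N ⊔ A = ⊤ ∧
    centralizer (N : Set G) = ⊥ ∧ p ∣ Nat.card N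

/-- Growth. -/
def JobBlkG : Prop := ∀ (G : Type u) [Group G] [Finite G] (p r : ℕ) (A N : Subgroup G),
  Geo p r A N → ∀ X Y, Blk r A X → Blk r A Y → X ≠ Y → ⁅X, X⁆ ⊓ normalizer (Y : Set G) ≠ ⊥ →
  ⁅X ⊓ Y, A⁆ ≠ ⊥ ∧ ∃ U, Sp r A U ∧ ⁅X ⊓ Y, A⁆ < U ∧ U ≤ Y ∧
    U ≤ normalizer ((⁅X ⊓ Y, A⁆ ⊔ ⁅X, X⁆ ⊓ normalizer (Y : Set G) ⊔
      ⁅Y, Y⁆ ⊓ normalizer (X : Set G) : Subgroup G) : Set G)

structure BlkM (r : ℕ) {G : Type u} [Group G] (A : Subgroup G) : Prop where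
  fix : ∀ M P : Subgroup G, Sp r A M → M ≠ ⊥ → IsPGroup r P → P ≤ centralizer (A : Set G) →
    P ≤ normalizer (M : Set G) → ∃ W, Blk r A W ∧ M ≤ W ∧ P ≤ normalizer (W : Set G)
  top : ∀ L X Y, Sp r A L → L ≠ ⊥ → Blk r A X → Blk r A Y → X ≠ Y → L ≤ X → L ≤ Y →
    ∃ Λ, Sp r A Λ ∧ L ≤ Λ ∧ (∀ M, Sp r A M → M ≤ normalizer (L : Set G) → M ≤ Λ) ∧
      normalizer (L : Set G) ≤ normalizer (Λ : Set G) ∧
      ∃ X' Y', Blk r A X' ∧ Blk r A Y' ∧ X' ≠ Y' ∧ Λ ≤ X' ∧ Λ ≤ Y'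

def JobBlkM : Prop := JobBlkG.{u} →
  ∀ (G : Type u) [Group G] [Finite G] (p r : ℕ) (A N : Subgroup G), Geo p r A N → BlkM r A

def JobBlk : Prop := JobBlkG.{u} →
  ∀ (G : Type u) [Group G] [Finite G] (p r : ℕ) (A N : Subgroup G), Geo p r A N → BlkM r A →
  BlkF r A

/-- The main theorem. -/
def MT : Prop := ∀ (G : Type u) [Group G] [Finite G] (p r : ℕ) (A : Subgroup G),
  Uni p r A → An A → (r ≠ 2 ∨ Iso A) → ∃ R, Sp r A R ∧ R ⊔ A = ⊤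

/-- No minimal counterexample. -/
def Min : Prop := ∀ (G : Type u) [Group G] [Finite G] (p r : ℕ) (A : Subgroup G),
  Uni p r A → An A → (r ≠ 2 ∨ Iso A) → Loc r A → ∃ R, Sp r A R ∧ R ⊔ A = ⊤

def JobInd : Prop := Min.{u} → MT.{u}

def JobTop57 : Prop := JobTR.{u} → JobAb.{u} → JobSol.{u} → MT.{u} →
  ∀ (G : Type u) [Group G] [Finite G] (p r : ℕ) (A : Subgroup G), ¬ IsMulCommutative G → r ≠ 2 →
  Uni p r A → (Ab A ∨ An A) →
  Odd (Nat.card (G ⧸ center G)) ∧ ∃ H : Subgroup (G ⧸ center G), IsFrobeniusComplement H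

end H82.FS
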