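import Cfsg.Agent.H53.KUSpec

/-! Tower KU (S2196), slot B1: the centres of full transvection groups span the space. -/

set_option autoImplicit false
set_option linter.all false

namespace H82.KUB1

open Cfsg H59 H53.WU H53.KU Module

theorem O_map (S : KS) {x : S.V} (hx : S.O x) {k : S.G} (hk : k ∈ S.K) : S.O (k.1 x) := by
  refine ⟨hx.1.map k, fun t ht => ?_⟩
  have h1 := HS.conj_Zs k⁻¹ ht
  have e : (k⁻¹ : S.G).1 (k.1 x) = x := k.1.symm_apply_apply x
  rw [e] at h1
  have h2 := S.K.mul_mem (S.K.mul_mem hk (hx.2 h1)) (S.K.inv_mem hk)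
  have e2 : k * (k⁻¹ * t * k⁻¹⁻¹) * k⁻¹ = t := by group
  rwa [e2] at h2

theorem span_map (S : KS) {k : S.G} (hk : k ∈ S.K) :
    ∀ v ∈ Submodule.span S.F {x | S.O x}, k.1 v ∈ Submodule.span S.F {x | S.O x} := by
  intro v hv
  refine (Submodule.span_le (p := (Submodule.span S.F {x | S.O x}).comap k.1.toLinearMap)).2 ?_ hv
  intro x hx
  exact Submodule.subset_span (O_map S hx hk)

theorem jobB1 : JobB1a → JobB1b → JobB1 := by
  intro ha hb S h2 h4 ⟨x, hx⟩
  unfold KS.Sp
  set W := Submodule.span S.F {x | S.O x} with hWdef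
  have hW : ∀ k ∈ S.K, ∀ v ∈ W, k.1 v ∈ W := fun k hk => span_map S hk
  have hP : ∀ k ∈ S.K, ∀ v ∈ perp S.B W, k.1 v ∈ perp S.B W := fun k hk =>
    isom_mapsTo_perp k.2.1 (hW k hk)
  have hd : Disjoint W (perp S.B W) := by
    rw [disjoint_iff]
    by_contra hne
    exact ha S h2 h4 _ hne (fun a ha' b hb' => mem_perp.1 hb'.2 a ha'.1)
      fun k hk v hv => ⟨hW k hk v hv.1, hP k hk v hv.2⟩
  have hz : ∀ v ∈ W, v ∈ perp S.B W → v = 0 := fun v h1 h2 => (Submodule.disjoint_def.1 hd) v h1 h2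
  by_contra hne
  have hP0 : perp S.B W ≠ ⊥ := by
    intro e
    apply hne
    have := S.h.finrank_add_finrank_perp W
    rw [e, finrank_bot, add_zero] at this
    exact Submodule.eq_top_of_finrank_eq this
  have xW : x ∈ W := Submodule.subset_span hx
  by_cases h1 : 2 ≤ finrank S.F (perp S.B W)
  · obtain ⟨y, hy, y0, yy⟩ := S.h.exists_isotropic_mem h1
    have xy : S.B x y = 0 := mem_perp.1 hy x xW
    have yx : S.B y x = 0 := S.h.eq_zero_comm.1 xy
    have hs : S.Iso (x + y) := by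
      refine ⟨fun e => y0 (hz y ?_ hy), ?_⟩
      · rw [eq_neg_of_add_eq_zero_right e]; exact W.neg_mem xW
      · simp [hx.1.2, xy, yx, yy]
    rcases h2 x y (x + y) hx.1 ⟨y0, yy⟩ hs with ⟨k, hk, c, hc⟩ | ⟨k, hk, c, hc⟩ | ⟨k, hk, c, hc⟩
    · have := hW k hk x xW
      rw [hc] at this
      exact y0 (hz y ((W.smul_mem_iff c.ne_zero).1 this) hy)
    · have := hW k hk x xW
      rw [hc] at this
      exact y0 (hz y ((W.add_mem_iff_right xW).1 ((W.smul_mem_iff c.ne_zero).1 this)) hy)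
    · have := hP k hk y hy
      rw [hc] at this
      exact hx.1.1 (hz x xW (((perp S.B W).add_mem_iff_left hy).1
        (((perp S.B W).smul_mem_iff c.ne_zero).1 this)))
  · obtain ⟨v, hv, vv⟩ := S.h.exists_self_ne_zero_of_disjoint (S.h.disjoint_perp_perp hd) hP0
    have v0 : (⟨v, hv⟩ : perp S.B W) ≠ 0 := fun e => vv (by
      have : v = 0 := congrArg Subtype.val e
      simp [this])
    have hf : finrank S.F (perp S.B W) = 1 := by
      have : finrank S.F (perp S.B W) ≠ 0 := fun e => hP0 (Submodule.finrank_eq_zero.1 e)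
      omega
    refine hb S h4 v vv fun k hk => ?_
    obtain ⟨c, hc⟩ := (finrank_eq_one_iff_of_nonzero' _ v0).1 hf ⟨k.1 v, hP k hk v hv⟩
    exact ⟨c, (congrArg Subtype.val hc).symm⟩

end H82.KUB1
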