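import Cfsg.Agent.H63.A8Def
import Cfsg.Agent.H86.AltAut
import Mathlib.GroupTheory.Perm.Centralizer
import Mathlib.GroupTheory.SpecificGroups.Alternating.Simple

/-! Tower A8S (S3152), slot 11: `F₀` is not `A₁₁`. -/

set_option autoImplicit false
set_option linter.all false

namespace H82.A8J11

open H64.SG (Cz Cs Ns Cfg)
open H63.A8 Equiv Subgroup

universe u

abbrev A11 : Type := alternatingGroup (Fin 11)

theorem card8 : Nat.card A8 = 20160 := by
  rw [nat_card_alternatingGroup, Nat.card_fin]; rfl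

theorem card11 : Nat.card A11 = 19958400 := by
  rw [nat_card_alternatingGroup, Nat.card_fin]; rfl

/-- An odd involution of `S₁₁` with a large centraliser is a transposition. -/
theorem isSwap {θ : Perm (Fin 11)} (h2 : θ ^ 2 = 1) (ho : θ ∉ alternatingGroup (Fin 11))
    (hd : 20160 ∣ Nat.card (centralizer ({θ} : Set (Perm (Fin 11))))) : θ.IsSwap := by
  have : Fact (Nat.Prime 2) := ⟨Nat.prime_two⟩
  have hc := Perm.cycleType_of_pow_prime_eq_one h2
  have hs := θ.sum_cycleType_le
  rw [Perm.mem_alternatingGroup, Perm.sign_of_cycleType] at ho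
  rw [Perm.nat_card_centralizer] at hd
  rw [Perm.isSwap_iff_cycleType]
  generalize θ.cycleType.card = k at hc ho
  rw [hc] at hs ho hd ⊢
  simp only [Multiset.sum_replicate, smul_eq_mul, Fintype.card_fin] at hs ho
  have hk : k ≤ 5 := by omega
  interval_cases k
  · exact absurd rfl ho
  · rfl
  · exact absurd (by decide) ho
  · exact absurd hd (by decide)
  · exact absurd (by decide) ho
  · exact absurd hd (by decide)

/-- No subgroup of order `20160` of `A₁₁` is normalised by the centraliser of a transposition. -/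
theorem no_sub {θ : Perm (Fin 11)} (hθ : θ.IsSwap) (L : Subgroup A11) (hL : Nat.card L = 20160)
    (hn : ∀ g : A11, Commute (g : Perm (Fin 11)) θ → g ∈ normalizer (L : Set A11)) : False := by
  obtain ⟨a, b, hab, rfl⟩ := hθ
  let s : Finset (Fin 11) := ({a, b} : Finset (Fin 11))ᶜ
  have hs : Nat.card s = 9 := by
    rw [Nat.card_eq_fintype_card, Fintype.card_coe, Finset.card_compl, Finset.card_pair hab]; rfl
  have : Nontrivial s := by rw [← Finite.one_lt_card_iff_nontrivial, hs]; norm_num
  have h9 : Nat.card (alternatingGroup s) = 181440 := by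
    rw [nat_card_alternatingGroup, hs]; rfl
  have := alternatingGroup.isSimpleGroup (α := s) (by rw [hs]; norm_num)
  let ψ : alternatingGroup s →* A11 := alternatingGroup.ofSubtype s
  have hψ : Function.Injective ψ := alternatingGroup.ofSubtype_injective
  have hc : ∀ g, ψ g ∈ normalizer (L : Set A11) := by
    intro g
    apply hn
    have ha : Perm.ofSubtype (g : Perm s) a = a := Perm.ofSubtype_apply_of_not_mem _ (by simp [s])
    have hb : Perm.ofSubtype (g : Perm s) b = b := Perm.ofSubtype_apply_of_not_mem _ (by simp [s])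
    show Perm.ofSubtype (g : Perm s) * swap a b = swap a b * Perm.ofSubtype (g : Perm s)
    rw [Equiv.mul_swap_eq_swap_mul, ha, hb]
  have hN : (L.comap ψ).Normal := ⟨fun n hn' g => by
    rw [mem_comap, map_mul, map_mul, map_inv]
    exact (mem_normalizer_iff.mp (hc g) _).mp hn'⟩
  rcases hN.eq_bot_or_eq_top with h | h
  · have hd : Disjoint L ψ.range := by
      rw [Subgroup.disjoint_def]
      rintro _ hx ⟨g, rfl⟩
      have : g ∈ L.comap ψ := hx
      rw [h, mem_bot] at this
      rw [this, map_one]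
    have := Nat.card_le_card_of_injective _ (Subgroup.mul_injective_of_disjoint hd)
    rw [Nat.card_prod, hL, ← Nat.card_congr (MonoidHom.ofInjective hψ).toEquiv, h9, card11] at this
    omega
  · have hle : ψ.range ≤ L := by
      rintro _ ⟨g, rfl⟩
      exact (h ▸ mem_top g : g ∈ L.comap ψ)
    have := Subgroup.card_le_of_le hle
    rw [hL, ← Nat.card_congr (MonoidHom.ofInjective hψ).toEquiv, h9] at this
    omega

theorem job11' : J11.{u} := by
  intro G _ _ f t hP F₀ hC ht
  refine ⟨fun ε => ?_⟩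
  have := hC.normal
  let β : MulAut A11 := (ε.symm.trans (MulAut.conjNormal t : MulAut F₀)).trans ε
  obtain ⟨θ, hθ⟩ := H86.exists_conjNormal_eq (α := Fin 11) (by simp) β
    (H86.isThreeCycle_aut (by simp) β)
  have key : ∀ x : F₀, θ * (ε x : Perm (Fin 11)) * θ⁻¹ =
      ε ⟨t * x * t⁻¹, hC.normal.conj_mem _ x.2 t⟩ := by
    intro x
    have h := congrArg (fun γ : MulAut A11 => (γ (ε x) : Perm (Fin 11))) hθ
    simp only [β, MulEquiv.trans_apply, MulEquiv.symm_apply_apply, MulAut.conjNormal_apply] at h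
    exact h
  have cm : ∀ x : F₀, Commute (ε x : Perm (Fin 11)) θ ↔ (x : G) ∈ Cz t := by
    intro x
    rw [mem_centralizer_singleton_iff]
    constructor
    · intro h
      have h1 := key x
      rw [← h.eq, mul_inv_cancel_right] at h1
      have h2 : (x : G) = t * x * t⁻¹ := congrArg Subtype.val (ε.injective (Subtype.ext h1))
      exact eq_mul_inv_iff_mul_eq.mp h2
    · intro h
      have h1 := key x
      have h2 : (⟨t * x * t⁻¹, hC.normal.conj_mem _ x.2 t⟩ : F₀) = x :=
        Subtype.ext (by show t * x * t⁻¹ = x; rw [← h, mul_inv_cancel_right])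
      rw [h2] at h1
      exact (mul_inv_eq_iff_eq_mul.mp h1).symm
  have h2 : θ ^ 2 = 1 := by
    apply H86.eq_one_of_centralizes_alternating (α := Fin 11) (by simp)
    intro g hg
    obtain ⟨x, hx⟩ := ε.surjective ⟨g, hg⟩
    have e : g = ε x := by rw [hx]
    have tt : t⁻¹ = t := inv_eq_of_mul_eq_one_right hC.inv.1
    calc θ ^ 2 * g * (θ ^ 2)⁻¹ = θ * (θ * (ε x : Perm (Fin 11)) * θ⁻¹) * θ⁻¹ := by
          rw [e, pow_two]; group
      _ = g := by
          rw [key, key, e]
          congr 2
          apply Subtype.ext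
          show t * (t * x * t⁻¹) * t⁻¹ = x
          rw [tt, ← mul_assoc, ← mul_assoc, hC.inv.1, one_mul, mul_assoc, hC.inv.1, mul_one]
  have ho : θ ∉ alternatingGroup (Fin 11) := by
    intro h
    obtain ⟨g, hg⟩ := ε.surjective ⟨θ, h⟩
    have e : θ = ε g := by rw [hg]
    have hm : (g : G)⁻¹ * t ∈ Cs F₀ := by
      intro x hx
      have h1 := key ⟨x, hx⟩
      rw [e] at h1
      have h3 : ε (g * ⟨x, hx⟩ * g⁻¹) = ε ⟨t * x * t⁻¹, hC.normal.conj_mem _ hx t⟩ := by
        rw [map_mul, map_mul, map_inv]; exact Subtype.ext h1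
      have h4 : (g : G) * x * (g : G)⁻¹ = t * x * t⁻¹ := congrArg Subtype.val (ε.injective h3)
      calc x * ((g : G)⁻¹ * t) = (g : G)⁻¹ * ((g : G) * x * (g : G)⁻¹) * t := by group
        _ = _ := by rw [h4]; group
    rw [hC.cent, mem_bot, inv_mul_eq_one] at hm
    exact ht (hm ▸ g.2)
  let ρ : A8 →* A11 := ε.toMonoidHom.comp (f.codRestrict F₀ fun a => hC.le ⟨a, rfl⟩)
  have hρ : Function.Injective ρ := ε.injective.comp
    ((f.injective_codRestrict F₀ _).mpr hP.inj)
  have hρc : ∀ a, Commute (ρ a : Perm (Fin 11)) θ := fun a =>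
    (cm _).mpr (mem_centralizer_singleton_iff.mpr (hC.tL _ ⟨a, rfl⟩))
  have hcard : Nat.card ρ.range = 20160 := by
    rw [← Nat.card_congr (MonoidHom.ofInjective hρ).toEquiv, card8]
  refine no_sub (isSwap h2 ho ?_) ρ.range hcard fun g hg => ?_
  · rw [← hcard, ← Subgroup.card_map_of_injective (K := ρ.range)
      (alternatingGroup (Fin 11)).subtype_injective]
    apply Subgroup.card_dvd_of_le
    rintro _ ⟨_, ⟨a, rfl⟩, rfl⟩
    exact mem_centralizer_singleton_iff.mpr (hρc a)
  · obtain ⟨x, rfl⟩ := ε.surjective g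
    have hx := mem_normalizer_iff.mp (hC.ct ((cm x).mp hg))
    rw [mem_normalizer_iff]
    intro h
    obtain ⟨y, rfl⟩ := ε.surjective h
    have iff : ∀ z : F₀, ε z ∈ ρ.range ↔ (z : G) ∈ f.range := fun z =>
      ⟨fun ⟨a, ha⟩ => ⟨a, congrArg Subtype.val (ε.injective ha)⟩,
        fun ⟨a, ha⟩ => ⟨a, congrArg ε (Subtype.ext ha)⟩⟩
    rw [← map_inv, ← map_mul, ← map_mul, iff, iff]
    exact hx y

theorem job11 (_ : JKA.{u}) : J11.{u} := job11'

end H82.A8J11
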