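import Cfsg.Agent.H63.KgvSpec

/-! KGV slot JCN: cancellation of a factor whose absolute values are powers of `p`. -/

set_option autoImplicit false
set_option linter.all false

namespace H82.KgvCN

open Finset Cfsg ComplexConjugate H63.Kgv

universe u

theorem job : H63.Kgv.JCN.{u} := by
  intro gc pd p _ E _ _ f f₂ hp hint h2 hk hff
  obtain ⟨gcg, gadd, gmul, -, gconj, gz, -, -⟩ := gc p E
  have hdel : Good p E fun t y => f₂ t y * conj (f₂ t y) := gmul _ _ h2 (gconj _ h2)
  have hpow : ∀ n : ℕ, Good p E fun _ _ => (p : ℂ) ^ n := fun n =>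
    gcg _ _ (gz ((p : ℤ) ^ n)) (fun t _ y => by push_cast; rfl)
  have key : ∀ N : ℕ, ∃ (S : ℕ) (g : ZMod p → E → ℂ), Good p E g ∧ ∀ t y,
      ∏ i ∈ range N, ((p : ℂ) ^ i - f₂ t y * conj (f₂ t y)) =
        (p : ℂ) ^ S - f₂ t y * conj (f₂ t y) * g t y := by
    intro N
    induction N with
    | zero => exact ⟨0, fun _ _ => ((0 : ℤ) : ℂ), gz 0, fun t y => by simp⟩
    | succ N ih =>
      obtain ⟨S, g, hg, h⟩ := ih
      refine ⟨S + N, fun t y => (p : ℂ) ^ S + g t y * ((p : ℂ) ^ N +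
        ((-1 : ℤ) : ℂ) * (f₂ t y * conj (f₂ t y))), ?_, fun t y => ?_⟩
      · exact gadd _ _ (hpow S) (gmul _ _ hg (gadd _ _ (hpow N) (gmul _ _ (gz (-1)) hdel)))
      · rw [prod_range_succ, h, pow_add]; push_cast; ring
  choose k hk using hk
  obtain ⟨S, g, hg, h⟩ := key (univ.sup k + 1)
  have hS : Good p E fun t y => (p : ℂ) ^ S * f t y := by
    refine gcg _ _ (gmul _ _ (gmul _ _ hff (gconj _ h2)) hg) (fun t ht y => ?_)
    have h0 : ∏ i ∈ range (univ.sup k + 1), ((p : ℂ) ^ i - f₂ t y * conj (f₂ t y)) = 0 := by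
      refine prod_eq_zero (i := k y) ?_ (by rw [hk y t ht, sub_self])
      exact mem_range.2 (Nat.lt_succ_of_le (le_sup (f := k) (mem_univ y)))
    rw [h t y, sub_eq_zero] at h0
    show (p : ℂ) ^ S * f t y = f t y * f₂ t y * conj (f₂ t y) * g t y
    rw [h0]; ring
  clear h
  induction S with
  | zero => exact gcg _ _ hS (fun t _ y => by simp)
  | succ S ih =>
    apply ih
    refine pd p E (fun t y => (p : ℂ) ^ S * f t y) hp (fun t ht y => ?_) ?_
    · refine IsIntegral.mul (IsIntegral.pow ?_ S) (hint t ht y)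
      exact_mod_cast isIntegral_algebraMap (R := ℤ) (A := ℂ) (x := (p : ℤ))
    · exact gcg _ _ hS (fun t _ y => by rw [pow_succ]; ring)

end H82.KgvCN
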