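import Cfsg.Agent.H82.HRKit
import Cfsg.Agent.S0494
import Cfsg.Agent.S0252
import Cfsg.Agent.H88.Moebius

/-! HR: the assembly from the jobs. -/

set_option autoImplicit false

namespace H82.HR

open MulAction Cfsg Subgroup H89.K H98 H82.TP

universe u v

theorem jobBG (j1 : JobL2) (j2 : JobSz) (j3 : JobU3) : JobBG.{u} := by
  rintro G _ N (⟨F, _, _, ⟨n, h1, h2⟩, ⟨e⟩⟩ | ⟨F, _, _, m, h1, h2, ⟨e⟩⟩ | ⟨F, _, _, n, h1, h2, ⟨e⟩⟩)
  exacts [⟨_, (j1 F n h1 h2).of_equiv e⟩, ⟨_, (j2 F m h1 h2).of_equiv e⟩,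
    ⟨_, (j3 F n h1 h2).of_equiv e⟩]

variable {G : Type u} {Ω : Type v} [Group G] [Finite G] [MulAction G Ω] {a : Ω} {q : ℕ}

omit [Finite G] in
theorem exists_hy (h : T2 G Ω) {M : Subgroup G} (h1 : M ≤ stabilizer G a)
    (h2 : stabilizer G a ≤ nor M) (h3 : BG M q) : ∃ N : Ω → Subgroup G, N a = M ∧ Hy N q := by
  choose f hf using h.trans a
  have k : ∀ g : G, cj (f (g • a)) M = cj g M := fun g => by
    rw [← cj_inj (g := g⁻¹), cj_inv_cj, cj_cj]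
    exact cj_eq_self (h2 (by rw [mem_stabilizer_iff, mul_smul, hf, inv_smul_smul]))
  refine ⟨fun c => cj (f c) M, by simpa using k 1, h, fun g c => ?_, fun c => ?_, fun c => ?_⟩
  · rw [cj_cj, ← k (g * f c), mul_smul, hf]
  · refine (cj_mono _ h1).trans ?_
    rw [← hf c, stabilizer_smul_eq_stabilizer_map_conj, hf]
  · obtain ⟨U, V, r⟩ := h3
    exact ⟨_, _, r.cj _⟩

theorem main (j1 : JobLU.{u, v}) (j2 : JobLK.{u, v}) (j3 : JobFull.{u, v}) (j4 : JobI.{u, v})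
    (j5 : JobBad.{u, v}) (k1 : JobSoc.{u, v}) (k2 : JobH.{u, v}) (k3 : JobG1.{u, v})
    (k4 : JobG2.{u, v}) (k5 : JobSC.{u, v}) (k6 : JobG11.{u, v}) (k7 : JobN6.{u, v})
    {N : Ω → Subgroup G} (H : Hy N q) (a : Ω) :
    (Nat.card Ω = 6 ∧ (Nonempty (G ≃* alternatingGroup (Fin 6)) ∨
      Nonempty (G ≃* Equiv.Perm (Fin 6))) ∧ Nat.card (N a) = 60) ∨
    (Nat.card Ω = 11 ∧ (∃ (F : Type) (_ : Field F) (_ : Fintype F), Fintype.card F = 11 ∧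
      Nonempty (G ≃* PSL2 F)) ∧ Nat.card (N a) = 60) ∨ Aff G Ω := by
  by_cases hA : Aff G Ω
  · exact .inr (.inr hA)
  rcases H.cs_or_ns with h | h
  · obtain ⟨f, m, k⟩ := j2 G Ω N q H (j1 G Ω N q H h)
    have e : f ≠ m := fun e => hA (j3 G Ω N q f H (e ▸ k))
    obtain rfl := j4 G Ω N q f m H k e
    obtain ⟨rfl, rfl⟩ := j5 G Ω N m f H k e
    obtain ⟨U, V, r⟩ := H.bg a
    have c1 := k.cU U ⟨a, r.sylU⟩
    have c2 : Nat.card (N a) = 60 := by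
      rw [r.card_N, r.card_DD (eq_of_le_of_card_ge ZZ_le (c1.trans r.card.symm).le).ge, c1]
    exact .inl ⟨k.card, k7 G Ω a H.t2 k.card (c2 ▸ card_dvd_of_le (H.le a)), c2⟩
  have ho := H.odd_of_ns h
  obtain ⟨L, hL⟩ := k1 G Ω N q H ho hA
  obtain ⟨b, c, -, hbc, -⟩ := H.t2.big
  have e1 : ∀ c d : Ω, c ≠ d → Even (Nat.card ↥(N c ⊓ stabilizer G d)) := fun _ _ r =>
    Nat.not_odd_iff_even.1 fun o => k2 G Ω N q L H ho hL fun _ _ r' => H.card_A r r' ▸ o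
  have e2 : ∀ c d : Ω, c ≠ d → Even (Nat.card ↥(N c ⊓ N d)) := fun _ _ r =>
    Nat.not_odd_iff_even.1 fun o => k3 G Ω N q H h e1 fun _ _ r' => H.card_I r r' ▸ o
  obtain ⟨n, c, F, _, _, hF, ⟨e⟩⟩ := k5 G Ω N q L H ho hL (k4 G Ω N q H e2) e1
  have := H88.two_mul_card_psl_two (F := F) (by rw [hF]; decide)
  rw [hF, ← Nat.card_congr e.toEquiv] at this
  obtain rfl := k6 G Ω N q L H hL n c (by omega)
  exact .inr (.inl ⟨n, ⟨F, _, _, hF, ⟨topEquiv.symm.trans e⟩⟩, c a⟩)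

theorem l24 {M : Type*} [Group M] [Finite M] [IsSimpleGroup M] (h : Nat.card M = 60) :
    ∃ (F : Type) (_ : Field F) (_ : Fintype F), Fintype.card F = 4 ∧ Nonempty (M ≃* PSL2 F) := by
  have := Fintype.ofFinite (GaloisField 2 2)
  have c : Fintype.card (GaloisField 2 2) = 4 := by
    rw [← Nat.card_eq_fintype_card, GaloisField.card 2 2 two_ne_zero]; rfl
  obtain ⟨e⟩ := Agent.S0494.result h
  obtain ⟨e'⟩ := Agent.S0252.result c
  exact ⟨_, _, _, c, ⟨e.trans e'.symm⟩⟩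

end H82.HR
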