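import Cfsg.Agent.H82.TPGen3

/-! TP: case (A) for the type V. -/

set_option autoImplicit false

namespace H82.TP

open MulAction Cfsg Subgroup H89.K H98

universe u v

variable {G : Type u} {Ω : Type v} [Group G] [Finite G] [MulAction G Ω] {a b c d : Ω} {z t w : G}

theorem a4b (h : T2 G Ω) (tv : TV (St G a b) 2) (hn : nI (St G a b) = 3) (hz : CS a b z)
    (ht : t ∈ St G a b) (ho : orderOf t = 2) (h1 : H89.K.One G) (hh : Hall a b t)
    (hr : RD a b z t ht) : False := by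
  have := h.finite
  obtain ⟨Q, e, q1, q2, -, -, q4, -, q6, q7, q5⟩ := a4q tv hz ht ho hr
  have key : ∀ g : G, g * t = t * g → g * g = 1 → g ∈ Q := fun g hg r => q5 g (mem_cen.2 hg) r <|
    or_iff_not_imp_left.2 fun r1 => by
      simp only [Thin2, not_forall] at r1
      obtain ⟨x, y, r1, r2, r3, r4, r5⟩ := r1
      by_cases r6 : g = 1
      · simp [r6]
      exact hh.at h hz.ne tv.one ht ho r5 r1 r3 g ⟨r2, r4⟩ (ord_of_sq r r6) hg
  obtain ⟨w, hw, w1, w2, w3⟩ := tv.exG ht ho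
  have hV : four t w (sq_of_ord ho) (sq_of_ord w1) w3 ≤ Q ⊓ St G a b := by
    rintro g (rfl | rfl | rfl | rfl)
    exacts [one_mem _, ⟨key _ rfl (sq_of_ord ho), ht⟩, ⟨key _ w3 (sq_of_ord w1), hw⟩,
      ⟨mul_mem (key _ rfl (sq_of_ord ho)) (key _ w3 (sq_of_ord w1)), mul_mem ht hw⟩]
  have e1 : Nat.card Q = fx Ω t * 4 := by
    rw [← (stabilizer Q a).index_mul_card, index_stabilizer, fx_eq, ← card_four ho w1 w2 w3,
      ← Nat.card_congr (subgroupOfEquivOfLe (hV.trans inf_le_left)).toEquiv]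
    congr 2
    · ext x
      exact ⟨fun ⟨q, r⟩ => r ▸ H89.K.fix_of_comm (mem_cen.1 (q1 q.2)) ht.1,
        fun r => let ⟨q, r1, r2⟩ := q6 a ht.1 x r; ⟨⟨q, r1⟩, r2⟩⟩
    · congr 1
      ext q
      exact ⟨fun r => tv.mem4 ht hw ho w1 w2 w3 ⟨r, q7 q q.2 a ht.1 r b ht.2⟩ (mem_cen.1 (q1 q.2)),
        fun r => (hV r).2.1⟩
  have e2 : {y | y ∈ {u : G | orderOf u = 2} ∧ t * y = y * t}.ncard + 1 = fx Ω t * 4 := by
    rw [← e1, ← Set.ncard_insert_of_notMem (a := 1) fun r => ne_of_ord r.1 rfl]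
    refine (congrArg Set.ncard (Set.ext fun u => ⟨?_, fun hu => or_iff_not_imp_left.2 fun r =>
      ⟨ord_of_sq (q4 u hu) r, (mem_cen.1 (q1 hu)).symm⟩⟩)).trans (Nat.card_coe_set_eq (Q : Set G)).symm
    rintro (rfl | hu)
    exacts [one_mem _, key u hu.2.symm (sq_of_ord hu.1)]
  have cj : ∀ g x y : G, g * x * g⁻¹ * (g * y * g⁻¹) = g * y * g⁻¹ * (g * x * g⁻¹) ↔ x * y = y * x :=
    fun g x y => by simp only [conj_mul, mul_left_inj, mul_right_inj]
  obtain ⟨m, e3⟩ := dvd_of_equiv {u : G | orderOf u = 2} (fun x y => x * y = y * x) (fun _ => rfl)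
    (fun _ _ => Eq.symm) (fun x hx y hy v hv r1 r2 => by
      obtain ⟨g, rfl⟩ := isConj_iff.1 (h1 t y ho hy)
      obtain ⟨x, rfl⟩ := (MulAut.conj g).surjective x
      obtain ⟨v, rfl⟩ := (MulAut.conj g).surjective v
      exact (cj g x v).2 (comm_of_sq q4
        (key x ((cj g x t).1 r1) (sq_of_ord ((ord_conj g).symm.trans hx)))
        (key v ((cj g t v).1 r2).symm (sq_of_ord ((ord_conj g).symm.trans hv)))))
    (m := {y | y ∈ {u : G | orderOf u = 2} ∧ t * y = y * t}.ncard) fun x hx => by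
      obtain ⟨g, rfl⟩ := isConj_iff.1 (h1 t x ho hx)
      rw [← Set.ncard_preimage_of_injective_subset_range (f := MulAut.conj g) (MulAut.conj g).injective
        (by simp [(MulAut.conj g).surjective.range_eq])]
      exact congrArg _ (Set.ext fun y => and_congr (by
        show orderOf (g * y * g⁻¹) = 2 ↔ orderOf y = 2
        rw [ord_conj]) (cj g t y))
  have e4 := beta_eq h hz.ne tv.one ht ho
  have e5 := class_eq h hz.ne tv.one ht ho
  rw [sw_all hz h1 ho, hn] at e4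
  rw [show {s | IsConj t s} = {u : G | orderOf u = 2} from Set.ext fun s =>
    ⟨fun r => (orderOf_of_isConj r).trans ho, h1 t s ho⟩, e3, hn] at e5
  have r1 := two_le_fx h hz.ne ht
  have r2 : fx Ω t < Nat.card Ω := h.card_fix_lt (ne_of_ord ho)
  have r3 : fx Ω t = 2 ^ e := q2
  obtain ⟨i, hi⟩ : ∃ i, fx Ω t = i + 1 := ⟨fx Ω t - 1, by omega⟩
  obtain ⟨n, hn⟩ : ∃ n, Nat.card Ω = i + 1 + n := ⟨Nat.card Ω - (i + 1), by omega⟩
  rw [hi] at e2 r1
  rw [hi, hn, Nat.add_sub_cancel_left, Nat.add_sub_cancel] at e4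
  rw [show {y | y ∈ {u : G | orderOf u = 2} ∧ t * y = y * t}.ncard = 4 * i + 3 by omega, hi, hn,
    Nat.add_sub_cancel, show i + 1 + n - 1 = i + n by omega] at e5
  have e6 : (4 * i + 3) * ((i + 1) * i) * (3 * m) = (4 * i + 3) * ((i + 1) * i) * (4 * i + 7) := by
    zify at e4 e5 ⊢
    linear_combination 3 * e5 + (3 * n + 4 * i ^ 2 + 10 * i + 3) * e4
  have e7 := Nat.eq_of_mul_eq_mul_left (Nat.mul_pos (by omega) (Nat.mul_pos (by omega) (by omega))) e6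
  exact absurd ((Nat.prime_three.dvd_of_dvd_pow (r3 ▸ hi ▸ (by omega : 3 ∣ i + 1)))) (by decide)

theorem a4c (h : T2 G Ω) (tv : TV (St G a b) 2) (hz : CS a b z) (ht : t ∈ St G a b)
    (ho : orderOf t = 2) (h1 : H89.K.One G) (hw : w ∈ St G a b) (w1 : orderOf w = 2)
    (w3 : w * t = t * w) (hx : t • c = c) (hc : w • c ≠ c) (hr : RD a b z t ht) : False := by
  have := h.finite
  obtain ⟨Q, e, q1, -, q2, q3, q4, -, q6, q7, q5⟩ := a4q tv hz ht ho hr
  have w2 : w ≠ t := fun r => hc (r ▸ hx)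
  have wi := inv_of_sq (sq_of_ord w1)
  have tQ : t ∈ Q := q5 t (mem_cen.2 rfl) (sq_of_ord ho) (.inr fun _ r => r)
  obtain ⟨S, hS, hS1⟩ := exists_isSyl_le (isPGroup_zpowers (k := 1) (x := w)
    (by rw [pow_one, sq, sq_of_ord w1])) ((zpowers_le (G := G)).2 (mem_cen.2 w3))
  have wS : w ∈ S := hS1 (mem_zpowers w)
  have QS : Q ≤ S := hS.le_of_le_normalizer (two_of_sq q4) q1
    fun g hg => mem_normalizer_fintype fun q hq => q3 g (hS.le hg) q hq
  have dec : ∀ s ∈ S, s ∈ Q ∨ s * w ∈ Q := fun s hs => by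
    obtain ⟨q, hq, r⟩ := q6 _ (H89.K.fix_of_comm (mem_cen.1 (hS.le hs)) ht.1) a ht.1
    obtain ⟨d, r1, r2, r3⟩ := even_fix (Q := S ⊓ stabilizer G a) (F := Fx Ω t)
      (hS.isPGroup.to_le inf_le_left) (fun g hg x hx => H89.K.fix_of_comm (mem_cen.1 (hS.le hg.1)) hx)
      q2 ht.1 fun g hg => hg.2
    have r4 : q * s ∈ S ⊓ stabilizer G a := ⟨mul_mem (QS hq) hs, (mul_smul q s a).trans r⟩
    have r5 := (Q.mul_mem_cancel_left (x := q) (y := s) hq).1
    have r6 := (Q.mul_mem_cancel_left (x := q) (y := s * w) hq).1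
    rcases (tv.at h hz.ne r2.symm).mem4 ⟨ht.1, r1⟩ ⟨hw.1, r3 w ⟨wS, hw.1⟩⟩ ho w1 w2 w3
      ⟨r4.2, r3 _ r4⟩ (mem_cen.1 (hS.le r4.1)) with r | r | r | r
    · exact .inl (r5 (r ▸ one_mem _))
    · exact .inl (r5 (r ▸ tQ))
    · exact .inr (r6 (by rw [← mul_assoc, r, sq_of_ord w1]; exact one_mem _))
    · exact .inr (r6 (by rwa [← mul_assoc, r, mul_assoc, sq_of_ord w1, mul_one]))
  obtain ⟨u, hu, r⟩ := q6 a ht.1 c hx
  have wQ : ∀ q ∈ Q, w * q * w ∈ Q := fun q hq => by simpa [wi] using q3 w (mem_cen.2 w3) q hq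
  have s1 : u * (w * u * w) ∈ Q := mul_mem hu (wQ u hu)
  have s2 : u * (w * u * w) ≠ 1 := fun q => hc (by
    have q' : w * u * w = u := (eq_inv_of_mul_eq_one_right q).trans (inv_of_sq (q4 u hu))
    rw [← r, ← mul_smul, eq_mul_inv_of_mul_eq q', wi, mul_smul, hw.1])
  have cen : ∀ s ∈ Q, s * w = w * s → s ∈ centralizer (S : Set G) := fun s hs r g hg => by
    rcases dec g hg with q | q
    · exact comm_of_sq q4 q hs
    · have := comm_of_sq q4 q hs
      rw [mul_assoc, ← r, ← mul_assoc, ← mul_assoc] at this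
      exact mul_right_cancel this
  obtain ⟨g, hg⟩ := isConj_iff.1 (h1 _ _ (ord_of_sq (q4 _ s1) s2) ho)
  have hT := H51.TP.syl_top h1 ho hS (QS tQ)
  obtain ⟨n, hn, r1⟩ := hT.toSylowTop.conj_eq_normalizer_conj_of_mem_centralizer (u * (w * u * w)) g⁻¹
    (cen _ s1 (by
      conv_rhs => rw [comm_of_sq q4 hu (wQ u hu)]
      simp only [mul_assoc, sq_of_ord w1, mul_one]
      rw [← mul_assoc w w, sq_of_ord w1, one_mul])) (by rw [inv_inv, hg]; exact cen t tQ w3.symm)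
  rw [inv_inv, hg] at r1
  have y1 : n⁻¹ * (u * w) * n ∈ S := by
    simpa [IsSyl.coe_toSylowTop] using (mem_normalizer_iff.1 (inv_mem hn) _).1 (mul_mem (QS hu) wS)
  have y2 : n⁻¹ * (u * w) * n * (n⁻¹ * (u * w) * n) = t := by rw [r1]; group
  generalize n⁻¹ * (u * w) * n = y at y1 y2
  obtain ⟨q, rfl⟩ : ∃ q, y = q * w := ⟨y * w, by rw [mul_assoc, sq_of_ord w1, mul_one]⟩
  have hq : q ∈ Q := by
    simpa [mul_assoc, sq_of_ord w1] using
      (dec _ y1).resolve_left fun r => ne_of_ord ho (y2.symm.trans (q4 _ r))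
  have fin : q * w = w * q → False := fun r => ne_of_ord ho (by
    rw [← y2, mul_assoc, ← mul_assoc w, ← r, mul_assoc, sq_of_ord w1, mul_one, q4 q hq])
  have d1 : t • q • a = q • a := H89.K.fix_of_comm (mem_cen.1 (q1 hq)) ht.1
  have d2 : w • q • a = q • a := by
    have : q • w • q • w • a = a := by
      rw [← mul_smul, ← mul_smul, ← mul_smul, mul_assoc (q * w), y2]; exact ht.1
    rw [hw.1] at this
    rw [← smul_smul_of_sq (q4 q hq) (w • q • a), this]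
  by_cases d3 : a = q • a
  · have r2 : q ∈ St G a b := ⟨d3.symm, q7 q hq a ht.1 d3.symm b ht.2⟩
    exact fin (comm_of_sq (T := St G a b ⊓ Cen t) (fun g hg => tv.sq2 ht ho hg.1 (mem_cen.1 hg.2))
      ⟨r2, q1 hq⟩ ⟨hw, mem_cen.2 w3⟩)
  obtain ⟨z', -, hz'⟩ := hz.at h d3
  obtain ⟨k, hk, r2⟩ := hz'.exists_eq (s := q) rfl (smul_smul_of_sq (q4 q hq) a)
  have r3 : k * t = t * k := by
    have := mem_cen.1 (q1 hq)
    rw [r2, mul_assoc, ← mul_assoc t, hz'.comm t ⟨ht.1, d1⟩, mul_assoc] at this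
    exact mul_left_cancel this
  have r4 := comm_of_sq (T := St G a (q • a) ⊓ Cen t) (fun g hg =>
    (tv.at h hz.ne d3).sq2 ⟨ht.1, d1⟩ ho hg.1 (mem_cen.1 hg.2)) ⟨hk, mem_cen.2 r3⟩
    ⟨⟨hw.1, d2⟩, mem_cen.2 w3⟩
  exact fin (by
    conv_lhs => rw [r2]
    conv_rhs => rw [r2]
    rw [mul_assoc, r4, ← mul_assoc, ← hz'.comm w ⟨hw.1, d2⟩, mul_assoc])

theorem jobVA : JobVA.{u, v} := fun G Ω _ _ _ a b z t k h tv hz ht ho hc => by
  by_cases h1 : IsConj (z * t) t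
  swap
  · exact a4a h tv (g3 h tv.toBase hz ht hc (hall_of_not h tv.toBase hz ht ho h1)).1 hz ht ho hc h1
  have h2 := one_all h tv.toBase hz ht ho hc h1
  by_cases hh : Hall a b t
  · obtain ⟨r1, r2⟩ := g3 h tv.toBase hz ht hc hh
    obtain rfl := tv.k_eq (tv.nI3 r1)
    exact a4b h tv (tv.nI3 r1) hz ht ho h2 hh r2
  simp only [Hall, not_forall] at hh
  obtain ⟨w, hw, w1, w3, x, r1, r2⟩ := hh
  by_cases h3 : Thin2 Ω t z
  · obtain ⟨r3, r4⟩ := alpha h tv.toBase hz ht hc (tv.two' ht ho) tv.not16 h3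
    obtain rfl := tv.k_eq (tv.nI3 r3)
    exact a4c h tv hz ht ho h2 hw w1 w3 r1 r2 r4
  · exact H30.TG.jobGA H29.TPV.jobFV G Ω a b z t w k h tv hz h2
      (not_aff_of_one h hz h2 tv.one ht ho) ht hw ho w1 (fun r => r2 (r ▸ r1)) w3 h3 ⟨x, r1, r2⟩

end H82.TP
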