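import Cfsg.Agent.H82.HPKit
import Cfsg.Agent.H98.PReduced

/-! HP tower: the jobs `JobCase` and `JobB1`. -/

set_option autoImplicit false

namespace H82.HP

open MulAction Cfsg Subgroup H89.K H98 H82.TP H82.HR

universe u v

variable {G : Type u} {Ω : Type v} [Group G] [Finite G] [MulAction G Ω] {N : Ω → Subgroup G} {m : ℕ}
  {a b c d : Ω} {P L : Set (Subgroup G)} {p l U U' Q : Subgroup G} {g : G}

theorem Hp.fix2 (H : Hp N m) (hQ : IsPGroup 2 Q) (h1 : ∀ g ∈ Q, g • a = a) :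
    ∃ c, c ≠ a ∧ ∀ g ∈ Q, g • c = c := by
  have := H.t2.finite
  obtain ⟨c, -, h⟩ := even_fix (F := Set.univ) hQ (fun _ _ _ _ => trivial)
    (by rw [Set.ncard_univ]; exact H.even) trivial h1
  exact ⟨c, h⟩

theorem Hp.keep (H : Hp N m) (h : PL (N a) P L m) (hab : a ≠ b) (hp : p ∈ P)
    (h1 : MM L p ≤ stabilizer G b) (h2 : N a ⊓ stabilizer G b ≤ nor p) (hg : g • a = a) :
    (∀ p ∈ P, cj g p ∈ P) ∧ ∀ l ∈ L, cj g l ∈ L := by
  have k1 : ∀ k : G, k • a = a → k • b = b → k ∈ nor p := fun k e1 e2 => by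
    have e : cj k (N a ⊓ stabilizer G b) = N a ⊓ stabilizer G b := by rw [H.cj_A, e1, e2]
    have le : ∀ E, E ≤ MM L p → cj k E ≤ nor p := fun E r =>
      (e ▸ cj_mono k (le_inf (r.trans h.MM_le) (r.trans h1))).trans h2
    rcases h.types (H.nor_N e1) with r | r
    · exact cj_eq_self_iff.1 (h.fix_only (r.1 p hp) hp (le p (h.self_le hp))).symm
    · obtain ⟨l, hl, i, -⟩ := h.symm.third hp ⊥ ⊥
      obtain ⟨l', hl', i', n, -⟩ := h.symm.third hp l l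
      exact absurd (cj_inj.1 ((h.fix_only (r.2 l' hl') hp (le l' (le_MM hl' i'.symm))).symm.trans
        (h.fix_only (r.2 l hl) hp (le l (le_MM hl i.symm))))) n
  have k2 : ∀ k : G, k • a = a → ∀ c, c ≠ a → k • c = c → ∀ s ∈ P, cj k s ∈ P := fun k e1 c n e2 => by
    obtain ⟨x, e3, rfl⟩ := H.t2.two hab n.symm
    have e4 : cj k (cj x p) = cj x p := by
      have := cj_eq_self (k1 (x⁻¹ * k * x) (by rw [mul_smul, mul_smul, e3, e1, inv_smul_eq_iff, e3])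
        (by rw [mul_smul, mul_smul, e2, inv_smul_smul]))
      rwa [← cj_cj, ← cj_cj, ← cj_inj (g := x), cj_cj_inv] at this
    exact (h.cj_or (H.nor_N e3) hp).elim (fun r => (h.keep (H.nor_N e1) r (by rwa [e4])).1)
      fun r => (h.symm.keep (H.nor_N e1) r (by rwa [e4])).2
  refine (h.types (H.nor_N hg)).resolve_right fun r => ?_
  obtain ⟨k, j, ⟨i, rfl⟩, e⟩ := Nat.exists_eq_two_pow_mul_odd (orderOf_pos g).ne'
  have k3 : ∀ i : ℕ, cj (g ^ (2 * i + 1)) p ∈ L := fun i => by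
    induction i with
    | zero => simpa using r.1 p hp
    | succ i ih =>
      rw [show g ^ (2 * (i + 1) + 1) = g * (g * g ^ (2 * i + 1)) by group, ← cj_cj, ← cj_cj]
      exact r.1 _ (r.2 _ ih)
  have ha : g ^ (2 * i + 1) ∈ stabilizer G a := pow_mem hg _
  obtain ⟨c, n, hc⟩ := H.fix2 (a := a) (isPGroup_zpowers (p := 2) (x := g ^ (2 * i + 1)) (k := k)
    (by rw [← pow_mul, mul_comm, ← e, pow_orderOf_eq_one])) (zpowers_le.2 ha)
  exact h.a.disj _ (k2 _ ha c n (hc _ (mem_zpowers _)) p hp) (k3 i)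

theorem Hp.caseP (H : Hp N m) (h : PL (N a) P L m) (hab : a ≠ b) (hp : p ∈ P)
    (h1 : MM L p ≤ stabilizer G b) (h2 : N a ⊓ stabilizer G b ≤ nor p) :
    ∃ P L x, CP N P L x m := by
  have im : ∀ S : Set (Subgroup G), (∀ k : G, k • a = a → ∀ s ∈ S, cj k s ∈ S) → ∀ g : G,
      {E | ∃ k : G, k • a = g • a ∧ ∃ s ∈ S, E = cj k s} = cj g '' S := fun S hS g => by
    ext E
    constructor
    · rintro ⟨k, e, s, hs, rfl⟩
      exact ⟨_, hS (g⁻¹ * k) (by rw [mul_smul, e, inv_smul_smul]) s hs, by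
        rw [cj_cj, mul_inv_cancel_left]⟩
    · rintro ⟨s, hs, rfl⟩
      exact ⟨g, rfl, s, hs, rfl⟩
  have iP := im P fun k e => (H.keep h hab hp h1 h2 e).1
  have iL := im L fun k e => (H.keep h hab hp h1 h2 e).2
  have sp : ∀ c d : Ω, c ≠ d → ∃ g : G, g • a = c ∧ g • b = d ∧
      Classical.epsilon (fun g : G => g • a = c ∧ g • b = d) = g := fun c d n =>
    have := Classical.epsilon_spec (H.t2.two hab n); ⟨_, this.1, this.2, rfl⟩
  have eq : ∀ (S : Set (Subgroup G)) (g : G) (c : Ω),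
      ∀ E ∈ {E | ∃ k : G, k • a = c ∧ ∃ s ∈ S, E = cj k s},
      cj g E ∈ {E | ∃ k : G, k • a = g • c ∧ ∃ s ∈ S, E = cj k s} := by
    rintro S g _ _ ⟨k, rfl, s, hs, rfl⟩
    exact ⟨g * k, mul_smul _ _ _, s, hs, cj_cj _ _ _⟩
  refine ⟨fun c => {E | ∃ k : G, k • a = c ∧ ∃ s ∈ P, E = cj k s},
    fun c => {E | ∃ k : G, k • a = c ∧ ∃ s ∈ L, E = cj k s},
    fun c d => cj (Classical.epsilon fun g : G => g • a = c ∧ g • b = d) p, fun c => ?_, eq P, eq L,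
    fun c d n => ?_, fun c d n => ?_, fun c d n => ?_⟩
  · obtain ⟨g, rfl⟩ := H.t2.trans a c
    rw [iP, iL, H.equi]
    exact h.cj g
  all_goals obtain ⟨g, e1, e2, e⟩ := sp c d n
  all_goals rw [e]
  · exact ⟨g, e1, p, hp, rfl⟩
  · subst e1 e2
    rw [iL, stabilizer_smul_eq_stabilizer_map_conj]
    exact (map_MM (MulAut.conj g).injective).ge.trans (map_mono h1)
  · subst e1 e2
    rw [← H.cj_A]
    exact (cj_mono g h2).trans (cj_normalizer g p).le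

theorem jobCase : JobCase.{u, v} := fun G Ω _ _ _ N m H => by
  obtain ⟨a, -⟩ := H.t2.big
  obtain ⟨P, L, h⟩ := H.pl a
  obtain ⟨p, hp, l, hl, i⟩ := h.exists_flag
  have hU := h.a.syl p hp l hl i
  obtain ⟨b, n, hb⟩ := H.fix2 (a := a) hU.isPGroup (hU.le.trans (H.le a))
  rcases h.overgp hp hl i (le_inf hU.le hb) inf_le_left
    (fun e => H.not_le n.symm (e.ge.trans inf_le_right)) with r | r | r
  · refine .inl fun c d ne => ?_
    obtain ⟨g, rfl, rfl⟩ := H.t2.two n.symm ne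
    refine ⟨cj g (p ⊔ l), H.equi g a ▸ hU.cj g, ?_, ?_⟩
    · rw [stabilizer_smul_eq_stabilizer_map_conj]
      exact map_mono hb
    · rw [← H.cj_A]
      exact (cj_mono g (le_normalizer_sup r.1 r.2)).trans (cj_normalizer g _).le
  · exact .inr (H.caseP h n.symm hp (r.1.trans inf_le_right) r.2)
  · exact .inr (H.caseP h.symm n.symm hl (r.1.trans inf_le_right) r.2)

/-! ### Case B -/

omit [Finite G] in
theorem zp2 (h : g * g = 1) : IsPGroup 2 (zpowers g) :=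
  isPGroup_zpowers (k := 1) (by rw [pow_one, sq, h])

omit [Finite G] in
theorem CB.norA (B : CB N) (n : c ≠ d) (hU : IsSyl 2 U (N c)) (h : U ≤ stabilizer G d) :
    N c ⊓ stabilizer G d ≤ nor U := by
  obtain ⟨V, hV, -, h2⟩ := B c d n
  rwa [← hU.eq_of_le hV.isPGroup
    (hV.le_of_le_normalizer' hU.isPGroup hU.le ((le_inf hU.le h).trans h2)) hV.le]

omit [Finite G] in
theorem CB.le (B : CB N) (n : c ≠ d) (hU : IsSyl 2 U (N c)) (h : U ≤ stabilizer G d)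
    (hQ : IsPGroup 2 Q) (h1 : Q ≤ N c) (h2 : Q ≤ stabilizer G d) : Q ≤ U :=
  hU.le_of_le_normalizer' hQ h1 ((le_inf h1 h2).trans (B.norA n hU h))

theorem CB.norK (B : CB N) (H : Hp N m) (n : c ≠ d) (hU : IsSyl 2 U (N c)) (h : U ≤ stabilizer G d)
    (h1 : g • c = c) (h2 : g • d = d) : g ∈ nor U := mem_normalizer_of_cj_le
  (B.le n hU h (isPGroup_cj g hU.isPGroup) (cj_le_of_le hU.le (H.nor_N h1))
    (cj_le_of_le_of_mem h h2))

omit [Finite G] in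
theorem PL.comm_cen {N N' p' l' : Subgroup G} {P' L' : Set (Subgroup G)} {z : G} (h : PL N P L m)
    (h' : PL N' P' L' m) [Finite G] (hl : l ∈ L) (hp' : p' ∈ P') (hl' : l' ∈ L') (i : Inc p' l')
    (r : ∀ x ∈ p' ⊔ l', ∃ e ∈ l, e⁻¹ * x ∈ cen N) (h1 : z ∈ p') (h2 : z ∈ l') : z ∈ cen N := by
  obtain ⟨x, hx, y, hy, rfl⟩ := h'.comm_onto hp' hl' i h1 h2
  obtain ⟨e, he, w⟩ := r x (mem_sup_left hx)
  obtain ⟨e', he', w'⟩ := r y (mem_sup_right hy)
  obtain ⟨s, rfl⟩ : ∃ s, x = e * s := ⟨e⁻¹ * x, by group⟩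
  obtain ⟨t, rfl⟩ : ∃ t, y = e' * t := ⟨e'⁻¹ * y, by group⟩
  rw [inv_mul_cancel_left] at w w'
  have c1 : Commute e e' := h.symm.comm hl he he'
  have c2 : Commute e s := w e (h.a'.le l hl he)
  have c3 : Commute e t := w' e (h.a'.le l hl he)
  have c4 : Commute e' s := w e' (h.a'.le l hl he')
  have c5 : Commute e' t := w' e' (h.a'.le l hl he')
  have k1 : e * s * (e' * t) * (e * s)⁻¹ = e' * (s * t * s⁻¹) := by
    rw [c2.eq, show s * e * (e' * t) * (s * e)⁻¹ = s * (e * (e' * t) * e⁻¹) * s⁻¹ by group,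
      (c1.mul_right c3).eq, mul_inv_cancel_right, ← mul_assoc, ← c4.eq]
    group
  rw [k1, ((c4.mul_right c5).mul_right c4.inv_right).eq, c5.eq,
    show s * t * s⁻¹ * e' * (t * e')⁻¹ = s * t * s⁻¹ * t⁻¹ by group]
  exact mul_mem (mul_mem (mul_mem w w') (inv_mem w)) (inv_mem w')

omit [Finite G] in
theorem PL.mem_root {N : Subgroup G} {y : G} (h : PL N P L m) (hp : p ∈ P) (hl : l ∈ L) (i : Inc p l)
    (hy : y ∈ p ⊔ l) (h2 : y * y = 1) (hc : ∀ x ∈ p ⊔ l, x * y = y * x) [Finite G] :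
    y ∈ p ∧ y ∈ l := by
  have k : ∀ {P L : Set (Subgroup G)} {p l : Subgroup G}, PL N P L m → p ∈ P → l ∈ L → Inc p l →
      y ∈ p → (∀ x ∈ l, x * y = y * x) → y ∈ l := fun {P L p l} h hp hl i h1 hc => by
    obtain ⟨x, hx, n⟩ := SetLike.not_le_iff_exists.1 fun r : l ≤ p => h.a.disj p hp
      (eq_of_le_of_card_ge r (by rw [h.a.card p hp, h.a'.card l hl]) ▸ hl)
    exact (h.a.ncomm p hp l hl i y h1 x hx (hc x hx).symm).resolve_right n
  exact (h.a.inv2 p hp l hl i y hy h2).elim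
    (fun r => ⟨r, k h hp hl i r fun x hx => hc x (mem_sup_right hx)⟩)
    fun r => ⟨k h.symm hl hp i.symm r fun x hx => hc x (mem_sup_left hx), r⟩

/-- two flags on one line -/
theorem PL.two_flags {N p₁ : Subgroup G} (h : PL N P L m) (hp : p ∈ P) (hp₁ : p₁ ∈ P) (hl : l ∈ L)
    (i : Inc p l) (i₁ : Inc p₁ l) (n : p₁ ≠ p) (hU : IsPGroup 2 U') (h1 : U' ≤ nor N)
    (h2 : U' ≤ nor (p ⊔ l)) (h3 : U' ≤ nor (p₁ ⊔ l)) (h4 : p ≤ nor U') :
    ∀ x ∈ U', ∃ e ∈ l, e⁻¹ * x ∈ cen N := by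
  have k : ∀ x ∈ U', ∀ s ∈ P, H98.cj x s ∈ P := by
    intro x hx
    rcases h.types (h1 hx) with r | r
    · exact r.1
    have k : ∀ s ∈ P, Inc s l → x ∈ nor (s ⊔ l) → H98.cj x l = s := fun s hs j e =>
      (h.flag_eq hs hl j (r.2 l hl) (r.1 s hs) (by rw [← cj_sup, sup_comm l, cj_eq_self e])).1
    exact absurd ((k p₁ hp₁ i₁ (h3 hx)).symm.trans (k p hp i (h2 hx))) n
  have k' : ∀ s ∈ P, Inc s l → U' ≤ nor (s ⊔ l) → U' ≤ nor s := by
    intro s hs j e x hx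
    have e1 : H98.cj x s ⊔ H98.cj x l = s ⊔ l := by rw [← cj_sup, cj_eq_self (e hx)]
    exact cj_eq_self_iff.1
      (h.flag_eq hs hl j (k x hx s hs) ((h.keep (h1 hx) hs (k x hx s hs)).2 l hl) e1).1
  intro x hx
  obtain ⟨j, hj⟩ := isPGroup_iff_forall.1 hU x hx
  refine h.axisL (h1 hx) hj hl fun s hs j => ?_
  by_cases e : s = p
  · rw [e]
    exact k' p hp i h2 hx
  obtain ⟨y, hy, e1⟩ := h.rootTr hp hl i hp₁ hs i₁ j n e
  have e2 := conj_mem_cj (g := y) (k' p₁ hp₁ i₁ h3 (conj_mem_of_mem_normalizer' (h4 hy) hx))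
  rwa [cj_normalizer, e1, show y * (y⁻¹ * x * y) * y⁻¹ = x by group] at e2

theorem CB.sub (B : CB N) (H : Hp N m) (hab : a ≠ b) (hU : IsSyl 2 U (N a)) (h1 : U ≤ stabilizer G b)
    (hU' : IsSyl 2 U' (N b)) (h2 : U' ≤ stabilizer G a) : Fx Ω U' ⊆ Fx Ω U := by
  obtain ⟨P, L, h⟩ := H.pl a
  obtain ⟨P', L', h'⟩ := H.pl b
  obtain ⟨p, hp, l, hl, i, rfl⟩ := h.flag hU
  obtain ⟨p', hp', l', hl', i', rfl⟩ := h'.flag hU'
  have n1 : p' ⊔ l' ≤ nor (p ⊔ l) := fun x hx => B.norK H hab hU h1 (h2 hx) (H.le b (hU'.le hx))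
  have n2 : p ⊔ l ≤ nor (p' ⊔ l') := fun x hx =>
    B.norK H hab.symm hU' h2 (h1 hx) (H.le a (hU.le hx))
  have n3 : p' ⊔ l' ≤ nor (N a) := fun x hx => H.nor_N (h2 hx)
  have y1 : (p ⊔ l) ⊓ (p' ⊔ l') ≠ ⊥ := fun e => by
    obtain ⟨w, w1, w2, w3⟩ := i'.exists
    have w4 := h.comm_cen h' hl hp' hl' i' (fun x hx => h.cenE (n3 hx) hl fun y hy =>
      commutatorElement_eq_one_iff_mul_comm.1 (mem_bot.1 (e.le (mem_inf.2 ⟨by
        simpa only [commutatorElement_def, mul_assoc] using mul_mem (mem_sup_right hy)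
          (conj_mem_of_mem_normalizer (n1 hx) (inv_mem (mem_sup_right hy))),
        mul_mem (conj_mem_of_mem_normalizer (n2 (mem_sup_right hy)) hx) (inv_mem hx)⟩)))) w1 w2
    obtain ⟨x, hx, n⟩ := SetLike.not_le_iff_exists.1 (H.not_le hab)
    have w5 := H.conj_mem x (h'.a.le _ hp' w1)
    rw [w4 x hx, mul_inv_cancel_right] at w5
    obtain ⟨g, e1, e2⟩ := H.t2.two (Ne.symm n) hab
    have w6 := H.conj_mem g (h'.a.le _ hp' w1)
    have w7 := H.conj_mem g w5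
    rw [e1] at w6
    rw [e2] at w7
    have w8 : IsPGroup 2 (zpowers (g * w * g⁻¹)) :=
      zp2 (by rw [conj_mul, h'.a.sq _ hp' w w1, mul_one, mul_inv_cancel])
    exact w3 (by simpa using mem_bot.1 (e.le ⟨B.le hab hU h1 w8 (zpowers_le.2 w6)
      (zpowers_le.2 (H.le b w7)) (mem_zpowers _), B.le hab.symm hU' h2 w8 (zpowers_le.2 w7)
      (zpowers_le.2 (H.le a w6)) (mem_zpowers _)⟩))
  obtain ⟨y, ⟨y2, y3⟩, y4, y5⟩ := Inc.exists (inf_oz_ne_bot (p := 2)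
    (hU.isPGroup.to_sup_of_normal_left' hU'.isPGroup n1) (inf_le_left.trans le_sup_left)
    (sup_le (le_normalizer_inf le_normalizer n2) (le_normalizer_inf n1 le_normalizer)) y1)
  obtain ⟨-, y6, y7⟩ := mem_oz.1 y4
  rw [sq] at y7
  obtain ⟨z1, z2⟩ := h.mem_root hp hl i y2 y7 fun x hx => y6 x (mem_sup_left hx)
  obtain ⟨z3, z4⟩ := h'.mem_root hp' hl' i' y3 y7 fun x hx => y6 x (mem_sup_right hx)
  intro c hc
  by_contra hn
  have nc : a ≠ c := fun e => hn fun x hx => e ▸ H.le a (hU.le hx)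
  obtain ⟨V, hV, v1, v2⟩ := B a c nc
  obtain ⟨p₁, hp₁, l₁, hl₁, i₁, rfl⟩ := h.flag hV
  have v3 : y ∈ p₁ ⊔ l₁ := B.le nc hV v1 (zp2 y7) (zpowers_le.2 (hU.le y2))
    (zpowers_le.2 (hc y y3)) (mem_zpowers y)
  have v4 := (h.nor_iff hl z2 y5 hp₁).1 (sup_le le_normalizer (h.a.fix _ hl₁ _ hp₁ i₁) v3)
  have v5 := (h.symm.nor_iff hp z1 y5 hl₁).1
    (sup_le (h.a'.fix _ hp₁ _ hl₁ i₁.symm) le_normalizer v3)
  have v6 : p' ⊔ l' ≤ nor (p₁ ⊔ l₁) := fun x hx => B.norK H nc hV v1 (h2 hx) (hc x hx)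
  refine y5 (mem_bot.1 (h.inf_cen.le ⟨hU.le y2, ?_⟩))
  by_cases e : p₁ = p
  · subst e
    exact h.symm.comm_cen h' hp hp' hl' i' (h.symm.two_flags hl hl₁ hp i.symm i₁.symm
      (fun e => hn (e ▸ v1)) hU'.isPGroup n3 (sup_comm p₁ l ▸ n1) (sup_comm p₁ l₁ ▸ v6)
      (le_sup_right.trans n2)) z3 z4
  · obtain rfl := h.line_eq hp₁ hp e hl₁ hl i₁ v5.symm v4 i
    exact h.comm_cen h' hl hp' hl' i' (h.two_flags hp hp₁ hl i i₁ e hU'.isPGroup n3 n1 v6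
      (le_sup_left.trans n2)) z3 z4

theorem jobB1 : JobB1.{u, v} := fun _ _ _ _ _ _ _ H B _ _ n _ _ h1 h2 h3 h4 =>
  (B.sub H n.symm h3 h4 h1 h2).antisymm (B.sub H n h1 h2 h3 h4)

end H82.HP
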