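import Cfsg.Agent.H82.HPSpec

/-! Tool kit of the HP jobs (see `blueprints/HP.md`). -/

set_option autoImplicit false

namespace H82.HP

open MulAction Cfsg Subgroup H89.K H98 H82.TP H82.HR

section Basic

variable {G G' : Type*} [Group G] [Group G'] {N A U E p p' r s s' l l' : Subgroup G}
  {P L S : Set (Subgroup G)} {m q : ℕ} {g x y z : G}

/-- conjugation as an action on subgroups -/
@[reducible] def cjAct (G : Type*) [Group G] : MulAction G (Subgroup G) where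
  smul := cj
  one_smul := cj_one
  mul_smul g h H := (cj_cj g h H).symm

theorem Inc.symm (h : Inc p l) : Inc l p := by rwa [Inc, inf_comm]

theorem Inc.exists (h : Inc p l) : ∃ z, z ∈ p ∧ z ∈ l ∧ z ≠ 1 :=
  let ⟨z, hz⟩ := (ne_bot_iff_exists_ne_one.1 h); ⟨z, z.2.1, z.2.2, fun e => hz (Subtype.ext e)⟩

theorem inc_of_mem (h1 : z ∈ p) (h2 : z ∈ l) (h3 : z ≠ 1) : Inc p l := fun e =>
  h3 (mem_bot.1 (e.le ⟨h1, h2⟩))

theorem le_MM (h1 : l ∈ S) (h2 : Inc p l) : l ≤ MM S p := le_sSup ⟨h1, h2⟩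

theorem inc_map {φ : G →* G'} (hφ : Function.Injective φ) : Inc (p.map φ) (l.map φ) ↔ Inc p l := by
  rw [Inc, Inc, ← map_inf _ _ _ hφ, Ne, map_eq_bot_iff_of_injective _ hφ]

theorem inc_cj (g : G) : Inc (cj g p) (cj g l) ↔ Inc p l := inc_map (MulAut.conj g).injective

theorem map_MM {φ : G →* G'} (hφ : Function.Injective φ) :
    (MM S p).map φ = MM (Subgroup.map φ '' S) (p.map φ) := by
  rw [MM, MM, (gc_map_comap φ).l_sSup, sSup_eq_iSup]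
  refine le_antisymm (iSup₂_le fun y hy => le_iSup₂_of_le (y.map φ)
    ⟨⟨y, hy.1, rfl⟩, (inc_map hφ).2 hy.2⟩ le_rfl) (iSup₂_le ?_)
  rintro _ ⟨⟨y, hy, rfl⟩, h⟩
  exact le_iSup₂_of_le y ⟨hy, (inc_map hφ).1 h⟩ le_rfl

theorem map_inf_nor {φ : G →* G'} (hφ : Function.Injective φ) :
    (A ⊓ nor p).map φ = A.map φ ⊓ nor (p.map φ) := by
  ext w
  constructor
  · rintro ⟨d, hd, rfl⟩
    exact ⟨mem_map_of_mem φ hd.1, (map_mem_nor hφ).2 hd.2⟩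
  · rintro ⟨⟨d, hd, rfl⟩, h1⟩
    exact ⟨d, ⟨hd, (map_mem_nor hφ).1 h1⟩, rfl⟩

theorem HA.map (h : HA N P L q) {φ : G →* G'} (hφ : Function.Injective φ) :
    HA (N.map φ) (Subgroup.map φ '' P) (Subgroup.map φ '' L) q where
  le := by rintro _ ⟨p, hp, rfl⟩; exact map_mono (h.le p hp)
  sq := by rintro _ ⟨p, hp, rfl⟩ _ ⟨z, hz, rfl⟩; rw [← map_mul, h.sq p hp z hz, map_one]
  card := by rintro _ ⟨p, hp, rfl⟩; rw [card_map_of_injective hφ, h.card p hp]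
  inv := by rintro _ ⟨g, hg, rfl⟩ _ ⟨p, hp, rfl⟩; exact ⟨_, h.inv g hg p hp, map_cj' φ g p⟩
  disj := by rintro _ ⟨p, hp, rfl⟩ ⟨l, hl, e⟩; exact h.disj p hp (map_injective hφ e ▸ hl)
  join := by
    rintro _ ⟨p, hp, rfl⟩ _ ⟨p', hp', rfl⟩ ne
    obtain ⟨l, h1, h2⟩ := h.join p hp p' hp' fun e => ne (congrArg _ e)
    refine ⟨_, ⟨⟨l, h1.1, rfl⟩, (inc_map hφ).2 h1.2.1, (inc_map hφ).2 h1.2.2⟩, ?_⟩
    rintro _ ⟨⟨l', hl', rfl⟩, h3, h4⟩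
    rw [h2 l' ⟨hl', (inc_map hφ).1 h3, (inc_map hφ).1 h4⟩]
  cP := by rw [Set.ncard_image_of_injective _ (map_injective hφ), h.cP]
  cI := by
    rintro _ ⟨l, hl, rfl⟩
    rw [← h.cI l hl, ← Set.ncard_image_of_injective _ (map_injective hφ)]
    congr 1
    ext w
    constructor
    · rintro ⟨⟨p, hp, rfl⟩, h1⟩
      exact ⟨p, ⟨hp, (inc_map hφ).1 h1⟩, rfl⟩
    · rintro ⟨p, hp, rfl⟩
      exact ⟨⟨p, hp.1, rfl⟩, (inc_map hφ).2 hp.2⟩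
  root := by
    rintro _ ⟨p, hp, rfl⟩ _ ⟨l, hl, rfl⟩ i
    rw [← map_inf _ _ _ hφ, card_map_of_injective hφ, h.root p hp l hl ((inc_map hφ).1 i)]
  axis := by
    rintro _ ⟨p, hp, rfl⟩ _ ⟨z, hz, rfl⟩
    obtain ⟨l, hl, h1, h2⟩ := h.axis p hp z hz
    exact ⟨_, ⟨l, hl, rfl⟩, (inc_map hφ).2 h1, mem_map_of_mem φ h2⟩
  fix := by
    rintro _ ⟨l, hl, rfl⟩ _ ⟨p, hp, rfl⟩ i
    exact map_le_normalizer_map φ (h.fix l hl p hp ((inc_map hφ).1 i))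
  reg := by
    rintro _ ⟨l, hl, rfl⟩ _ ⟨p, hp, rfl⟩ _ ⟨p', hp', rfl⟩ i i'
    obtain ⟨e, h1, h2⟩ := h.reg l hl p hp p' hp' (mt (inc_map hφ).2 i) (mt (inc_map hφ).2 i')
    refine ⟨φ e, ⟨mem_map_of_mem φ h1.1, by rw [← map_cj', h1.2]⟩, ?_⟩
    rintro _ ⟨⟨e', he, rfl⟩, h3⟩
    rw [h2 e' ⟨he, map_injective hφ (by rw [map_cj', h3])⟩]
  syl := by
    rintro _ ⟨p, hp, rfl⟩ _ ⟨l, hl, rfl⟩ i
    rw [← Subgroup.map_sup]
    exact (h.syl p hp l hl ((inc_map hφ).1 i)).map_of_injective hφ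
  inv2 := by
    rintro _ ⟨p, hp, rfl⟩ _ ⟨l, hl, rfl⟩ i
    rw [← Subgroup.map_sup]
    rintro _ ⟨z, hz, rfl⟩ e
    exact (h.inv2 p hp l hl ((inc_map hφ).1 i) z hz (hφ (by rw [map_mul, e, map_one]))).imp
      (mem_map_of_mem φ) (mem_map_of_mem φ)
  ncomm := by
    rintro _ ⟨p, hp, rfl⟩ _ ⟨l, hl, rfl⟩ i _ ⟨x, hx, rfl⟩ _ ⟨y, hy, rfl⟩ e
    exact (h.ncomm p hp l hl ((inc_map hφ).1 i) x hx y hy (hφ (by simpa using e))).imp
      (mem_map_of_mem φ) (mem_map_of_mem φ)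

theorem HB.map (h : HB N P L m) {φ : G →* G'} (hφ : Function.Injective φ) :
    HB (N.map φ) (Subgroup.map φ '' P) (Subgroup.map φ '' L) m where
  irr := by
    rintro _ ⟨p, hp, rfl⟩ _ ⟨y, hy, rfl⟩ _ ⟨z, hz, rfl⟩ h1 h2
    obtain ⟨g, hg, e⟩ := h.irr p hp y hy z hz (fun e => h1 (by rw [e, map_one]))
      fun e => h2 (by rw [e, map_one])
    exact ⟨φ g, map_MM hφ ▸ mem_map_of_mem φ hg, by rw [← e]; simp⟩
  cyc := by
    rintro _ ⟨p, hp, rfl⟩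
    obtain ⟨c, h1, h2⟩ := h.cyc p hp
    rw [← map_inf_nor hφ, ← map_MM hφ]
    refine ⟨φ c, mem_map_of_mem φ h1, ?_⟩
    rintro _ ⟨g, hg, rfl⟩
    obtain ⟨k, hk⟩ := h2 g hg
    exact ⟨k, by simpa using mem_map_of_mem φ hk⟩
  levi := by
    rintro _ ⟨l, hl, rfl⟩
    obtain ⟨F, _, _, hF, ψ, h1, h2⟩ := h.levi l hl
    rw [← map_MM hφ]
    let e := (MM P l).equivMapOfInjective φ hφ
    refine ⟨F, _, _, hF, ψ.comp e.symm.toMonoidHom, h1.comp e.symm.surjective, fun x => ?_⟩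
    obtain ⟨x, rfl⟩ := e.surjective x
    simpa [h2, e] using (mem_map_iff_mem hφ).symm
  tor := by
    rintro _ ⟨l, hl, rfl⟩ _ ⟨p, hp, rfl⟩ _ ⟨p', hp', rfl⟩ _ ⟨r, hr, rfl⟩ ne i i' n
    obtain ⟨h1, h2, ⟨w, hw, h3, h4, h5⟩, h6⟩ := h.tor l hl p hp p' hp' r hr
      (fun e => ne (congrArg _ e)) ((inc_map hφ).1 i) ((inc_map hφ).1 i') (mt (inc_map hφ).2 n)
    have e : DT (Subgroup.map φ '' P) (l.map φ) (p.map φ) (p'.map φ) (r.map φ) =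
        (DT P l p p' r).map φ := by simp only [DT, map_inf_nor hφ, map_MM hφ]
    rw [e, ← map_MM hφ, ← map_MM hφ]
    refine ⟨isCyclic_of_surjective _ ((DT P l p p' r).equivMapOfInjective φ hφ).surjective, ?_,
      ⟨φ w, mem_map_of_mem φ hw, by rw [← map_cj', h3], by rw [← map_cj', h4],
        by rw [← map_cj', h5]⟩, fun ev => (inc_map hφ).2 (h6 ev)⟩
    rintro _ ⟨s, hs, rfl⟩ _ ⟨s', hs', rfl⟩ j j' n1 n2 n3 n4
    obtain ⟨d, h7, h8⟩ := h2 s hs s' hs' ((inc_map hφ).1 j) ((inc_map hφ).1 j')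
      (fun e => n1 (congrArg _ e)) (fun e => n2 (congrArg _ e)) (fun e => n3 (congrArg _ e))
      fun e => n4 (congrArg _ e)
    refine ⟨φ d, ⟨mem_map_of_mem φ h7.1, by rw [← map_cj', h7.2]⟩, ?_⟩
    rintro _ ⟨⟨e', he, rfl⟩, h9⟩
    rw [h8 e' ⟨he, map_injective hφ (by rw [map_cj', h9])⟩]

namespace PL

theorem symm (h : PL N P L m) : PL N L P m := ⟨h.simple, h.m1, h.a', h.a, h.b', h.b⟩

theorem map (h : PL N P L m) {φ : G →* G'} (hφ : Function.Injective φ) :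
    PL (N.map φ) (Subgroup.map φ '' P) (Subgroup.map φ '' L) m :=
  have := h.simple
  ⟨(N.equivMapOfInjective φ hφ).symm.isSimpleGroup, h.m1, h.a.map hφ, h.a'.map hφ, h.b.map hφ,
    h.b'.map hφ⟩

theorem cj (h : PL N P L m) (g : G) : PL (cj g N) (cj g '' P) (cj g '' L) m :=
  h.map (MulAut.conj g).injective

theorem of_equiv {P L : Set (Subgroup G')} (e : N ≃* G') (h : PL ⊤ P L m) : ∃ P L, PL N P L m := by
  have := h.map (φ := N.subtype.comp e.symm.toMonoidHom) (N.subtype_injective.comp e.symm.injective)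
  rw [← map_map, map_top_of_surjective _ e.symm.surjective, map_subtype_top] at this
  exact ⟨_, _, this⟩

variable (h : PL N P L m)
include h

theorem q2 : 2 ≤ 2 ^ m := Nat.le_self_pow (by have := h.m1; omega) 2

theorem comm (hp : p ∈ P) (hx : x ∈ p) (hy : y ∈ p) : x * y = y * x := comm_of_sq (h.a.sq p hp) hx hy

/-- two lines through two different points coincide -/
theorem line_eq (hp : p ∈ P) (hp' : p' ∈ P) (ne : p ≠ p') (hl : l ∈ L) (hl' : l' ∈ L) (h1 : Inc p l)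
    (h2 : Inc p' l) (h3 : Inc p l') (h4 : Inc p' l') : l = l' :=
  (h.a.join p hp p' hp' ne).unique ⟨hl, h1, h2⟩ ⟨hl', h3, h4⟩

/-- a third point on a line -/
theorem third (hl : l ∈ L) (p p' : Subgroup G) : ∃ s ∈ P, Inc s l ∧ s ≠ p ∧ s ≠ p' := by
  by_contra! r
  have := Set.ncard_le_ncard (s := {s | s ∈ P ∧ Inc s l}) (t := {p, p'}) fun s hs =>
    (em (s = p)).imp_right (r s hs.1 hs.2)
  have h1 := Set.ncard_insert_le p {p'}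
  have h2 := h.q2
  rw [h.a.cI l hl] at this
  rw [Set.ncard_singleton] at h1
  omega

/-- a point on `l'` off `l` -/
theorem off (hl : l ∈ L) (hl' : l' ∈ L) (ne : l ≠ l') (p : Subgroup G) :
    ∃ s ∈ P, Inc s l' ∧ ¬ Inc s l ∧ s ≠ p := by
  obtain ⟨c, ⟨h1, -, -⟩, h2⟩ := h.a'.join l hl l' hl' ne
  obtain ⟨s, hs, h3, h4, h5⟩ := h.third hl' c p
  exact ⟨s, hs, h3, fun i => h4 (h2 s ⟨hs, i.symm, h3.symm⟩), h5⟩

theorem nor_iff (hl : l ∈ L) (hz : z ∈ l) (h1 : z ≠ 1) (hp : p ∈ P) : z ∈ nor p ↔ Inc p l :=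
  ⟨fun r => by_contra fun n => h1 ((h.a.reg l hl p hp p hp n n).unique ⟨hz, cj_eq_self r⟩
    ⟨one_mem _, cj_one p⟩), fun i => h.a.fix l hl p hp i hz⟩

theorem inf_bot (hl : l ∈ L) (hl' : l' ∈ L) (ne : l ≠ l') : l ⊓ l' = ⊥ := by_contra fun r => by
  obtain ⟨z, h1, h2, h3⟩ := Inc.exists r
  obtain ⟨s, hs, h4, h5, -⟩ := h.off hl hl' ne ⊥
  exact h5 ((h.nor_iff hl h1 h3 hs).1 (h.a.fix l' hl' s hs h4 h2))

theorem fix_only (hp : p ∈ P) (hp' : p' ∈ P) (r : p ≤ nor p') : p' = p := by_contra fun ne => by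
  obtain ⟨l, hl, h1, h2, -⟩ := h.symm.off hp' hp ne ⊥
  obtain ⟨z, h3, h4, h5⟩ := h1.exists
  exact h2 ((h.nor_iff hl h3 h5 hp').1 (r h4)).symm

theorem exists_flag : ∃ p ∈ P, ∃ l ∈ L, Inc p l := by
  obtain ⟨l, hl⟩ := Set.nonempty_of_ncard_ne_zero (s := L) (by rw [h.a'.cP]; exact Nat.succ_ne_zero _)
  obtain ⟨p, hp, h1, -⟩ := h.third hl ⊥ ⊥
  exact ⟨p, hp, l, hl, h1⟩

theorem MM_le : MM L p ≤ N := sSup_le fun l hl => h.a'.le l hl.1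

theorem MM_nor (hp : p ∈ P) : MM L p ≤ nor p := sSup_le fun l hl => h.a.fix l hl.1 p hp hl.2

theorem self_le (hp : p ∈ P) : p ≤ MM L p := fun z hz =>
  let ⟨_, hl, h1, h2⟩ := h.a.axis p hp z hz; le_MM hl h1 h2

theorem eq_bot {K : Subgroup G} (h1 : K ≤ N) (h2 : N ≤ nor K) (h3 : K ≠ N) : K = ⊥ := by
  have := h.simple
  have hn : (K.subgroupOf N).Normal := (normal_subgroupOf_iff_le_normalizer h1).2 h2
  rcases hn.eq_bot_or_eq_top with e | e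
  · exact (subgroupOf_eq_bot.1 e).eq_bot_of_le h1
  · exact absurd (h1.antisymm (subgroupOf_eq_top.1 e)) h3

theorem not_nor (hp : p ∈ P) : ¬ N ≤ nor p := fun r => by
  obtain ⟨-, -, l, hl, -⟩ := h.exists_flag
  obtain ⟨s, hs, -, h1, -⟩ := h.third hl p p
  exact h1 (h.fix_only hs hp ((h.a.le s hs).trans r)).symm

theorem inf_cen : N ⊓ cen N = ⊥ :=
  h.eq_bot inf_le_left (le_normalizer_inf le_normalizer
    (le_normalizer_centralizer le_normalizer)) fun e => by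
    obtain ⟨p, hp, -⟩ := h.exists_flag
    exact h.not_nor hp fun x hx => centralizer_le_normalizer _
      (centralizer_anti (h.a.le p hp) (e.ge hx).2)

theorem rootTr (hp : p ∈ P) (hl : l ∈ L) (i : Inc p l) (hs : s ∈ P) (hs' : s' ∈ P) (j : Inc s l)
    (j' : Inc s' l) (n : s ≠ p) (n' : s' ≠ p) : ∃ e ∈ p, H98.cj e s = s' := by
  obtain ⟨k, hk, h1, h2, -⟩ := h.symm.off hp hs n.symm ⊥
  obtain ⟨k', hk', h3, h4, -⟩ := h.symm.off hp hs' n'.symm ⊥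
  obtain ⟨e, ⟨h5, h6⟩, -⟩ := h.a'.reg p hp k hk k' hk' h2 h4
  refine ⟨e, h5, h.symm.line_eq hl hk' (fun r => h4 (r ▸ i.symm)) (h.a.inv e (h.a.le p hp h5) s hs)
    hs' ?_ (h6 ▸ (inc_cj e).2 h1) j'.symm h3⟩
  rw [← cj_eq_self (h.a'.fix p hp l hl i.symm h5)]
  exact (inc_cj e).2 j.symm

variable [Finite G]

theorem le_flag (hp : p ∈ P) (hl : l ∈ L) (i : Inc p l) (h1 : E ≤ p ⊔ l) (h2 : ∀ z ∈ E, z * z = 1)
    (h3 : Nat.card E = (2 ^ m) ^ 2) : E = p ∨ E = l := by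
  have k := fun z hz => h.a.inv2 p hp l hl i z (h1 hz) (h2 z hz)
  by_cases r : E ≤ l
  · exact .inr (eq_of_le_of_card_ge r (by rw [h3, h.a'.card l hl]))
  obtain ⟨x, hx, n⟩ := SetLike.not_le_iff_exists.1 r
  exact .inl (eq_of_le_of_card_ge (fun y hy => (k y hy).elim id fun r =>
    (h.a.ncomm p hp l hl i x ((k x hx).resolve_right n) y r (comm_of_sq h2 hx hy)).resolve_left n)
    (by rw [h3, h.a.card p hp]))

theorem flag (hU : IsSyl 2 U N) : ∃ p ∈ P, ∃ l ∈ L, Inc p l ∧ U = p ⊔ l := by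
  obtain ⟨p, hp, l, hl, i⟩ := h.exists_flag
  obtain ⟨g, hg, rfl⟩ := (h.a.syl p hp l hl i).exists_cj_eq hU
  exact ⟨_, h.a.inv g hg p hp, _, h.a'.inv g hg l hl, (inc_cj g).2 i, cj_sup _ _ _⟩

theorem flag_eq (hp : p ∈ P) (hl : l ∈ L) (i : Inc p l) (hp' : p' ∈ P) (hl' : l' ∈ L)
    (e : p' ⊔ l' = p ⊔ l) : p' = p ∧ l' = l :=
  ⟨(h.le_flag hp hl i (e ▸ le_sup_left) (h.a.sq _ hp') (h.a.card _ hp')).resolve_right
      fun r => h.a.disj _ hp' (r ▸ hl),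
    (h.le_flag hp hl i (e ▸ le_sup_right) (h.a'.sq _ hl') (h.a'.card _ hl')).resolve_left
      fun r => h.a.disj _ hp (r ▸ hl')⟩

theorem max (h1 : E ≤ N) (h2 : ∀ z ∈ E, z * z = 1) (h3 : Nat.card E = (2 ^ m) ^ 2) :
    E ∈ P ∨ E ∈ L := by
  obtain ⟨U, hU, r⟩ := exists_isSyl_le (two_of_sq h2) h1
  obtain ⟨p, hp, l, hl, i, rfl⟩ := h.flag hU
  exact (h.le_flag hp hl i r h2 h3).imp (fun e => by rwa [e]) fun e => by rwa [e]

theorem flagTr (hp : p ∈ P) (hl : l ∈ L) (i : Inc p l) (hp' : p' ∈ P) (hl' : l' ∈ L)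
    (i' : Inc p' l') : ∃ x ∈ N, H98.cj x p = p' ∧ H98.cj x l = l' := by
  obtain ⟨x, hx, e⟩ := (h.a.syl p hp l hl i).exists_cj_eq (h.a.syl p' hp' l' hl' i')
  exact ⟨x, hx, h.flag_eq hp' hl' i' (h.a.inv x hx p hp) (h.a'.inv x hx l hl) (by rw [← e, cj_sup])⟩

theorem trP (hp : p ∈ P) (hp' : p' ∈ P) : ∃ x ∈ N, H98.cj x p = p' := by
  obtain ⟨l, hl, i, -⟩ := h.symm.third hp ⊥ ⊥
  obtain ⟨l', hl', i', -⟩ := h.symm.third hp' ⊥ ⊥
  obtain ⟨x, hx, e, -⟩ := h.flagTr hp hl i.symm hp' hl' i'.symm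
  exact ⟨x, hx, e⟩

theorem cj_or (hg : g ∈ nor N) (hp : p ∈ P) : H98.cj g p ∈ P ∨ H98.cj g p ∈ L :=
  h.max (cj_le_of_le (h.a.le p hp) hg) (by
    rintro _ ⟨z, hz, rfl⟩
    rw [← map_mul, h.a.sq p hp z hz, map_one]) (by rw [card_cj, h.a.card p hp])

theorem all_of_one {S : Set (Subgroup G)} (hS : ∀ x ∈ N, ∀ s ∈ S, H98.cj x s ∈ S) (hg : g ∈ nor N)
    (hp : p ∈ P) (h1 : H98.cj g p ∈ S) : ∀ s ∈ P, H98.cj g s ∈ S := fun s hs => by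
  obtain ⟨x, hx, rfl⟩ := h.trP hp hs
  have := hS _ (conj_mem_of_mem_normalizer hg hx) _ h1
  rwa [cj_cj, inv_mul_cancel_right, ← cj_cj] at this

theorem types (hg : g ∈ nor N) : ((∀ p ∈ P, H98.cj g p ∈ P) ∧ ∀ l ∈ L, H98.cj g l ∈ L) ∨
    ((∀ p ∈ P, H98.cj g p ∈ L) ∧ ∀ l ∈ L, H98.cj g l ∈ P) := by
  obtain ⟨p, hp, l, hl, i⟩ := h.exists_flag
  have ne : H98.cj g p ≠ H98.cj g l := fun e => h.a.disj p hp (cj_inj.1 e ▸ hl)
  have i' := (inc_cj g).2 i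
  rcases h.cj_or hg hp with h1 | h1 <;> rcases h.symm.cj_or hg hl with h2 | h2
  · exact .inl ⟨h.all_of_one h.a.inv hg hp h1, h.symm.all_of_one h.a'.inv hg hl h2⟩
  · exact absurd (h.symm.inf_bot h1 h2 ne) i'
  · exact absurd (h.inf_bot h1 h2 ne) i'
  · exact .inr ⟨h.all_of_one h.a'.inv hg hp h1, h.symm.all_of_one h.a.inv hg hl h2⟩

/-- an element that fixes a point keeps the types -/
theorem keep (hg : g ∈ nor N) (hp : p ∈ P) (h1 : H98.cj g p ∈ P) :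
    (∀ p ∈ P, H98.cj g p ∈ P) ∧ ∀ l ∈ L, H98.cj g l ∈ L :=
  (h.types hg).resolve_right fun r => h.a.disj _ h1 (r.1 p hp)

theorem nor_MM (hg : g ∈ nor N) (hp : p ∈ P) (h1 : g ∈ nor p) : g ∈ nor (MM L p) :=
  mem_normalizer_of_cj_le (map_le_iff_le_comap.2 (sSup_le fun l hl => map_le_iff_le_comap.1
    (le_MM ((h.keep hg hp (by rwa [cj_eq_self h1])).2 l hl.1)
      (cj_eq_self h1 ▸ (inc_cj g).2 hl.2))))

/-- a line through two fixed points is fixed -/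
theorem nor_line (hg : g ∈ nor N) (hp : p ∈ P) (hp' : p' ∈ P) (ne : p ≠ p') (hl : l ∈ L)
    (i : Inc p l) (i' : Inc p' l) (h1 : g ∈ nor p) (h2 : g ∈ nor p') : g ∈ nor l :=
  cj_eq_self_iff.1 (h.line_eq hp hp' ne ((h.keep hg hp (by rwa [cj_eq_self h1])).2 l hl) hl
    (cj_eq_self h1 ▸ (inc_cj g).2 i) (cj_eq_self h2 ▸ (inc_cj g).2 i') i i')

theorem ker (hg : g ∈ nor N) (h1 : ∀ p ∈ P, g ∈ nor p) : g ∈ cen N := by
  let K : Subgroup G := N ⊓ ⨅ p : P, nor p.1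
  have key : ∀ x ∈ N, ∀ c, (∀ p ∈ P, c ∈ nor p) → ∀ p ∈ P, x * c * x⁻¹ ∈ nor p :=
    fun x hx c hc p hp => by
      have := conj_mem_cj (g := x) (hc _ (h.a.inv _ (inv_mem hx) p hp))
      rwa [cj_normalizer, cj_cj_inv] at this
  have hK : K = ⊥ := h.eq_bot inf_le_left (fun x hx => mem_normalizer_fintype fun c hc =>
    ⟨N.mul_mem (N.mul_mem hx hc.1) (N.inv_mem hx), mem_iInf.2 fun p =>
      key x hx c (fun p hp => mem_iInf.1 hc.2 ⟨p, hp⟩) p.1 p.2⟩) fun e => by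
    obtain ⟨p, hp, -⟩ := h.exists_flag
    exact h.not_nor hp fun x hx => mem_iInf.1 (e.ge hx).2 ⟨p, hp⟩
  intro x hx
  have : x * g * x⁻¹ * g⁻¹ ∈ K := mem_inf.2 ⟨by
    simpa only [mul_assoc] using mul_mem hx (conj_mem_of_mem_normalizer hg (inv_mem hx)),
    mem_iInf.2 fun p => mul_mem (key x hx g h1 p.1 p.2) (inv_mem (h1 p.1 p.2))⟩
  rw [hK, mem_bot] at this
  exact commutatorElement_eq_one_iff_mul_comm.1 this

/-- an axis and two more fixed points -/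
theorem fix2 (hg : g ∈ nor N) (hl : l ∈ L) (h1 : ∀ p ∈ P, Inc p l → g ∈ nor p) (hr : r ∈ P)
    (hs : s ∈ P) (ne : r ≠ s) (n : ¬ Inc r l) (n' : ¬ Inc s l) (h2 : g ∈ nor r) (h3 : g ∈ nor s) :
    g ∈ cen N := by
  have ln : ∀ r ∈ P, ¬ Inc r l → g ∈ nor r → ∀ k ∈ L, Inc r k → g ∈ nor k := fun r hr n h2 k hk i => by
    obtain ⟨c, ⟨h4, h5, h6⟩, -⟩ := h.a'.join l hl k hk fun e => n (e ▸ i)
    exact h.nor_line hg hr h4 (fun e => n (e ▸ h5.symm)) hk i h6.symm h2 (h1 c h4 h5.symm)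
  have pt : ∀ r ∈ P, ∀ s ∈ P, ¬ Inc r l → ¬ Inc s l → g ∈ nor r → g ∈ nor s → ∀ k ∈ L, Inc r k →
      Inc s k → r ≠ s → ∀ t ∈ P, ¬ Inc t k → g ∈ nor t := fun r hr s hs n n' h2 h3 k hk i j ne t ht u => by
    obtain ⟨k1, ⟨a1, a2, a3⟩, -⟩ := h.a.join r hr t ht fun e => u (e ▸ i)
    obtain ⟨k2, ⟨b1, b2, b3⟩, -⟩ := h.a.join s hs t ht fun e => u (e ▸ j)
    exact h.symm.nor_line hg a1 b1 (fun e => u (h.line_eq hr hs ne a1 hk a2 (e ▸ b2) i j ▸ a3)) ht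
      a3.symm b3.symm (ln r hr n h2 k1 a1 a2) (ln s hs n' h3 k2 b1 b2)
  obtain ⟨k, ⟨hk, i, j⟩, -⟩ := h.a.join r hr s hs ne
  refine h.ker hg fun t ht => by_contra fun u => ?_
  have i1 : Inc t k := by_contra fun v => u (pt r hr s hs n n' h2 h3 k hk i j ne t ht v)
  obtain ⟨k', hk', a1, a2, -⟩ := h.symm.off ht hr (fun e => u (e ▸ h2)) ⊥
  obtain ⟨c, hc, b1, b2, b3⟩ := h.off hl hk' (fun e => n (e ▸ a1.symm)) r
  exact u (pt r hr c hc n b2 h2 (pt r hr s hs n n' h2 h3 k hk i j ne c hc fun v =>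
    a2 (h.line_eq hr hc b3.symm hk hk' i v a1.symm b1 ▸ i1.symm)) k' hk' a1.symm b1 b3.symm t ht
    fun v => a2 v.symm)

omit [Finite G] in
theorem exists_off (hl : l ∈ L) : ∃ r ∈ P, ¬ Inc r l := by
  obtain ⟨p, hp, -⟩ := h.exists_flag
  obtain ⟨k, hk, -, h1, -⟩ := h.symm.third hp l l
  obtain ⟨s, hs, -, h2, -⟩ := h.off hl hk h1.symm ⊥
  exact ⟨s, hs, h2⟩

theorem card_off (hl : l ∈ L) : {p | p ∈ P ∧ ¬ Inc p l}.ncard = (2 ^ m) ^ 2 := by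
  have := Set.ncard_inter_add_ncard_sdiff_eq_ncard P {p | Inc p l}
  rw [h.a.cP, show P ∩ {p | Inc p l} = {p | p ∈ P ∧ Inc p l} from rfl, h.a.cI l hl,
    show P \ {p | Inc p l} = {p | p ∈ P ∧ ¬ Inc p l} from rfl] at this
  omega

/-- a `2`-element with axis `l` is an elation -/
theorem axisL (hx : x ∈ nor N) {k : ℕ} (h2 : x ^ 2 ^ k = 1) (hl : l ∈ L)
    (h1 : ∀ p ∈ P, Inc p l → x ∈ nor p) : ∃ e ∈ l, e⁻¹ * x ∈ cen N := by
  obtain ⟨p, hp, i, -⟩ := h.third hl ⊥ ⊥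
  obtain ⟨p', hp', i', ne, -⟩ := h.third hl p p
  have xl := h.nor_line hx hp' hp ne hl i' i (h1 _ hp' i') (h1 _ hp i)
  obtain ⟨r, hr, n⟩ := h.exists_off hl
  have off : ∀ g ∈ nor N, g ∈ nor l → ∀ s ∈ P, ¬ Inc s l → H98.cj g s ∈ P ∧ ¬ Inc (H98.cj g s) l :=
    fun g hg gl s hs n => ⟨(h.symm.keep hg hl (by rwa [cj_eq_self gl])).2 s hs,
      fun r => n ((inc_cj g).1 (by rwa [cj_eq_self gl]))⟩
  obtain ⟨e, ⟨he, e1⟩, -⟩ := h.a.reg l hl r hr _ (off x hx xl r hr n).1 n (off x hx xl r hr n).2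
  have b1 : e⁻¹ * x ∈ nor N := mul_mem (inv_mem (le_normalizer (h.a'.le l hl he))) hx
  have b2 : e⁻¹ * x ∈ nor r := cj_eq_self_iff.1 (by rw [← cj_cj, ← e1, cj_inv_cj])
  have b3 : IsPGroup 2 (zpowers (e⁻¹ * x)) := ((two_of_sq (h.a'.sq l hl)).to_sup_of_normal_left'
    (isPGroup_zpowers h2) (zpowers_le.2 xl)).to_le (zpowers_le.2
      (mul_mem (mem_sup_left (inv_mem he)) (mem_sup_right (mem_zpowers x))))
  let _ := cjAct G
  obtain ⟨s, hs, b4⟩ := odd_fix (F := {p | p ∈ P ∧ ¬ Inc p l} \ {r}) b3 (fun g hg s hs =>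
    ⟨off g (zpowers_le.2 b1 hg) (zpowers_le.2 (mul_mem (inv_mem (le_normalizer he)) xl) hg) s hs.1.1
      hs.1.2, fun e => hs.2 (cj_inj.1 ((show H98.cj g s = r from e).trans
        (cj_eq_self (zpowers_le.2 b2 hg)).symm))⟩) (by
    rw [Set.ncard_sdiff_singleton_of_mem (show r ∈ {p | p ∈ P ∧ ¬ Inc p l} from ⟨hr, n⟩),
      h.card_off hl]
    exact Nat.Even.sub_odd (Nat.one_le_pow _ _ (by positivity))
      ((Nat.even_pow.2 ⟨even_two, by have := h.m1; omega⟩).pow_of_ne_zero two_ne_zero) odd_one)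
  exact ⟨e, he, h.fix2 b1 hl (fun p hp i => mul_mem (inv_mem (h.a.fix l hl p hp i he)) (h1 p hp i))
    hr hs.1.1 (Ne.symm hs.2) n hs.1.2 b2 (cj_eq_self_iff.1 (b4 _ (mem_zpowers _)))⟩

theorem cenE (hx : x ∈ nor N) (hl : l ∈ L) (h1 : x ∈ cen l) : ∃ e ∈ l, e⁻¹ * x ∈ cen N := by
  have xl : x ∈ nor l := centralizer_le_normalizer _ h1
  have kp := (h.symm.keep hx hl (by rwa [cj_eq_self xl])).2
  obtain ⟨r, hr, n⟩ := h.exists_off hl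
  obtain ⟨e, ⟨he, e1⟩, -⟩ := h.a.reg l hl r hr _ (kp r hr) n
    fun r => n ((inc_cj x).1 (by rwa [cj_eq_self xl]))
  have b1 : e⁻¹ * x ∈ nor N := mul_mem (inv_mem (le_normalizer (h.a'.le l hl he))) hx
  have b2 : e⁻¹ * x ∈ cen l := mul_mem (inv_mem fun y hy => h.symm.comm hl hy he) h1
  refine ⟨e, he, h.ker b1 fun p hp => cj_eq_self_iff.1 ?_⟩
  by_cases i : Inc p l
  · obtain ⟨z, a1, a2, a3⟩ := i.exists
    refine by_contra fun ne => inc_of_mem ?_ a1 a3 (h.symm.inf_bot ((h.symm.keep b1 hl (by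
      rwa [cj_eq_self (centralizer_le_normalizer _ b2)])).2 p hp) hp ne)
    have := conj_mem_cj (g := e⁻¹ * x) a1
    rwa [← b2 z a2, mul_inv_cancel_right] at this
  · obtain ⟨c, ⟨hc, rfl⟩, -⟩ := h.a.reg l hl r hr p hp n i
    rw [cj_cj, ← b2 c hc, ← cj_cj, ← cj_cj, ← e1, cj_inv_cj]

omit [Finite G] in
/-- transitivity on triangles -/
theorem tri {p₁ p₁' r₁ l₁ : Subgroup G} (hp' : p' ∈ P) (hr : r ∈ P)
    (ne : p ≠ p') (i' : Inc p' l) (n : ¬ Inc r l) (kl : l₁ ∈ L) (kp : p₁ ∈ P)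
    (kp' : p₁' ∈ P) (kr : r₁ ∈ P) (ne₁ : p₁ ≠ p₁') (j : Inc p₁ l₁) (j' : Inc p₁' l₁) (n₁ : ¬ Inc r₁ l₁)
    {g : G} (hg : g ∈ N) (e1 : H98.cj g p = p₁) (e2 : H98.cj g l = l₁) :
    ∃ x ∈ p₁ ⊔ l₁, H98.cj (x * g) p = p₁ ∧ H98.cj (x * g) p' = p₁' ∧ H98.cj (x * g) r = r₁ := by
  obtain ⟨e, he, a1⟩ := h.rootTr kp kl j (h.a.inv g hg p' hp') kp' (e2 ▸ (inc_cj g).2 i') j'
    (fun e => ne (cj_inj.1 (e1.trans e.symm))) ne₁.symm
  have eN := h.a.le _ kp he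
  obtain ⟨c, ⟨hc, a2⟩, -⟩ := h.a.reg l₁ kl _ (h.a.inv e eN _ (h.a.inv g hg r hr)) r₁ kr (fun r => n
    ((inc_cj g).1 ((inc_cj e).1 (by rwa [e2, cj_eq_self (h.a'.fix _ kp _ kl j.symm he)])))) n₁
  refine ⟨c * e, mul_mem (mem_sup_right hc) (mem_sup_left he), ?_, ?_, ?_⟩ <;> rw [← cj_cj, ← cj_cj]
  · rw [e1, cj_eq_self_of_mem he, cj_eq_self (h.a.fix _ kl _ kp j hc)]
  · rw [a1, cj_eq_self (h.a.fix _ kl _ kp' j' hc)]
  · exact a2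

theorem tri1 (h0 : m = 1) (hg : g ∈ nor N) (hl : l ∈ L) (hp : p ∈ P) (hp' : p' ∈ P) (hr : r ∈ P)
    (ne : p ≠ p') (i : Inc p l) (i' : Inc p' l) (n : ¬ Inc r l) (h1 : g ∈ nor p) (h2 : g ∈ nor p')
    (h3 : g ∈ nor r) : g ∈ cen N := by
  have key : ∀ l ∈ L, ∀ p ∈ P, ∀ p' ∈ P, p ≠ p' → Inc p l → Inc p' l → g ∈ nor p → g ∈ nor p' →
      ∀ s ∈ P, Inc s l → g ∈ nor s := fun l hl p hp p' hp' ne i i' h1 h2 s hs j => by
    by_contra u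
    have gl := h.nor_line hg hp hp' ne hl i i' h1 h2
    have n1 : s ≠ p := fun e => u (e ▸ h1)
    have n2 : s ≠ p' := fun e => u (e ▸ h2)
    have := Set.ncard_le_ncard (s := {H98.cj g s, s, p, p'}) (t := {s | s ∈ P ∧ Inc s l}) (by
      rintro _ (rfl | rfl | rfl | rfl)
      exacts [⟨(h.keep hg hp (by rwa [cj_eq_self h1])).1 s hs, cj_eq_self gl ▸ (inc_cj g).2 j⟩,
        ⟨hs, j⟩, ⟨hp, i⟩, ⟨hp', i'⟩])
    rw [h.a.cI l hl, h0, Set.ncard_insert_of_notMem, Set.ncard_insert_of_notMem (by simp [n1, n2]),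
      Set.ncard_pair ne] at this
    · omega
    · rintro (e | e | e)
      exacts [u (cj_eq_self_iff.1 e), n1 (cj_inj.1 (e.trans (cj_eq_self h1).symm)),
        n2 (cj_inj.1 ((show _ = p' from e).trans (cj_eq_self h2).symm))]
  have ne' : p ≠ r := fun e => n (e ▸ i)
  obtain ⟨k, ⟨hk, a1, a2⟩, -⟩ := h.a.join p hp r hr ne'
  obtain ⟨s, hs, b1, b2, b3⟩ := h.off hl hk (fun e => n (e ▸ a2)) r
  exact h.fix2 hg hl (key l hl p hp p' hp' ne i i' h1 h2) hr hs b3.symm n b2 h3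
    (key k hk p hp r hr ne' a1 a2 h1 h3 s hs b1)

/-- `q = 2`: an element that maps a flag like `x ∈ N` lies in `(p ⊔ l) x W` -/
theorem two0 (h0 : m = 1) (hg : g ∈ nor N) (hp : p ∈ P) (hl : l ∈ L) (i : Inc p l) (hx : x ∈ N)
    (e1 : H98.cj x p = H98.cj g p) (e2 : H98.cj x l = H98.cj g l) :
    ∃ y ∈ H98.cj g p ⊔ H98.cj g l, (y * x)⁻¹ * g ∈ cen N := by
  obtain ⟨p', hp', i', ne, -⟩ := h.third hl p p
  obtain ⟨r, hr, n⟩ := h.exists_off hl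
  obtain ⟨k1, k2⟩ := h.keep hg hp (e1 ▸ h.a.inv x hx p hp)
  obtain ⟨y, hy, a1, a2, a3⟩ := h.tri hp' hr ne.symm i' n (k2 l hl) (k1 p hp) (k1 p' hp')
    (k1 r hr) (fun e => ne (cj_inj.1 e).symm) ((inc_cj g).2 i) ((inc_cj g).2 i')
    (mt (inc_cj g).1 n) hx e1 e2
  have k : ∀ s, H98.cj (y * x) s = H98.cj g s → (y * x)⁻¹ * g ∈ nor s := fun s e =>
    cj_eq_self_iff.1 (by rw [← cj_cj, ← e, cj_inv_cj])
  exact ⟨y, hy, h.tri1 h0 (mul_mem (inv_mem (le_normalizer (mul_mem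
    ((h.a.syl _ (k1 p hp) _ (k2 l hl) ((inc_cj g).2 i)).le hy) hx))) hg) hl hp hp' hr ne.symm i i' n
    (k p a1) (k p' a2) (k r a3)⟩

theorem two (h0 : m = 1) (hg : g ∈ nor N) (hp : p ∈ P) (h1 : H98.cj g p ∈ P) :
    ∃ x ∈ N, x⁻¹ * g ∈ cen N := by
  obtain ⟨l, hl, i, -⟩ := h.symm.third hp ⊥ ⊥
  have k := (h.keep hg hp h1).2 l hl
  obtain ⟨x, hx, e1, e2⟩ := h.flagTr hp hl i.symm h1 k ((inc_cj g).2 i.symm)
  obtain ⟨y, hy, r⟩ := h.two0 h0 hg hp hl i.symm hx e1 e2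
  exact ⟨_, mul_mem ((h.a.syl _ h1 _ k ((inc_cj g).2 i.symm)).le hy) hx, r⟩

/-- `q = 2`: the stabiliser of a flag -/
theorem two'' (h0 : m = 1) (hp : p ∈ P) (hl : l ∈ L) (i : Inc p l) (hg : g ∈ N) (h1 : g ∈ nor p)
    (h2 : g ∈ nor l) : g ∈ p ⊔ l := by
  obtain ⟨y, hy, r⟩ := h.two0 h0 (le_normalizer hg) hp hl i N.one_mem
    (by rw [cj_one, cj_eq_self h1]) (by rw [cj_one, cj_eq_self h2])
  rw [cj_eq_self h1, cj_eq_self h2] at hy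
  rw [mul_one] at r
  rwa [← inv_mul_eq_one.1 (mem_bot.1 (h.inf_cen.le
    ⟨N.mul_mem (N.inv_mem ((h.a.syl p hp l hl i).le hy)) hg, r⟩))]

omit [Finite G] in
/-- `M_p` is transitive on the lines through `p` -/
theorem MM_tr (hp : p ∈ P) (hl : l ∈ L) (hl' : l' ∈ L) (i : Inc p l) (i' : Inc p l') :
    ∃ e ∈ MM L p, H98.cj e l = l' := by
  obtain ⟨k, hk, j, n, n'⟩ := h.symm.third hp l l'
  obtain ⟨e, he, r⟩ := h.symm.rootTr hk hp j hl hl' i.symm i'.symm n.symm n'.symm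
  exact ⟨e, le_MM hk j.symm he, r⟩

theorem two' (h0 : m = 1) (hp : p ∈ P) : N ⊓ nor p ≤ MM L p := fun g hg => by
  obtain ⟨l, hl, i, -⟩ := h.symm.third hp ⊥ ⊥
  obtain ⟨e, he, r⟩ := h.MM_tr hp hl (h.a'.inv g hg.1 l hl) i.symm
    (cj_eq_self hg.2 ▸ (inc_cj g).2 i.symm)
  exact (mul_mem_cancel_left (inv_mem he)).1 (sup_le (h.self_le hp) (le_MM hl i.symm)
    (h.two'' h0 hp hl i.symm (N.mul_mem (N.inv_mem (h.MM_le he)) hg.1)
      (mul_mem (inv_mem (h.MM_nor hp he)) hg.2) (cj_eq_self_iff.1 (by rw [← cj_cj, ← r, cj_inv_cj]))))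

omit [Finite G] in
theorem ov1 (hp : p ∈ P) (hl : l ∈ L) (i : Inc p l) (h1 : l ≤ A) (h2 : A ≤ N) (h3 : A ≤ nor p)
    (h4 : ¬ A ≤ nor l) : MM L p ≤ A := sSup_le fun k hk => by
  obtain ⟨g, hg, n⟩ := SetLike.not_le_iff_exists.1 h4
  by_cases e : k = l
  · exact e ▸ h1
  obtain ⟨c, hc, rfl⟩ := h.symm.rootTr hl hp i.symm (h.a'.inv g (h2 hg) l hl) hk.1
    (cj_eq_self (h3 hg) ▸ (inc_cj g).2 i.symm) hk.2.symm (fun e => n (cj_eq_self_iff.1 e)) e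
  exact cj_le_of_le_of_mem (cj_le_of_le_of_mem h1 hg) (h1 hc)

theorem overgp (hp : p ∈ P) (hl : l ∈ L) (i : Inc p l) (h1 : p ⊔ l ≤ A) (h2 : A ≤ N) (h3 : A ≠ N) :
    (A ≤ nor p ∧ A ≤ nor l) ∨ (MM L p ≤ A ∧ A ≤ nor p) ∨ (MM P l ≤ A ∧ A ≤ nor l) := by
  have a1 := le_sup_left.trans h1
  have a2 := le_sup_right.trans h1
  by_cases b1 : A ≤ nor p <;> by_cases b2 : A ≤ nor l
  · exact .inl ⟨b1, b2⟩
  · exact .inr (.inl ⟨h.ov1 hp hl i a2 h2 b1 b2, b1⟩)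
  · exact .inr (.inr ⟨h.symm.ov1 hl hp i.symm a1 h2 b2 b1, b2⟩)
  exfalso
  obtain ⟨r, hr, n, rA⟩ : ∃ r ∈ P, ¬ Inc r l ∧ r ≤ A := by
    obtain ⟨g, hg, n⟩ := SetLike.not_le_iff_exists.1 b1
    obtain ⟨g', hg', n'⟩ := SetLike.not_le_iff_exists.1 b2
    by_cases j : Inc (H98.cj g p) l
    · obtain ⟨s, hs, c1, c2, -⟩ := h.off hl (h.a'.inv g' (h2 hg') l hl)
        (fun e => n' (cj_eq_self_iff.1 e.symm)) ⊥
      refine ⟨s, hs, c2, ?_⟩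
      rw [← cj_cj_inv g' s] at c1 ⊢
      refine cj_le_of_le_of_mem ?_ hg'
      by_cases e : H98.cj g'⁻¹ s = p
      · exact e ▸ a1
      obtain ⟨c, hc, e⟩ := h.rootTr hp hl i (h.a.inv g (h2 hg) p hp) (h.a.inv _ (inv_mem (h2 hg')) s hs)
        j ((inc_cj g').1 c1) (fun e => n (cj_eq_self_iff.1 e)) e
      exact e ▸ cj_le_of_le_of_mem (cj_le_of_le_of_mem a1 hg) (a1 hc)
    · exact ⟨_, h.a.inv g (h2 hg) p hp, j, cj_le_of_le_of_mem a1 hg⟩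
  have k1 : ∀ s ∈ P, ¬ Inc s l → s ≤ A := fun s hs n' => by
    obtain ⟨e, ⟨he, rfl⟩, -⟩ := h.a.reg l hl r hr s hs n n'
    exact cj_le_of_le_of_mem rA (a2 he)
  have k2 : ∀ s ∈ P, s ≤ A := fun s hs => by
    by_cases j : Inc s l
    · have ne : s ≠ r := fun e => n (e ▸ j)
      obtain ⟨k, ⟨hk, c1, c2⟩, -⟩ := h.a.join s hs r hr ne
      obtain ⟨t, ht, d1, d2, d3⟩ := h.off hl hk (fun e => n (e ▸ c2)) r
      obtain ⟨e, he, rfl⟩ := h.rootTr hr hk c2 ht hs d1 c1 d3 ne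
      exact cj_le_of_le_of_mem (k1 t ht d2) (rA he)
    · exact k1 s hs j
  have hK : sSup P ≤ A := sSup_le k2
  exact i (eq_bot_iff.2 (inf_le_left.trans ((le_sSup hp).trans (h.eq_bot (hK.trans h2)
    (fun x hx => mem_normalizer_of_cj_le (map_le_iff_le_comap.2 (sSup_le fun s hs =>
      map_le_iff_le_comap.1 (le_sSup (h.a.inv x hx s hs))))) fun e => h3 (h2.antisymm (e ▸ hK))).le)))

theorem comm_onto (hp : p ∈ P) (hl : l ∈ L) (i : Inc p l) (h1 : z ∈ p) (h2 : z ∈ l) :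
    ∃ x ∈ p, ∃ y ∈ l, z = x * y * x⁻¹ * y⁻¹ := by
  obtain ⟨x, hx, n⟩ := SetLike.not_le_iff_exists.1 fun r : p ≤ l => h.a.disj p hp
    (eq_of_le_of_card_ge r (by rw [h.a.card p hp, h.a'.card l hl]) ▸ hl)
  have m1 : ∀ y ∈ l, x * y * x⁻¹ ∈ l := fun y hy =>
    conj_mem_of_mem_normalizer (h.a'.fix p hp l hl i.symm hx) hy
  let f : l →* ↥(p ⊓ l) := MonoidHom.mk' (fun y => ⟨x * y * x⁻¹ * (y : G)⁻¹, mem_inf.2 ⟨by
    simpa only [mul_assoc] using p.mul_mem hx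
      (conj_mem_of_mem_normalizer (h.a.fix l hl p hp i y.2) (inv_mem hx)),
    l.mul_mem (m1 y y.2) (l.inv_mem y.2)⟩⟩) fun y w => Subtype.ext (by
      have := h.symm.comm hl (inv_mem y.2) (mul_mem (m1 w w.2) (inv_mem w.2))
      show x * (y * w) * x⁻¹ * ((y : G) * w)⁻¹ = x * y * x⁻¹ * (y : G)⁻¹ * (x * w * x⁻¹ * (w : G)⁻¹)
      rw [mul_assoc _ (y : G)⁻¹, this]
      group)
  have c1 : Nat.card f.ker ≤ 2 ^ m := by
    rw [← h.a.root p hp l hl i]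
    exact Nat.card_le_card_of_injective (fun y : f.ker => (⟨y.1, (h.a.ncomm p hp l hl i x hx y y.1.2
      (commutatorElement_eq_one_iff_mul_comm.1 (congrArg Subtype.val y.2))).resolve_left n, y.1.2⟩ :
      ↥(p ⊓ l))) fun a b e => Subtype.ext (Subtype.ext (congrArg (fun z : ↥(p ⊓ l) => (z : G)) e))
  have c2 := f.ker.card_mul_index
  rw [index_ker, h.a'.card l hl] at c2
  have c3 : f.range = ⊤ := eq_top_of_card_eq _ (le_antisymm (card_le_card_group _) (by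
    rw [h.a.root p hp l hl i]
    exact Nat.le_of_mul_le_mul_left (a := 2 ^ m) (by
      rw [← sq, ← c2]; exact Nat.mul_le_mul_right _ c1) (by positivity)))
  obtain ⟨y, e⟩ := c3.ge (mem_top (⟨z, h1, h2⟩ : ↥(p ⊓ l)))
  exact ⟨x, hx, y, y.2, (congrArg Subtype.val e).symm⟩

theorem exists_axis (hz : z ∈ N) (h1 : z * z = 1) : ∃ l ∈ L, z ∈ l := by
  obtain ⟨U, hU, r⟩ := exists_isSyl_le
    (isPGroup_zpowers (p := 2) (k := 1) (by rw [pow_one, sq, h1])) (zpowers_le.2 hz)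
  obtain ⟨p, hp, l, hl, i, rfl⟩ := h.flag hU
  exact (h.a.inv2 p hp l hl i z (r (mem_zpowers z)) h1).elim
    (fun r => let ⟨l, hl, _, e⟩ := h.a.axis p hp z r; ⟨l, hl, e⟩) fun r => ⟨l, hl, r⟩

theorem inv_mem_MM (hz : z ∈ N) (h1 : z * z = 1) (hp : p ∈ P) (h2 : z ∈ nor p) : z ∈ MM L p := by
  by_cases e : z = 1
  · exact e ▸ one_mem _
  obtain ⟨l, hl, r⟩ := h.exists_axis hz h1
  exact le_MM hl ((h.nor_iff hl r e hp).1 h2) r

theorem one (hy : y ∈ N) (hz : z ∈ N) (h1 : orderOf y = 2) (h2 : orderOf z = 2) :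
    ∃ g ∈ N, g * y * g⁻¹ = z := by
  obtain ⟨p, hp, a⟩ := h.symm.exists_axis hy (sq_of_ord h1)
  obtain ⟨p', hp', b⟩ := h.symm.exists_axis hz (sq_of_ord h2)
  obtain ⟨x, hx, rfl⟩ := h.trP hp hp'
  obtain ⟨g, hg, e⟩ := h.b.irr _ hp' _ (conj_mem_cj a) z b (by simpa using ne_of_ord h1) (ne_of_ord h2)
  exact ⟨g * x, mul_mem (h.MM_le hg) hx, by rw [← e]; group⟩

theorem card_syl : {U | IsSyl 2 U N}.ncard = ((2 ^ m) ^ 2 + 2 ^ m + 1) * (2 ^ m + 1) := by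
  have := Fintype.ofFinite L
  rw [← h.a'.cP, ← Nat.card_coe_set_eq, ← Nat.card_coe_set_eq, ← Nat.card_eq_of_bijective
    (fun x : Σ l : L, {p | p ∈ P ∧ Inc p l.1} => (⟨x.2.1 ⊔ x.1.1, h.a.syl _ x.2.2.1 _ x.1.2 x.2.2.2⟩ :
      {U | IsSyl 2 U N})) ⟨?_, fun U => ?_⟩, Nat.card_sigma]
  · rw [Finset.sum_congr rfl fun (l : L) _ => (Nat.card_coe_set_eq _).trans (h.a.cI _ l.2),
      Finset.sum_const, Finset.card_univ, ← Nat.card_eq_fintype_card, smul_eq_mul]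
  · rintro ⟨⟨l, hl⟩, p, hp⟩ ⟨⟨l', hl'⟩, p', hp'⟩ e
    obtain ⟨rfl, rfl⟩ := h.flag_eq hp'.1 hl' hp'.2 hp.1 hl (congrArg Subtype.val e)
    rfl
  · obtain ⟨p, hp, l, hl, i, e⟩ := h.flag U.2
    exact ⟨⟨⟨l, hl⟩, p, hp, i⟩, Subtype.ext e.symm⟩

theorem nI : nI N = ((2 ^ m) ^ 2 + 2 ^ m + 1) * ((2 ^ m) ^ 2 - 1) := by
  have := Fintype.ofFinite L
  rw [nI_eq, ← h.a'.cP, ← Nat.card_coe_set_eq, ← Nat.card_coe_set_eq, ← Nat.card_eq_of_bijective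
    (fun x : Σ l : L, {z : l.1 // z ≠ 1} => (⟨x.2.1, ord_of_sq (h.a'.sq _ x.1.2 _ x.2.1.2)
      fun e => x.2.2 (Subtype.ext e), h.a'.le _ x.1.2 x.2.1.2⟩ :
      {u : G | orderOf u = 2 ∧ u ∈ N})) ⟨?_, fun z => ?_⟩, Nat.card_sigma]
  · rw [Finset.sum_congr rfl fun (l : L) _ => (card_ne (1 : l.1)).trans (congrArg (· - 1) (h.a'.card _ l.2)),
      Finset.sum_const, Finset.card_univ, ← Nat.card_eq_fintype_card, smul_eq_mul]
  · rintro ⟨⟨l, hl⟩, ⟨z, hz⟩, n⟩ ⟨⟨l', hl'⟩, ⟨z', hz'⟩, n'⟩ e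
    obtain rfl : z = z' := congrArg Subtype.val e
    obtain rfl : l = l' := by_contra fun r =>
      inc_of_mem hz hz' (fun e => n (Subtype.ext e)) (h.inf_bot hl hl' r)
    rfl
  · obtain ⟨l, hl, r⟩ := h.exists_axis z.2.2 (sq_of_ord z.2.1)
    exact ⟨⟨⟨l, hl⟩, ⟨z, r⟩, fun e => ne_of_ord z.2.1 (congrArg Subtype.val e)⟩, rfl⟩

end PL

end Basic

namespace Hp

variable {G Ω : Type*} [Group G] [MulAction G Ω] {N : Ω → Subgroup G} {m : ℕ}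
  {a b c d : Ω} {g x : G} (H : Hp N m)
include H

theorem nor_N (hg : g • c = c) : g ∈ nor (N c) := cj_eq_self_iff.1 (by rw [← H.equi, hg])

theorem conj_mem (g : G) (hx : x ∈ N c) : g * x * g⁻¹ ∈ N (g • c) := H.equi g c ▸ conj_mem_cj hx

theorem cj_A (g : G) (c d : Ω) : cj g (N c ⊓ stabilizer G d) = N (g • c) ⊓ stabilizer G (g • d) := by
  rw [cj_inf, H.equi, stabilizer_smul_eq_stabilizer_map_conj]

theorem card_A (hab : a ≠ b) (hcd : c ≠ d) :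
    Nat.card ↥(N c ⊓ stabilizer G d) = Nat.card ↥(N a ⊓ stabilizer G b) := by
  obtain ⟨g, rfl, rfl⟩ := H.t2.two hab hcd
  rw [← H.cj_A, card_cj]

theorem card_I (hab : a ≠ b) (hcd : c ≠ d) : Nat.card ↥(N c ⊓ N d) = Nat.card ↥(N a ⊓ N b) := by
  obtain ⟨g, rfl, rfl⟩ := H.t2.two hab hcd
  rw [H.equi, H.equi, ← cj_inf, card_cj]

theorem not_le (hcd : c ≠ d) : ¬ N c ≤ stabilizer G d := fun r => by
  obtain ⟨P, L, h⟩ := H.pl c
  obtain ⟨p, hp, l, -, i⟩ := h.exists_flag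
  obtain ⟨y, hy, -, h1⟩ := i.exists
  refine h1 (H.t2.faith y fun e => ?_)
  by_cases k : e = c
  · exact k ▸ H.le c (h.a.le p hp hy)
  obtain ⟨g, h2, rfl⟩ := H.t2.two hcd (Ne.symm k)
  have : g⁻¹ * y * g ∈ stabilizer G d :=
    r (conj_mem_of_mem_normalizer' (H.nor_N h2) (h.a.le p hp hy))
  rwa [mem_stabilizer_iff, mul_smul, mul_smul, inv_smul_eq_iff] at this

end Hp

end H82.HP
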