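import Cfsg.Agent.H82.HPKit

/-! HP: the assembly from the jobs. -/

set_option autoImplicit false

namespace H82.HP

open MulAction Cfsg Subgroup H89.K H98 H82.TP H82.HR

universe u v

theorem model (j1 : JobMA) (j2 : JobMB) (j3 : JobMD) (F : Type) [Field F] [Fintype F] {m : ℕ}
    (h1 : 1 ≤ m) (h2 : Fintype.card F = 2 ^ m) : PL ⊤ (PP F) (LL F) m := by
  obtain ⟨hs, σ, e1, e2⟩ := j3 F
  have a := (j1 F m h1 h2).map (φ := σ.toMonoidHom) σ.injective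
  have b := (j2 F m h1 h2).map (φ := σ.toMonoidHom) σ.injective
  rw [map_top_of_surjective _ σ.surjective] at a b
  exact ⟨topEquiv.isSimpleGroup, h1, j1 F m h1 h2, e1 ▸ e2 ▸ a, j2 F m h1 h2, e1 ▸ e2 ▸ b⟩

variable {G : Type u} {Ω : Type v} [Group G] [Finite G] [MulAction G Ω] {a : Ω} {m : ℕ}

omit [Finite G] in
theorem exists_hp (h : T2 G Ω) (he : Even (Nat.card Ω)) {M : Subgroup G} (h1 : M ≤ stabilizer G a)
    (h2 : stabilizer G a ≤ nor M) (h3 : ∃ P L, PL M P L m) :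
    ∃ N : Ω → Subgroup G, N a = M ∧ Hp N m := by
  choose f hf using h.trans a
  have k : ∀ g : G, cj (f (g • a)) M = cj g M := fun g => by
    rw [← cj_inj (g := g⁻¹), cj_inv_cj, cj_cj]
    exact cj_eq_self (h2 (by rw [mem_stabilizer_iff, mul_smul, hf, inv_smul_smul]))
  refine ⟨fun c => cj (f c) M, by simpa using k 1, h, fun g c => ?_, fun c => ?_, fun c => ?_, he⟩
  · rw [cj_cj, ← k (g * f c), mul_smul, hf]
  · refine (cj_mono _ h1).trans ?_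
    rw [← hf c, stabilizer_smul_eq_stabilizer_map_conj, hf]
  · obtain ⟨P, L, r⟩ := h3
    exact ⟨_, _, r.cj _⟩

theorem main (j0 : JobCase.{u, v}) (j1 : JobB1.{u, v}) (j2 : JobB2.{u, v}) (j3 : JobB3.{u, v})
    (k1 : JobP1.{u, v}) (k2 : JobPG.{u, v}) (k3 : JobPS.{u, v}) (k4 : JobAf.{u, v})
    (k5 : JobTr.{u, v}) (k6 : JobM22.{u, v}) {N : Ω → Subgroup G} (H : Hp N m) (a : Ω) :
    (∀ x y : Ω, x ≠ a → y ≠ a → ∃ g ∈ N a, g • x = y) ∧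
    ((Odd m ∧ ∃ E : Subgroup G, E.Normal ∧ Nat.card E = (2 ^ m) ^ 3 ∧
      (∀ x y : Ω, ∃ r ∈ E, r • x = y) ∧ ∀ x : Ω, ∀ r ∈ E, r • x = x → r = 1) ∨
     (Nat.card Ω = 22 ∧ m = 2 ∧ (Spor.IsoM22 G ∨ ∃ H : Subgroup G, H.index = 2 ∧ Spor.IsoM22 H))) := by
  rcases j0 G Ω N m H with h | ⟨P, L, x, h⟩
  · exact absurd (j2 G Ω N m H h (j1 G Ω N m H h)) (j3 G Ω N m H h)
  obtain ⟨f, k⟩ := k2 G Ω N P L x m H h (k1 G Ω N P L x m H h)
  rcases k3 G Ω N P L x m f H h k with rfl | ⟨rfl, rfl⟩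
  · obtain ⟨r1, r2⟩ := k5 G Ω N P L x m H h k
    obtain ⟨E, e1, e2, e3⟩ := k4 G Ω N P L x m H h k
    refine ⟨r2 a, .inl ⟨r1, E, e1, ?_, e2, e3⟩⟩
    rw [Nat.card_eq_of_bijective (fun r : E => (r : G) • a) ⟨fun r s e => Subtype.ext
      (inv_mul_eq_one.1 (e3 a _ (s⁻¹ * r).2 (by
        rw [mul_smul, show (r : G) • a = (s : G) • a from e, inv_smul_smul]))).symm,
      fun y => let ⟨r, h1, h2⟩ := e2 a y; ⟨⟨r, h1⟩, h2⟩⟩, k.card]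
    obtain ⟨q, e⟩ : ∃ q, 2 ^ m = q + 1 := ⟨2 ^ m - 1, (Nat.sub_add_cancel Nat.one_le_two_pow).symm⟩
    rw [e, Nat.add_sub_cancel]
    ring
  · obtain ⟨r1, r2⟩ := k6 G Ω N P L x H h k
    exact ⟨r1 a, .inr ⟨k.card, rfl, r2⟩⟩

end H82.HP
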