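import Cfsg.Agent.H82.HPKit
import Cfsg.Agent.H61.PSLMin

/-! Tower HP, job `JobP1`. -/

set_option autoImplicit false
set_option linter.unusedSectionVars false

namespace H82.HP

open MulAction Cfsg Subgroup H89.K H98 H82.TP H82.HR

universe u v

variable {G : Type u} {Ω : Type v} [Group G] [Finite G] [MulAction G Ω] {N : Ω → Subgroup G}
  {P L : Ω → Set (Subgroup G)} {x : Ω → Ω → Subgroup G} {m : ℕ} {a b : Ω} {g : G}

theorem comm_mem_inf {A B : Subgroup G} {y z : G} (hy : y ∈ A) (hz : z ∈ B) (h1 : y ∈ nor B)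
    (h2 : z ∈ nor A) : y * z * y⁻¹ * z⁻¹ ∈ A ⊓ B :=
  mem_inf.2 ⟨by simpa only [mul_assoc] using A.mul_mem hy (conj_mem_of_mem_normalizer h2 (A.inv_mem hy)),
    B.mul_mem (conj_mem_of_mem_normalizer h1 hz) (B.inv_mem hz)⟩

section

variable (H : Hp N m) (C : CP N P L x m) (hab : a ≠ b)
include H C hab

theorem eqx {c : Ω} (hc : a ≠ c) (h : x a b ≤ stabilizer G c) : x a c = x a b :=
  (C.pl a).fix_only (C.mem a b hab) (C.mem a c hc)
    ((le_inf ((C.pl a).a.le _ (C.mem a b hab)) h).trans (C.nor a c hc))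

theorem xle : x a b ≤ stabilizer G b := ((C.pl a).self_le (C.mem a b hab)).trans (C.le a b hab)

theorem Mle : MM (L a) (x a b) ≤ stabilizer G a := (C.pl a).MM_le.trans (H.le a)

theorem norx (h1 : g • a = a) (h2 : g • b = b) : g ∈ nor (x a b) := by
  have k := C.equiP g a _ (C.mem a b hab)
  rw [h1] at k
  refine cj_eq_self_iff.1 ((C.pl a).fix_only (C.mem a b hab) k fun y hy => ?_)
  rw [nor, ← cj_normalizer, mem_cj]
  refine C.nor a b hab ⟨conj_mem_of_mem_normalizer' (H.nor_N h1) ((C.pl a).a.le _ (C.mem a b hab) hy),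
    mem_stabilizer_iff.2 ?_⟩
  rw [mul_smul, mul_smul, h2, xle H C hab hy, inv_smul_eq_iff, h2]

theorem norM (h1 : g • a = a) (h2 : g • b = b) : g ∈ nor (MM (L a) (x a b)) :=
  (C.pl a).nor_MM (H.nor_N h1) (C.mem a b hab) (norx H C hab h1 h2)

theorem comm_MM {y z : G} (hy : y ∈ MM (L a) (x a b)) (hz : z ∈ MM (L b) (x b a)) :
    y * z * y⁻¹ * z⁻¹ ∈ MM (L a) (x a b) ⊓ MM (L b) (x b a) :=
  comm_mem_inf hy hz (norM H C hab.symm (C.le a b hab hy) (Mle H C hab hy))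
    (norM H C hab (C.le b a hab.symm hz) (Mle H C hab.symm hz))

theorem I_ne : N a ⊓ N b ≠ ⊥ := fun e => by
  have h := C.pl a
  have hp := C.mem a b hab
  obtain ⟨l₂, hl₂, i₂, -⟩ := (C.pl b).symm.third (C.mem b a hab.symm) ⊥ ⊥
  obtain ⟨w, hw, -, w1⟩ := i₂.exists
  have wM := le_MM hl₂ i₂.symm hw
  have k : ∀ l ∈ L a, Inc l (x a b) → ∃ e ∈ l, e⁻¹ * w ∈ cen (N a) := fun l hl i =>
    h.cenE (H.nor_N (C.le b a hab.symm wM)) hl fun y hy => by
      have := comm_MM H C hab (le_MM hl i.symm hy) wM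
      exact commutatorElement_eq_one_iff_mul_comm.1
        (mem_bot.1 (e.le ⟨h.MM_le this.1, (C.pl b).MM_le this.2⟩))
  obtain ⟨l, hl, i, -⟩ := h.symm.third hp ⊥ ⊥
  obtain ⟨l', hl', i', ne, -⟩ := h.symm.third hp l l
  obtain ⟨c, hc, r⟩ := k l hl i
  obtain ⟨c', hc', r'⟩ := k l' hl' i'
  have e1 : c⁻¹ * c' = 1 := mem_bot.1 (h.inf_cen.le (mem_inf.2 ⟨mul_mem (inv_mem (h.a'.le l hl hc))
    (h.a'.le l' hl' hc'), by simpa [mul_assoc] using mul_mem r (inv_mem r')⟩))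
  obtain rfl := inv_mul_eq_one.1 e1
  obtain rfl : c = 1 := mem_bot.1 ((h.inf_bot hl hl' ne.symm).le ⟨hc, hc'⟩)
  obtain ⟨g, hg, n⟩ := SetLike.not_le_iff_exists.1 (H.not_le hab)
  have wN := (C.pl b).MM_le wM
  have := H.conj_mem g wN
  rw [inv_one, one_mul] at r
  rw [r g hg, mul_inv_cancel_right] at this
  have c1 := H.card_I hab (show b ≠ g • b from fun e => n e.symm)
  rw [e, card_bot, card_eq_one] at c1
  exact w1 (mem_bot.1 (c1.le ⟨wN, this⟩))

theorem x_le : x a b ≤ N b := by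
  have h := C.pl a
  have hp := C.mem a b hab
  obtain ⟨y, y1, y2, y3⟩ : ∃ y, y ∈ N b ∧ y ∈ x a b ∧ y ≠ 1 := by
    by_contra! r
    obtain ⟨y, y1, y2, y3⟩ := Inc.exists (I_ne H C hab)
    obtain ⟨e, he, w⟩ := h.symm.cenE (le_normalizer y1) hp fun z hz => by
      have := comm_mem_inf hz y2 (H.nor_N (xle H C hab hz)) (norx H C hab (H.le a y1) (H.le b y2))
      exact commutatorElement_eq_one_iff_mul_comm.1 (r _ this.2 this.1)
    obtain rfl := inv_mul_eq_one.1 (mem_bot.1 (h.inf_cen.le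
      (mem_inf.2 ⟨mul_mem (inv_mem (h.a.le _ hp he)) y1, w⟩)))
    exact y3 (r _ y2 he)
  intro z hz
  by_cases e : z = 1
  · exact e ▸ one_mem _
  obtain ⟨g, hg, rfl⟩ := h.b.irr _ hp y y2 z hz y3 e
  exact conj_mem_of_mem_normalizer (H.nor_N (C.le a b hab hg)) y1

theorem x_eq : x a b = x b a := by
  have h := C.pl b
  have hp := C.mem b a hab.symm
  have k : MM (L b) (x b a) ≤ nor (x a b) := fun y hy =>
    norx H C hab (C.le b a hab.symm hy) (Mle H C hab.symm hy)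
  rcases h.max (x_le H C hab) ((C.pl a).a.sq _ (C.mem a b hab)) ((C.pl a).a.card _ (C.mem a b hab))
    with r | r
  · exact h.fix_only hp r ((h.self_le hp).trans k)
  obtain ⟨l, hl, i, n, -⟩ := h.symm.third hp (x a b) ⊥
  obtain ⟨l', hl', i', n', -⟩ := h.symm.third hp l ⊥
  obtain ⟨e, he, rfl⟩ := h.MM_tr hp hl' hl i'.symm i.symm
  exact absurd (h.symm.fix_only hl r ((le_MM hl i.symm).trans k)).symm n

theorem M_fix {c : Ω} (hc : x a b ≤ stabilizer G c) : MM (L a) (x a b) ≤ stabilizer G c := by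
  by_cases e : a = c
  · exact e ▸ Mle H C hab
  exact eqx H C hab e hc ▸ C.le a c e

theorem M_le : (1 = m ∧ MM (L b) (x b a) ≤ MM (L a) (x a b)) ∨
    (1 < m ∧ MM (L a) (x a b) ≤ MM (L b) (x b a)) := by
  have h := C.pl a
  have hp := C.mem a b hab
  have ex := x_eq H C hab
  rcases h.m1.eq_or_lt with h0 | h0
  · refine .inl ⟨h0, fun g hg => ?_⟩
    have g1 := C.le b a hab.symm hg
    have g2 := norx H C hab g1 (Mle H C hab.symm hg)
    obtain ⟨y, hy, w⟩ := h.two h0.symm (H.nor_N g1) hp (by rwa [cj_eq_self g2])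
    have yM : y ∈ MM (L a) (x a b) := h.two' h0.symm hp ⟨hy, by
      simpa using mul_mem g2 (inv_mem (centralizer_le_normalizer _ (centralizer_anti (h.a.le _ hp) w)))⟩
    have k : ∀ c, x a b ≤ stabilizer G c → (y⁻¹ * g) • c = c := fun c hc =>
      mul_mem (inv_mem (M_fix H C hab hc yM)) (M_fix H C hab.symm (ex ▸ hc) hg)
    rwa [← inv_mul_eq_one.1 (H.t2.faith (y⁻¹ * g) fun d => ?_)]
    by_cases e : a = d
    · exact k d (e ▸ (h.a.le _ hp).trans (H.le a))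
    obtain ⟨n, hn, r⟩ := h.trP (C.mem a d e) hp
    have := k (n • d) (by
      rw [← r, stabilizer_smul_eq_stabilizer_map_conj]; exact map_mono (xle H C e))
    rwa [← mul_smul, ← w n hn, mul_smul, smul_left_cancel_iff] at this
  obtain ⟨F, _, _, hF, φ, φ1, φ2⟩ := h.b'.levi _ hp
  have := H61.isSimpleGroup_psl (F := F) (by
    rw [Nat.card_eq_fintype_card, hF]; exact Nat.pow_le_pow_right (n := 2) two_pos h0)
  have hn : ((MM (L b) (x b a)).subgroupOf (MM (L a) (x a b))).Normal := ⟨fun y hy z =>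
    mem_subgroupOf.2 (conj_mem_of_mem_normalizer
      (norM H C hab.symm (C.le a b hab z.2) (Mle H C hab z.2)) (mem_subgroupOf.1 hy))⟩
  have EM : x a b ≤ MM (L b) (x b a) := ex.le.trans ((C.pl b).self_le (C.mem b a hab.symm))
  rcases (hn.map φ φ1).eq_bot_or_eq_top with e | e
  · exfalso
    obtain ⟨l₂, hl₂, i₂, -⟩ := (C.pl b).symm.third (C.mem b a hab.symm) ⊥ ⊥
    have ne : ∀ {A B : Subgroup G}, Nat.card A = (2 ^ m) ^ 2 → Nat.card B = (2 ^ m) ^ 2 → A ≠ B →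
        ∃ y ∈ A, y ∉ B := fun c1 c2 n =>
      SetLike.not_le_iff_exists.1 fun r => n (eq_of_le_of_card_ge r (by rw [c1, c2]))
    have c1 := (C.pl b).a.card _ (C.mem b a hab.symm)
    have c2 := (C.pl b).a'.card _ hl₂
    have n : x b a ≠ l₂ := fun e => (C.pl b).a.disj _ (C.mem b a hab.symm) (e ▸ hl₂)
    obtain ⟨z, hz, nz⟩ := ne c1 c2 n
    obtain ⟨y, hy, ny⟩ := ne c2 c1 n.symm
    have yM := le_MM hl₂ i₂.symm hy
    have y1 := C.le b a hab.symm yM
    have y2 := norx H C hab y1 (Mle H C hab.symm yM)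
    obtain ⟨c, hc, w⟩ := h.symm.axisL (H.nor_N y1) (k := 1)
      (by rw [pow_one, sq, (C.pl b).a'.sq _ hl₂ y hy]) hp fun l hl i => by
        have hl₁ := C.equiL y a l hl
        rw [show y • a = a from y1] at hl₁
        refine cj_eq_self_iff.1 (h.symm.fix_only hl hl₁ fun t ht => cj_eq_self_iff.1 ?_)
        have tM := le_MM hl i.symm ht
        have r := comm_MM H C hab tM yM
        have r' : t * y * t⁻¹ * y⁻¹ ∈ x a b := (φ2 ⟨_, r.1⟩).1
          (mem_bot.1 (e.le (mem_map_of_mem φ (mem_subgroupOf.2 r.2))))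
        have := cj_eq_self (h.a'.fix _ hp _ hl₁ (cj_eq_self y2 ▸ (inc_cj y).2 i) r')
        rwa [cj_cj, inv_mul_cancel_right, ← cj_cj, cj_eq_self_of_mem (inv_mem ht), ← cj_cj] at this
    rw [← ex] at hz
    refine ((C.pl b).a.ncomm _ (C.mem b a hab.symm) l₂ hl₂ i₂.symm z (ex ▸ hz) y hy ?_).elim nz ny
    rw [← mul_inv_cancel_left c y, ← mul_assoc, h.comm hp hz hc, mul_assoc, w z (h.a.le _ hp hz),
      ← mul_assoc]
  · refine .inr ⟨h0, fun y hy => ?_⟩
    obtain ⟨z, hz, r⟩ := e.ge (mem_top (φ ⟨y, hy⟩))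
    have : (z : G)⁻¹ * y ∈ x a b := (φ2 (z⁻¹ * ⟨y, hy⟩)).1 (by rw [map_mul, map_inv, r, inv_mul_cancel])
    exact (mul_mem_cancel_left (inv_mem (mem_subgroupOf.1 hz))).1 (EM this)

end

theorem jobP1 : JobP1.{u, v} := fun G Ω _ _ _ N P L x m H C a b hab => by
  refine ⟨x_eq H C hab, ?_⟩
  rcases M_le H C hab with ⟨h1, r⟩ | ⟨h1, r⟩ <;> rcases M_le H C hab.symm with ⟨h2, s⟩ | ⟨h2, s⟩
  exacts [s.antisymm r, absurd h1 h2.ne, absurd h2 h1.ne, r.antisymm s]

end H82.HP
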