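import Cfsg.Agent.H82.HRKit

/-! HP tower (S3727): doubly transitive groups of even degree whose point stabiliser has a normal
subgroup `L₃(2^m)`. Definitions and jobs; the proofs are in `blueprints/HP.md`. -/

set_option autoImplicit false

namespace H82.HP

open MulAction Cfsg Subgroup H89.K H98 H82.HR Matrix

universe u v

section Defs

variable {G : Type*} [Group G]

/-- incidence of two elation groups -/
def Inc (x y : Subgroup G) : Prop := x ⊓ y ≠ ⊥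

/-- the group generated by the members of `S` incident with `x` -/
def MM (S : Set (Subgroup G)) (x : Subgroup G) : Subgroup G := sSup {y | y ∈ S ∧ Inc x y}

/-- The projective plane of the elation groups: `P` by centre (points), `L` by axis (lines). -/
structure HA (N : Subgroup G) (P L : Set (Subgroup G)) (q : ℕ) : Prop where
  le : ∀ p ∈ P, p ≤ N
  sq : ∀ p ∈ P, ∀ z ∈ p, z * z = 1
  card : ∀ p ∈ P, Nat.card p = q ^ 2
  inv : ∀ g ∈ N, ∀ p ∈ P, cj g p ∈ P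
  disj : ∀ p ∈ P, p ∉ L
  join : ∀ p ∈ P, ∀ p' ∈ P, p ≠ p' → ∃! l, l ∈ L ∧ Inc p l ∧ Inc p' l
  cP : P.ncard = q ^ 2 + q + 1
  cI : ∀ l ∈ L, {p | p ∈ P ∧ Inc p l}.ncard = q + 1
  root : ∀ p ∈ P, ∀ l ∈ L, Inc p l → Nat.card ↥(p ⊓ l) = q
  axis : ∀ p ∈ P, ∀ z ∈ p, ∃ l ∈ L, Inc p l ∧ z ∈ l
  fix : ∀ l ∈ L, ∀ p ∈ P, Inc p l → l ≤ nor p
  reg : ∀ l ∈ L, ∀ p ∈ P, ∀ p' ∈ P, ¬ Inc p l → ¬ Inc p' l → ∃! e, e ∈ l ∧ cj e p = p'
  syl : ∀ p ∈ P, ∀ l ∈ L, Inc p l → IsSyl 2 (p ⊔ l) N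
  inv2 : ∀ p ∈ P, ∀ l ∈ L, Inc p l → ∀ z ∈ p ⊔ l, z * z = 1 → z ∈ p ∨ z ∈ l
  ncomm : ∀ p ∈ P, ∀ l ∈ L, Inc p l → ∀ x ∈ p, ∀ y ∈ l, x * y = y * x → x ∈ l ∨ y ∈ p

/-- the torus of the Levi factor of a line -/
abbrev DT (P : Set (Subgroup G)) (l p p' r : Subgroup G) : Subgroup G :=
  MM P l ⊓ nor p ⊓ nor p' ⊓ nor r

/-- The parabolic subgroups. -/
structure HB (N : Subgroup G) (P L : Set (Subgroup G)) (m : ℕ) : Prop where
  irr : ∀ p ∈ P, ∀ y ∈ p, ∀ z ∈ p, y ≠ 1 → z ≠ 1 → ∃ g ∈ MM L p, g * y * g⁻¹ = z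
  cyc : ∀ p ∈ P, ∃ h ∈ N ⊓ nor p, ∀ g ∈ N ⊓ nor p, ∃ k : ℕ, (h ^ k)⁻¹ * g ∈ MM L p
  levi : ∀ l ∈ L, ∃ (F : Type) (_ : Field F) (_ : Fintype F), Fintype.card F = 2 ^ m ∧
    ∃ φ : MM P l →* PSL2 F, Function.Surjective φ ∧ ∀ x, φ x = 1 ↔ (x : G) ∈ l
  tor : ∀ l ∈ L, ∀ p ∈ P, ∀ p' ∈ P, ∀ r ∈ P, p ≠ p' → Inc p l → Inc p' l → ¬ Inc r l →
    IsCyclic (DT P l p p' r) ∧
    (∀ s ∈ P, ∀ s' ∈ P, Inc s l → Inc s' l → s ≠ p → s ≠ p' → s' ≠ p → s' ≠ p' →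
      ∃! d, d ∈ DT P l p p' r ∧ cj d s = s') ∧
    (∃ w ∈ MM P l, cj w p = p' ∧ cj w p' = p ∧ cj w r = r) ∧
    (Even m → DT P l p p' r ⊓ MM L p ≠ ⊥)

/-- `N` is `L₃(2^m)` with its plane. -/
structure PL (N : Subgroup G) (P L : Set (Subgroup G)) (m : ℕ) : Prop where
  simple : IsSimpleGroup N
  m1 : 1 ≤ m
  a : HA N P L (2 ^ m)
  a' : HA N L P (2 ^ m)
  b : HB N P L m
  b' : HB N L P m

variable {Ω : Type*} [MulAction G Ω]

/-- The setting. -/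
structure Hp (N : Ω → Subgroup G) (m : ℕ) : Prop where
  t2 : T2 G Ω
  equi : ∀ (g : G) (c : Ω), N (g • c) = cj g (N c)
  le : ∀ c, N c ≤ stabilizer G c
  pl : ∀ c, ∃ P L, PL (N c) P L m
  even : Even (Nat.card Ω)

/-- case B -/
def CB (N : Ω → Subgroup G) : Prop := ∀ c d : Ω, c ≠ d → ∃ U, IsSyl 2 U (N c) ∧
  U ≤ stabilizer G d ∧ N c ⊓ stabilizer G d ≤ nor U

/-- in case B both Sylow subgroups of a pair have the same fixed points -/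
def FF (N : Ω → Subgroup G) : Prop := ∀ c d : Ω, c ≠ d → ∀ U U', IsSyl 2 U (N c) →
  U ≤ stabilizer G d → IsSyl 2 U' (N d) → U' ≤ stabilizer G c → Fx Ω U = Fx Ω U'

/-- case P: `x c d` is the point of the plane at `c` fixed by `N c ⊓ G_d` -/
structure CP (N : Ω → Subgroup G) (P L : Ω → Set (Subgroup G)) (x : Ω → Ω → Subgroup G) (m : ℕ) :
    Prop where
  pl : ∀ c, PL (N c) (P c) (L c) m
  equiP : ∀ (g : G) (c : Ω), ∀ p ∈ P c, cj g p ∈ P (g • c)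
  equiL : ∀ (g : G) (c : Ω), ∀ l ∈ L c, cj g l ∈ L (g • c)
  mem : ∀ c d, c ≠ d → x c d ∈ P c
  le : ∀ c d, c ≠ d → MM (L c) (x c d) ≤ stabilizer G d
  nor : ∀ c d, c ≠ d → N c ⊓ stabilizer G d ≤ nor (x c d)

def EQ (L : Ω → Set (Subgroup G)) (x : Ω → Ω → Subgroup G) : Prop :=
  ∀ c d, c ≠ d → x c d = x d c ∧ MM (L c) (x c d) = MM (L d) (x d c)

/-- The geometry of case P: blocks `Fx p` with `f` points, planes `Fx l`. -/
structure GK (N : Ω → Subgroup G) (P L : Ω → Set (Subgroup G)) (q f : ℕ) : Prop where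
  memP : ∀ a, ∀ p ∈ P a, ∀ c, p ∈ P c ↔ c ∈ Fx Ω p
  memL : ∀ a, ∀ l ∈ L a, ∀ c, l ∈ L c ↔ c ∈ Fx Ω l
  line : ∀ c d : Ω, c ≠ d → ∃! p, p ∈ P c ∧ p ∈ P d
  sub : ∀ a, ∀ p ∈ P a, ∀ l ∈ L a, Inc p l → Fx Ω p ⊆ Fx Ω l
  inc : ∀ a, ∀ p ∈ P a, ∀ l ∈ L a, ∀ c ∈ Fx Ω p, c ∈ Fx Ω l → c ≠ a → Inc p l
  fixL : ∀ a, ∀ l ∈ L a, ∀ z ∈ l, z ≠ 1 → ∀ c : Ω, z • c = c → c ∈ Fx Ω l
  fixM : ∀ a, ∀ p ∈ P a, ∀ g ∈ MM (L a) p, ∀ c ∈ Fx Ω p, g • c = c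
  sc : SC N
  w : ∀ a, ∀ p ∈ P a, ∀ g ∈ cen (N a), (∀ c ∈ Fx Ω p, g • c = c) → g = 1
  cF : ∀ a, ∀ p ∈ P a, (Fx Ω p).ncard = f
  cL : ∀ a, ∀ l ∈ L a, (Fx Ω l).ncard = 1 + (q + 1) * (f - 1)
  card : Nat.card Ω = 1 + (q ^ 2 + q + 1) * (f - 1)
  two : 2 ≤ f
  dvd : f ∣ q
  tr2 : ∀ a, ∀ l ∈ L a, ∀ c ∈ Fx Ω l, ∀ d ∈ Fx Ω l, ∀ c' ∈ Fx Ω l, ∀ d' ∈ Fx Ω l, c ≠ d → c' ≠ d' →
    ∃ g ∈ nor l, g • c = c' ∧ g • d = d'

end Defs

/-! ### The model -/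

section Model

variable {F : Type} [Field F]

abbrev SL3 (F : Type) [Field F] := SpecialLinearGroup (Fin 3) F

/-- the action on vectors -/
def act (g : SL3 F) (x : Fin 3 → F) : Fin 3 → F := (g : Matrix (Fin 3) (Fin 3) F) *ᵥ x

theorem act_mul (g h : SL3 F) (x : Fin 3 → F) : act (g * h) x = act g (act h x) :=
  (mulVec_mulVec _ _ _).symm

theorem act_one (x : Fin 3 → F) : act 1 x = x := one_mulVec x

theorem act_add (g : SL3 F) (x y : Fin 3 → F) (c : F) :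
    act g (x + c • y) = act g x + c • act g y := by
  simp only [act, mulVec_add, mulVec_smul]

/-- elations with centre `v` -/
def cP (v : Fin 3 → F) : Subgroup (SL3 F) where
  carrier := {g | act g v = v ∧ ∀ x, ∃ c : F, act g x = x + c • v}
  one_mem' := ⟨act_one v, fun x => ⟨0, by simp [act_one]⟩⟩
  mul_mem' := fun {g h} hg hh => ⟨by rw [act_mul, hh.1, hg.1], fun x => by
    obtain ⟨c, e⟩ := hh.2 x
    obtain ⟨c', e'⟩ := hg.2 x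
    exact ⟨c' + c, by rw [act_mul, e, act_add, e', hg.1, add_smul, add_assoc]⟩⟩
  inv_mem' := fun {g} hg => by
    have k : ∀ x, act g⁻¹ (act g x) = x := fun x => by rw [← act_mul, inv_mul_cancel, act_one]
    have h1 : act g⁻¹ v = v := by simpa only [hg.1] using k v
    refine ⟨h1, fun x => ?_⟩
    obtain ⟨c, e⟩ := hg.2 x
    have := k x
    rw [e, act_add, h1] at this
    exact ⟨-c, by rw [neg_smul, ← sub_eq_add_neg, eq_sub_iff_add_eq, this]⟩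

/-- inverse transpose -/
def invT : SL3 F →* SL3 F where
  toFun g := (g⁻¹).transpose
  map_one' := Subtype.ext (by simp [SpecialLinearGroup.transpose])
  map_mul' g h := Subtype.ext (by
    rw [_root_.mul_inv_rev]; exact transpose_mul _ _)

/-- elations with axis `φ ⬝ᵥ x = 0` -/
def cL (φ : Fin 3 → F) : Subgroup (SL3 F) := (cP φ).comap invT

def PP (F : Type) [Field F] : Set (Subgroup (ProjectiveSpecialLinearGroup (Fin 3) F)) :=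
  {E | ∃ v : Fin 3 → F, v ≠ 0 ∧ E = (cP v).map (QuotientGroup.mk' _)}

def LL (F : Type) [Field F] : Set (Subgroup (ProjectiveSpecialLinearGroup (Fin 3) F)) :=
  {E | ∃ φ : Fin 3 → F, φ ≠ 0 ∧ E = (cL φ).map (QuotientGroup.mk' _)}

end Model

def JobMA : Prop := ∀ (F : Type) [Field F] [Fintype F] (m : ℕ), 1 ≤ m → Fintype.card F = 2 ^ m →
  HA ⊤ (PP F) (LL F) (2 ^ m)

def JobMB : Prop := ∀ (F : Type) [Field F] [Fintype F] (m : ℕ), 1 ≤ m → Fintype.card F = 2 ^ m →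
  HB ⊤ (PP F) (LL F) m

/-- simplicity and the graph automorphism -/
def JobMD : Prop := ∀ (F : Type) [Field F] [Fintype F],
  IsSimpleGroup (ProjectiveSpecialLinearGroup (Fin 3) F) ∧
  ∃ σ : MulAut (ProjectiveSpecialLinearGroup (Fin 3) F),
    (fun E => Subgroup.map σ.toMonoidHom E) '' PP F = LL F ∧
    (fun E => Subgroup.map σ.toMonoidHom E) '' LL F = PP F

/-! ### Jobs -/

def JobCase : Prop := ∀ (G : Type u) (Ω : Type v) [Group G] [Finite G] [MulAction G Ω]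
  (N : Ω → Subgroup G) (m : ℕ), Hp N m → CB N ∨ ∃ P L x, CP N P L x m

def JobB1 : Prop := ∀ (G : Type u) (Ω : Type v) [Group G] [Finite G] [MulAction G Ω]
  (N : Ω → Subgroup G) (m : ℕ), Hp N m → CB N → FF N

def JobB2 : Prop := ∀ (G : Type u) (Ω : Type v) [Group G] [Finite G] [MulAction G Ω]
  (N : Ω → Subgroup G) (m : ℕ), Hp N m → CB N → FF N → LN N

def JobB3 : Prop := ∀ (G : Type u) (Ω : Type v) [Group G] [Finite G] [MulAction G Ω]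
  (N : Ω → Subgroup G) (m : ℕ), Hp N m → CB N → ¬ LN N

def JobP1 : Prop := ∀ (G : Type u) (Ω : Type v) [Group G] [Finite G] [MulAction G Ω]
  (N : Ω → Subgroup G) (P L : Ω → Set (Subgroup G)) (x : Ω → Ω → Subgroup G) (m : ℕ),
  Hp N m → CP N P L x m → EQ L x

def JobPG : Prop := ∀ (G : Type u) (Ω : Type v) [Group G] [Finite G] [MulAction G Ω]
  (N : Ω → Subgroup G) (P L : Ω → Set (Subgroup G)) (x : Ω → Ω → Subgroup G) (m : ℕ),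
  Hp N m → CP N P L x m → EQ L x → ∃ f, GK N P L (2 ^ m) f

def JobPS : Prop := ∀ (G : Type u) (Ω : Type v) [Group G] [Finite G] [MulAction G Ω]
  (N : Ω → Subgroup G) (P L : Ω → Set (Subgroup G)) (x : Ω → Ω → Subgroup G) (m f : ℕ),
  Hp N m → CP N P L x m → GK N P L (2 ^ m) f → f = 2 ^ m ∨ (m = 2 ∧ f = 2)

def JobAf : Prop := ∀ (G : Type u) (Ω : Type v) [Group G] [Finite G] [MulAction G Ω]
  (N : Ω → Subgroup G) (P L : Ω → Set (Subgroup G)) (x : Ω → Ω → Subgroup G) (m : ℕ),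
  Hp N m → CP N P L x m → GK N P L (2 ^ m) (2 ^ m) → Aff G Ω

def JobTr : Prop := ∀ (G : Type u) (Ω : Type v) [Group G] [Finite G] [MulAction G Ω]
  (N : Ω → Subgroup G) (P L : Ω → Set (Subgroup G)) (x : Ω → Ω → Subgroup G) (m : ℕ),
  Hp N m → CP N P L x m → GK N P L (2 ^ m) (2 ^ m) →
  Odd m ∧ ∀ a c d : Ω, c ≠ a → d ≠ a → ∃ g ∈ N a, g • c = d

def JobM22 : Prop := ∀ (G : Type u) (Ω : Type v) [Group G] [Finite G] [MulAction G Ω]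
  (N : Ω → Subgroup G) (P L : Ω → Set (Subgroup G)) (x : Ω → Ω → Subgroup G),
  Hp N 2 → CP N P L x 2 → GK N P L (2 ^ 2) 2 →
  (∀ a c d : Ω, c ≠ a → d ≠ a → ∃ g ∈ N a, g • c = d) ∧
    (Spor.IsoM22 G ∨ ∃ H : Subgroup G, H.index = 2 ∧ Spor.IsoM22 H)

end H82.HP
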