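import Cfsg.Agent.H82.HPKit

/-! HP tower: the job `JobTr`. -/

set_option autoImplicit false

namespace H82.HP

open MulAction Cfsg Subgroup H89.K H98 H82.TP H82.HR

universe u v

variable {G : Type u} {Ω : Type v} [Group G] [MulAction G Ω] {N : Ω → Subgroup G} {m : ℕ}
  {a b c : Ω} {P L : Ω → Set (Subgroup G)} {x : Ω → Ω → Subgroup G} {p p' r l U : Subgroup G} {g d : G}

theorem smul_mem_Fx (g : G) (h : c ∈ Fx Ω U) : g • c ∈ Fx Ω (cj g U) := by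
  rintro _ ⟨y, hy, rfl⟩
  show (g * y * g⁻¹) • g • c = g • c
  rw [mul_smul, inv_smul_smul, mul_smul, h y hy]

theorem conj_mem_zpowers {D : Subgroup G} [Finite G] (hD : IsCyclic D) (hg : g ∈ nor D) (hd : d ∈ D) :
    g⁻¹ * d * g ∈ zpowers d := by
  obtain ⟨δ, hδ⟩ := hD.exists_generator
  obtain ⟨j, e⟩ := hδ ⟨d, hd⟩
  obtain ⟨k, e'⟩ := hδ ⟨_, conj_mem_of_mem_normalizer' hg δ.2⟩
  have e1 : (δ : G) ^ j = d := congrArg Subtype.val e
  have e2 : (δ : G) ^ k = g⁻¹ * δ * g := congrArg Subtype.val e'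
  refine ⟨k, ?_⟩
  have := conj_zpow (a := g⁻¹) (b := (δ : G)) (i := j)
  rw [inv_inv] at this
  show d ^ k = _
  rw [← e1, ← this, ← e2, ← zpow_mul, ← zpow_mul, mul_comm]

variable [Finite G] (H : Hp N m) (C : CP N P L x m) (K : GK N P L (2 ^ m) (2 ^ m))
include H C K

/-- the torus is semiregular on the block of `p` -/
theorem tor_free (hl : l ∈ L a) (hp : p ∈ P a) (hp' : p' ∈ P a) (hr : r ∈ P a) (ne : p ≠ p')
    (i : Inc p l) (i' : Inc p' l) (n : ¬ Inc r l) (hd : d ∈ DT (P a) l p p' r) (hb : b ∈ Fx Ω p)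
    (nb : b ≠ a) (e : d • b = b) : d = 1 := by
  have := H.t2.finite
  have h := C.pl a
  obtain ⟨t1, t2, ⟨w, w1, w2, w3, w4⟩, -⟩ := h.b.tor l hl p hp p' hp' r hr ne i i' n
  have wa : w • a = a := H.le a (h.symm.MM_le w1)
  have dN : d ∈ N a := h.symm.MM_le hd.1.1.1
  have da : d • a = a := H.le a dN
  have dl : cj d l = l := cj_eq_self (h.symm.MM_nor hl hd.1.1.1)
  have wD : w ∈ nor (DT (P a) l p p' r) := cj_eq_self_iff.1 (by
    simp only [DT, cj_inf, cj_normalizer, w2, w3, w4, cj_eq_self_of_mem w1]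
    rw [inf_assoc (MM _ _), inf_comm (normalizer _), ← inf_assoc])
  have e' : d • w • b = w • b := by
    have : w⁻¹ * d * w ∈ stabilizer G b := zpowers_le.2 e (conj_mem_zpowers t1 wD hd)
    rwa [mem_stabilizer_iff, mul_smul, mul_smul, inv_smul_eq_iff] at this
  have hb' : w • b ∈ Fx Ω p' := w2 ▸ smul_mem_Fx w hb
  have nb' : w • b ≠ a := fun e => nb (smul_left_cancel w (e.trans wa.symm))
  generalize w • b = b' at e' hb' nb'
  have uq : ∀ {c c' : Ω} {s s' : Subgroup G}, c ≠ c' → s ∈ P c → s' ∈ P c → c' ∈ Fx Ω s →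
      c' ∈ Fx Ω s' → s = s' := fun {c c' s s'} n h1 h2 h3 h4 =>
    (K.line c c' n).unique ⟨h1, (K.memP c s h1 c').2 h3⟩ ⟨h2, (K.memP c s' h2 c').2 h4⟩
  have nbb : b ≠ b' := fun e => ne (uq nb.symm hp hp' hb (e ▸ hb'))
  obtain ⟨t, ⟨s1, s2⟩, s3⟩ := K.line b b' nbb
  have dt : cj d t = t := s3 _ ⟨e ▸ C.equiP d b t s1, e' ▸ C.equiP d b' t s2⟩
  have lb := (K.memL a l hl b).2 (K.sub a p hp l hl i hb)
  have tb := (K.memP b t s1 b).1 s1
  have tb' := (K.memP b t s1 b').1 s2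
  have tl := K.sub b t s1 l lb (K.inc b t s1 l lb b' tb' (K.sub a p' hp' l hl i' hb') nbb.symm)
  have ta : ∀ c ∈ Fx Ω t, a ≠ c := fun c hc e => by
    have := (K.memP b t s1 a).2 (e ▸ hc)
    exact ne ((uq nb.symm hp this hb tb).trans (uq nb'.symm this hp' tb' hb'))
  have xc : ∀ c, a ≠ c → c ∈ Fx Ω (x a c) := fun c n =>
    ((C.pl a).self_le (C.mem a c n)).trans (C.le a c n)
  have c1 : {s | s ∈ P a ∧ Inc s l} \ {s | Disjoint (Fx Ω s) (Fx Ω t)} = x a '' Fx Ω t := by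
    ext s
    constructor
    · rintro ⟨h1, h2⟩
      obtain ⟨c, h3, h4⟩ := Set.not_disjoint_iff.1 h2
      exact ⟨c, h4, uq (ta c h4) (C.mem a c (ta c h4)) h1.1 (xc c (ta c h4)) h3⟩
    · rintro ⟨c, hc, rfl⟩
      exact ⟨⟨C.mem a c (ta c hc), K.inc a _ (C.mem a c (ta c hc)) l hl c (xc c (ta c hc)) (tl hc)
        (ta c hc).symm⟩, Set.not_disjoint_iff.2 ⟨c, xc c (ta c hc), hc⟩⟩
  have c2 := Set.ncard_inter_add_ncard_sdiff_eq_ncard {s | s ∈ P a ∧ Inc s l}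
    {s | Disjoint (Fx Ω s) (Fx Ω t)}
  rw [c1, h.a.cI l hl, Set.InjOn.ncard_image fun c hc c' hc' e => by_contra fun n => by
    have h1 := (K.memP a _ (C.mem a c (ta c hc)) c).2 (xc c (ta c hc))
    have := uq n h1 ((K.memP b t s1 c).2 hc) (e ▸ xc c' (ta c' hc')) hc'
    exact ta a (this ▸ (K.memP a _ (C.mem a c (ta c hc)) a).1 (C.mem a c (ta c hc))) rfl,
    K.cF b t s1] at c2
  obtain ⟨s, hs⟩ := Set.ncard_eq_one.1 (show _ = 1 by omega : ({s | s ∈ P a ∧ Inc s l} ∩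
    {s | Disjoint (Fx Ω s) (Fx Ω t)}).ncard = 1)
  obtain ⟨⟨u1, u2⟩, u3⟩ := hs.ge rfl
  have u4 : cj d s = s := hs.le ⟨⟨h.a.inv d dN s u1, dl ▸ (inc_cj d).2 u2⟩,
    Set.disjoint_left.2 fun c h1 h2 => Set.disjoint_left.1 u3 (cj_inv_cj d s ▸ smul_mem_Fx d⁻¹ h1)
      (cj_inv_cj d t ▸ smul_mem_Fx d⁻¹ (dt.symm ▸ h2))⟩
  have n1 : s ≠ p := fun e => Set.disjoint_left.1 u3 (e ▸ hb) tb
  have n2 : s ≠ p' := fun e => Set.disjoint_left.1 u3 (e ▸ hb') tb'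
  exact (t2 s u1 s u1 u2 u2 n1 n2 n1 n2).unique ⟨hd, u4⟩ ⟨one_mem _, cj_one s⟩

theorem tor_tr (hp : p ∈ P a) (hb : b ∈ Fx Ω p) (nb : b ≠ a) (hc : c ∈ Fx Ω p) (nc : c ≠ a) :
    ∃ g ∈ N a, g • b = c := by
  have := H.t2.finite
  have h := C.pl a
  obtain ⟨l, hl, i, -⟩ := h.symm.third hp ⊥ ⊥
  obtain ⟨p', hp', i', ne, -⟩ := h.third hl p p
  obtain ⟨r, hr, n⟩ := h.exists_off hl
  obtain ⟨s, hs, j, n1, n2⟩ := h.third hl p p'
  have t2 := (h.b.tor l hl p hp p' hp' r hr ne.symm i.symm i' n).2.1 s hs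
  choose δ h1 h2 using fun t : ↥(({s | s ∈ P a ∧ Inc s l} \ {p}) \ {p'}) =>
    (t2 t t.2.1.1.1 j t.2.1.1.2 n1 n2 t.2.1.2 t.2.2).exists
  have dN : ∀ t, δ t ∈ N a := fun t => h.symm.MM_le (h1 t).1.1.1
  let f : ↥(({s | s ∈ P a ∧ Inc s l} \ {p}) \ {p'}) → ↥(Fx Ω p \ {a}) := fun t =>
    ⟨δ t • b, cj_eq_self (h1 t).1.1.2 ▸ smul_mem_Fx _ hb,
      fun e => nb (smul_left_cancel _ ((show _ = a from e).trans (H.le a (dN t)).symm))⟩
  have inj : Function.Injective f := fun t t' e => Subtype.ext (by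
    have := tor_free H C K hl hp hp' hr ne.symm i.symm i' n (mul_mem (inv_mem (h1 t')) (h1 t)) hb nb
      (by rw [mul_smul, inv_smul_eq_iff]; exact congrArg Subtype.val e)
    rw [← h2 t, ← h2 t', inv_mul_eq_one.1 this])
  obtain ⟨t, e⟩ := ((Nat.bijective_iff_injective_and_card f).2 ⟨inj, by
    rw [Nat.card_coe_set_eq, Nat.card_coe_set_eq, Set.ncard_sdiff_singleton_of_mem
      (show p' ∈ {s | s ∈ P a ∧ Inc s l} \ {p} from ⟨⟨hp', i'⟩, ne⟩), Set.ncard_sdiff_singleton_of_mem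
      (show p ∈ {s | s ∈ P a ∧ Inc s l} from ⟨hp, i.symm⟩), h.a.cI l hl,
      Set.ncard_sdiff_singleton_of_mem ((K.memP a p hp a).1 hp), K.cF a p hp]
    rfl⟩).2 ⟨c, hc, nc⟩
  exact ⟨δ t, dN t, congrArg Subtype.val e⟩

omit H C K

theorem jobTr : JobTr.{u, v} := fun G Ω _ _ _ N P L x m H C K => by
  refine ⟨Nat.not_even_iff_odd.1 fun ev => ?_, fun a c d nc nd => ?_⟩
  · obtain ⟨a, b, -, nb, -⟩ := H.t2.big
    obtain ⟨p, ⟨hp, pb⟩, -⟩ := K.line a b nb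
    have h := C.pl a
    obtain ⟨l, hl, i, -⟩ := h.symm.third hp ⊥ ⊥
    obtain ⟨p', hp', i', ne, -⟩ := h.third hl p p
    obtain ⟨r, hr, n⟩ := h.exists_off hl
    obtain ⟨d, h1, h2, h3⟩ := Inc.exists ((h.b.tor l hl p hp p' hp' r hr ne.symm i.symm i' n).2.2.2 ev)
    have hb := (K.memP a p hp b).1 pb
    exact h3 (tor_free H C K hl hp hp' hr ne.symm i.symm i' n h1 hb nb.symm (K.fixM a p hp d h2 b hb))
  · obtain ⟨p, ⟨hp, pc⟩, -⟩ := K.line a c nc.symm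
    obtain ⟨p', ⟨hp', pd⟩, -⟩ := K.line a d nd.symm
    obtain ⟨g, hg, rfl⟩ := (C.pl a).trP hp hp'
    obtain ⟨k, hk, e⟩ := tor_tr H C K hp' (smul_mem_Fx g ((K.memP a p hp c).1 pc))
      (fun e => nc (smul_left_cancel g (e.trans (H.le a hg).symm))) ((K.memP a _ hp' d).1 pd) nd
    exact ⟨k * g, mul_mem hk hg, by rw [mul_smul, e]⟩

end H82.HP
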