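import Cfsg.Agent.H89.ON2Spec
import Cfsg.Agent.H99.BEHub
import Cfsg.Agent.H51.ZDIIE
import Cfsg.Agent.H69.BSFinal
import Cfsg.Agent.H82.Hub
import Cfsg.Agent.H99.SPE
import Cfsg.Agent.H1.CoprimeGen

/-! Tower ON2, job `JobEven`. -/

set_option autoImplicit false

namespace H82.ON

open MulAction Cfsg Subgroup H89.K H98 H89.ON2

universe u

theorem gen_of_prime {G : Type*} [Group G] [Finite G] {g y : G} (hp : (orderOf g).Prime)
    (hy : y ∈ zpowers g) (h1 : y ≠ 1) : g ∈ zpowers y :=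
  (eq_of_le_of_card_ge (zpowers_le.2 hy) (by
    rw [Nat.card_zpowers, Nat.card_zpowers, (hp.eq_one_or_self_of_dvd _
      (orderOf_dvd_of_mem_zpowers hy)).resolve_left (mt orderOf_eq_one_iff.1 h1)])).ge (mem_zpowers g)

theorem exists_invol {G : Type*} [Group G] [Finite G] {A : Subgroup G} (h : 2 ∣ Nat.card A) :
    ∃ z ∈ A, z ≠ 1 ∧ z * z = 1 := by
  obtain ⟨z, hz⟩ := exists_prime_orderOf_dvd_card' 2 h
  refine ⟨z, z.2, fun e => ?_, by
    rw [← sq, ← coe_pow, ← hz, pow_orderOf_eq_one, coe_one]⟩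
  rw [show z = 1 from Subtype.ext e, orderOf_one] at hz
  omega

theorem even_core {G Ω : Type u} [Group G] [Finite G] [MulAction G Ω] [FaithfulSMul G Ω] {a : Ω}
    {t : G} {Q : Subgroup G} (hS : IsRankOneSetup G Ω a t Q) (hr : H69.TwoRank G)
    (M : Ω → Subgroup G) (conj : ∀ (g : G) (c : Ω), ∀ x ∈ M c, g * x * g⁻¹ ∈ M (g • c))
    (ti : ∀ x ∈ M a, x ∈ M (t • a) → x = 1) {k : G} (hk : k ∈ M a) (ka : k • a = a)
    (kb : k • t • a = t • a) (hp : (orderOf k).Prime) : False := by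
  have hQ := (H69.thmA G Ω a t Q hS hr).1
  have tt := H69.RO.tt_smul hS
  have ti' := H69.RO.t_inv hS
  obtain ⟨l, hl⟩ : ∃ l, l = t * k * t⁻¹ := ⟨_, rfl⟩
  have lM : l ∈ M (t • a) := hl ▸ conj t a k hk
  have lb : l • t • a = t • a := hl ▸ conj_smul_eq.2 ka
  have la : l • a = a := by
    have := (conj_smul_eq (g := t)).2 kb
    rwa [tt, ← hl] at this
  have cm : ∀ c, c • a = a → k * c * k⁻¹ * c⁻¹ ∈ M a := fun c hc => by
    have := conj c a _ (inv_mem hk)
    rw [hc] at this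
    simpa only [mul_assoc] using mul_mem hk this
  have kl : k * l = l * k := commutatorElement_eq_one_iff_mul_comm.1 (ti _ (cm l la)
    (mul_mem (by simpa only [kb] using conj k _ l lM) (inv_mem lM)))
  have tl : t * l * t⁻¹ = k := by
    rw [hl, ti']; simp only [← mul_assoc, hS.mul_self, one_mul]; rw [mul_assoc, hS.mul_self, mul_one]
  obtain ⟨C, hC, -, nC⟩ := H69.RO.K_cyclic_normal hS hr H69.ft
  have mC : ∀ c, c ∈ C ↔ c ∈ invertedBy (stabilizer G a ⊓ stabilizer G (t • a)) t := fun c =>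
    Set.ext_iff.1 hC c
  have kc : ∀ c ∈ C, k * c = c * k := fun c hc => by
    have h1 := cm c ((mC c).1 hc).1.1
    have h2 := ((mC _).1 (mul_mem (nC k ⟨ka, kb⟩ c hc) (inv_mem hc))).2
    exact commutatorElement_eq_one_iff_mul_comm.1 (ti _ h1 (inv_mem_iff.1 (h2 ▸ conj t a _ h1)))
  have lc : ∀ c ∈ C, l * c = c * l := fun c hc => by
    have h1 := kc _ (inv_mem hc)
    rw [← ((mC c).1 hc).2, ← tl] at h1
    rwa [conj_mul, conj_mul, mul_left_inj, mul_right_inj] at h1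
  have αI : k * l ∈ centralizer (involutionsIn (stabilizer G a : Set G)) :=
    ((H69.RO.mem_W_iff hS).1 ⟨⟨⟨mul_mem ka la, mul_mem kb lb⟩,
      mem_centralizer_singleton_iff.2 (by
        rw [eq_comm, ← mul_inv_eq_iff_eq_mul, ← conj_mul, ← hl, tl, kl])⟩, fun c hc => by
      rw [← mul_assoc, ← kc c ((mC c).2 hc), mul_assoc, ← lc c ((mC c).2 hc), mul_assoc]⟩).2
  have k1 : k ≠ 1 := fun e => Nat.not_prime_one (by rwa [e, orderOf_one] at hp)
  have kD : k ∈ stabilizer G a ⊓ stabilizer G (t • a) := ⟨ka, kb⟩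
  have lD : l ∈ stabilizer G a ⊓ stabilizer G (t • a) := ⟨la, lb⟩
  have β := fun q => H69.RO.eq_one_of_K_comm_Q (q := q) hS (k := k * l⁻¹) ⟨mul_mem kD (inv_mem lD), by
    rw [← conj_mul, ← conj_inv, ← hl, tl, mul_inv_rev, inv_inv]⟩
    fun e => k1 (ti k hk (mul_inv_eq_one.1 e ▸ lM))
  have α1 : k * l ≠ 1 := fun e => k1 (ti k hk (eq_inv_of_mul_eq_one_left e ▸ inv_mem lM))
  have := Fact.mk hp
  have lp : l ^ orderOf k = 1 := by rw [hl, conj_pow, pow_orderOf_eq_one, mul_one, mul_inv_cancel]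
  have αp : orderOf (k * l) = orderOf k := orderOf_eq_prime (by
    rw [Commute.mul_pow kl, pow_orderOf_eq_one, lp, mul_one]) α1
  have cα : Commute k (k * l) := by rw [Commute, SemiconjBy, mul_assoc, kl]
  obtain ⟨A1, A2, A3⟩ := H99.exists_noncyclic_of_commute rfl αp cα fun r => k1 (by
    have : l = 1 := ti l ((mul_mem_cancel_left hk).1 (zpowers_le.2 hk r)) lM
    rw [← tl, this, mul_one, mul_inv_cancel])
  have key := H1.le_of_noncyclic_centralizer_le (K := Q) A3 (fun x hx => mem_normalizer_fintype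
    (hS.conj_mem x (sup_le (zpowers_le.2 ka) (zpowers_le.2 (mul_mem ka la)) hx)))
    (IsPGroup.coprime_card_of_ne _ 2 (fun e => by
      exact (H69.RO.odd_orderOf_of_mem_D hS ka kb).not_two_dvd_nat e.symm.dvd) _ _ A1 hQ) (centralizer {k * l})
    fun x hx x1 => by
      by_cases e : Q ⊓ centralizer {x} = ⊥
      · exact e.le.trans bot_le
      obtain ⟨i, hi, i1, i2⟩ := exists_invol (A := Q ⊓ centralizer {x})
        ((hQ.to_inf_left.card_eq_or_dvd).resolve_left (mt card_eq_one.1 e))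
      obtain ⟨y, hy, z, hz, rfl⟩ := (mem_sup_left_norm (zpowers_le.2 (centralizer_le_normalizer _
        (by rw [zpowers_eq_closure, centralizer_closure]; exact mem_centralizer_singleton_iff.2 cα)))).1 hx
      have c1 : k * l ∈ centralizer {i} := mem_centralizer_singleton_iff.2
        (αI i ⟨hS.le hi.1, i1, i2⟩).symm
      by_cases y1 : y = 1
      · rw [y1, one_mul] at x1 ⊢
        exact fun c hc => mem_centralizer_singleton_iff.2 (mem_centralizer_singleton_iff.1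
          (zpowers_le.2 (mem_centralizer_singleton_iff.2 (mem_centralizer_singleton_iff.1 hc.2).symm)
            (gen_of_prime (αp ▸ hp) hz x1))).symm
      have c2 : k ∈ centralizer {i} := zpowers_le.2 ((mul_mem_cancel_right (zpowers_le.2 c1 hz)).1
        (mem_centralizer_singleton_iff.2 (mem_centralizer_singleton_iff.1 hi.2).symm))
        (gen_of_prime hp hy y1)
      exact absurd (β i hi.1
        (mem_centralizer_singleton_iff.1 (mul_mem c2 (inv_mem ((mul_mem_cancel_left c2).1 c1))))) i1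
  refine α1 (eq_of_smul_eq_smul (α := Ω) fun c => ?_)
  rw [one_smul]
  by_cases e : c = a
  · rw [e, mul_smul, la, ka]
  obtain ⟨q, hq, rfl⟩ := H69.RO.exists_Q_smul_ta hS e
  exact H89.K.fix_of_comm (mem_centralizer_singleton_iff.1 (key hq)) (by rw [mul_smul, lb, kb])

theorem jobEven : H89.ON2.JobEven.{u} := fun G Ω _ _ _ N a b h hab ho he => by
  have odd : ∀ {c d : Ω} {z : G}, z ∈ N c → z * z = 1 → z ≠ 1 → z • d = d → c = d :=
    fun {c d z} hz h2 h1 hd => by_contra fun ne => by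
      have := orderOf_dvd_natCard (⟨z, hz, hd⟩ : X N c d)
      rw [← orderOf_coe, orderOf_eq_prime (p := 2) (by rw [sq, h2]) h1, h.card_X ne hab] at this
      exact ho.not_two_dvd_nat this
  let Z : Set G := {z | z ≠ 1 ∧ z * z = 1 ∧ ∃ c, z ∈ N c}
  have cZ : ∀ z ∈ Z, ∀ g : G, g * z * g⁻¹ ∈ Z := fun z ⟨h1, h2, c, h3⟩ g =>
    ⟨by simpa using h1, by rw [conj_mul, h2, mul_one, mul_inv_cancel], _, h.conj g c z h3⟩
  obtain ⟨z, hz, z1, z2⟩ := exists_invol he.two_dvd
  have zZ : z ∈ Z := ⟨z1, z2, a, hz⟩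
  have hn : (closure Z).Normal := ⟨fun x hx g => (closure_le _).2
    (show Z ⊆ (closure Z).comap (MulAut.conj g).toMonoidHom from
      fun y hy => subset_closure (cZ y hy g)) hx⟩
  have tr := h.t2.normal_trans (closure Z) fun e => z1 (mem_bot.1 (e.le (subset_closure zZ)))
  have ot : OT (closure Z) Ω := H51.ZD.zdThm (closure Z) Ω (Subtype.val ⁻¹' Z)
    ⟨fun y hy g => cZ y hy g, fun y hy e => hy.1 (congrArg Subtype.val e),
      fun y hy => Subtype.ext hy.2.1,
      fun y ⟨h1, h2, c, h3⟩ => ⟨c, h.fix c y h3, fun d hd => (odd h3 h2 h1 hd).symm⟩,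
      fun y ⟨h1, h2, c, h3⟩ w ⟨h4, h5, d, h6⟩ ne e f g hf hg => by
        have e' : (y : G) * w = w * y := congrArg Subtype.val e
        obtain rfl := odd h3 h2 h1 (h.fixc h6 h4 e')
        have s : (y : G) * w * (y * w) = 1 := by
          rw [mul_assoc, ← mul_assoc (w : G), ← e', mul_assoc, h5, mul_one, h2]
        have n : (y : G) * w ≠ 1 := fun r => ne (Subtype.ext (mul_left_cancel (h2.trans r.symm)))
        exact (odd (mul_mem h3 h6) s n hf).symm.trans (odd (mul_mem h3 h6) s n hg)⟩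
    ⟨⟨z, subset_closure zZ⟩, zZ⟩ ⟨fun c d => let ⟨n, h1, h2⟩ := tr c d; ⟨⟨n, h1⟩, h2⟩⟩ ⟨a, b, hab⟩
    (fun g hg => Subtype.ext (h.t2.faith g hg)) closure_closure_coe_preimage
  obtain ⟨p, hp, pd⟩ := Nat.exists_prime_and_dvd (mt card_eq_one.1 (h.ne hab))
  have := Fact.mk hp
  obtain ⟨⟨k, hk⟩, ko⟩ := exists_prime_orderOf_dvd_card' p pd
  rw [← orderOf_coe] at ko
  have inv : ∀ s ∈ closure Z ⊔ zpowers k, s * s = 1 → s ∈ closure Z := fun s hs h2 => by
    have h3 : (s : G ⧸ closure Z) ∈ zpowers (k : G ⧸ closure Z) := by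
      obtain ⟨y, hy, _, ⟨i, rfl⟩, rfl⟩ := mem_sup_of_normal_left.1 hs
      rw [QuotientGroup.mk_mul, (QuotientGroup.eq_one_iff y).2 hy, one_mul]
      exact ⟨i, rfl⟩
    have h4 := (orderOf_dvd_of_mem_zpowers h3).trans (orderOf_map_dvd (QuotientGroup.mk' _) k)
    rw [show orderOf k = p from ko] at h4
    refine (QuotientGroup.eq_one_iff s).1 (orderOf_eq_one_iff.1 (Nat.eq_one_of_dvd_coprimes
      ((Nat.coprime_primes hp Nat.prime_two).2 fun e => ho.not_two_dvd_nat (e ▸ pd)) h4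
      (orderOf_dvd_of_pow_eq_one ?_)))
    rw [sq, ← QuotientGroup.mk_mul, h2, QuotientGroup.mk_one]
  have hr : H69.TwoRank ↥(closure Z ⊔ zpowers k) := by_contra fun r => h.naff (h.t2.aff_of_isolated
    ⟨orderOf_eq_prime (by rw [sq, z2]) z1, fun g c => by_contra fun ne => r
      ⟨⟨z, mem_sup_left (subset_closure zZ)⟩, ⟨_, mem_sup_left (subset_closure (cZ z zZ g))⟩,
        fun e => z1 (congrArg Subtype.val e), fun e => (cZ z zZ g).1 (congrArg Subtype.val e),
        fun e => ne (congrArg Subtype.val e).symm, Subtype.ext z2, Subtype.ext (cZ z zZ g).2.1,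
        Subtype.ext c⟩⟩)
  have fa : ∀ g : ↥(closure Z ⊔ zpowers k), (∀ c : Ω, g • c = c) → g = 1 :=
    fun g hg => Subtype.ext (h.t2.faith g hg)
  obtain ⟨t, Q, hS⟩ := H99.setup_of_hub (G := ↥(closure Z ⊔ zpowers k)) H82.hub
    ⟨fun s h1 h2 => ot ⟨s, inv s s.2 (congrArg Subtype.val h2)⟩
    (fun e => h1 (Subtype.ext (congrArg Subtype.val e :))) (Subtype.ext (congrArg Subtype.val h2 :)),
    ⟨fun c d => let ⟨n, h1, h2⟩ := tr c d; ⟨⟨n, mem_sup_left h1⟩, h2⟩⟩, ⟨a, b, hab⟩, fa, hr⟩ a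
  have : FaithfulSMul ↥(closure Z ⊔ zpowers k) Ω := ⟨fun {x y} e => mul_inv_eq_one.1
    (fa _ fun c => by rw [mul_smul, e, smul_inv_smul])⟩
  have ta := H69.RO.ta_ne hS
  obtain ⟨m, m1, m2⟩ := H69.exists_smul_pair hS.two_transitive hab ta.symm
  let k' : ↥(closure Z ⊔ zpowers k) := ⟨k, mem_sup_right (mem_zpowers k)⟩
  have hk' := h.conj_X m hk
  rw [show (m : G) • a = a from m1, show (m : G) • b = t • a from m2] at hk'
  exact even_core hS hr (fun c => (N c).subgroupOf _) (fun g c x hx => h.conj g c x hx)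
    (fun x h1 h2 => Subtype.ext (h.ti ta.symm x h1 h2)) (k := m * k' * m⁻¹) hk'.1 (h.fix a _ hk'.1)
    hk'.2 (by
      rw [← MulAut.conj_apply, MulEquiv.orderOf_eq, ← orderOf_coe]
      exact (show orderOf k = p from ko) ▸ hp)

end H82.ON
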