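import Cfsg.Agent.H82.OnLn
import Cfsg.Agent.H15.Elem

/-! Tower ON2, job `JobGeo1`. -/

set_option autoImplicit false

namespace H82.OL

open MulAction Cfsg Subgroup H89.K H98 H89.ON2
open scoped Pointwise IsMulCommutative

universe u

theorem jobGeo1 : JobGeo1.{u} := fun geo G Ω _ _ _ N F p a b H hab => by
  have h := H.toFZ
  have T := h.toTI
  have hp := h.prime
  have := Fact.mk hp
  have := T.t2.finite
  have ex : ∀ c : Ln N a b, ∃ k ∈ N c, k ≠ 1 ∧ ∀ e ∈ Ln N a b, k • e = e := fun c => by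
    obtain ⟨d, hd, cd⟩ := other h hab c
    obtain ⟨k, hk, k1⟩ := T.exists_ne cd
    exact ⟨k, hk.1, k1, fun e he => (ln h hab c.2 hd cd).ge he k hk⟩
  choose k kN k1 kf using ex
  have gen : ∀ c : Ln N a b, ∀ x ∈ N c, (∀ e ∈ Ln N a b, x • e = e) → ∃ n : ℕ, k c ^ n = x :=
    fun c x h1 h2 => by
      obtain ⟨d, hd, cd⟩ := other h hab c
      exact mem_powers_iff_mem_zpowers.2
        ((eq_zpowers hp (h.card cd) ⟨kN c, kf c d hd⟩ (k1 c)).ge ⟨h1, h2 d hd⟩)
  have kp : ∀ c, k c ^ p = 1 := fun c =>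
    let ⟨d, hd, cd⟩ := other h hab c; pow_card (h.card cd) ⟨kN c, kf c d hd⟩
  let B := closure (Set.range k)
  have kB : ∀ c, k c ∈ B := fun c => subset_closure ⟨c, rfl⟩
  have cB : IsMulCommutative B := isMulCommutative_closure (by
    rintro _ ⟨c, rfl⟩ _ ⟨d, rfl⟩
    by_cases e : c = d
    · rw [e]
    exact T.comm (fun r => e (Subtype.ext r)) ⟨kN c, kf c d d.2⟩ ⟨kN d, kf d c c.2⟩)
  have pB : ∀ x ∈ B, x ^ p = 1 := fun x hx => by
    induction hx using closure_induction with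
    | mem x hx => obtain ⟨c, rfl⟩ := hx; exact kp c
    | one => exact one_pow p
    | mul x y hx hy e e' => rw [Commute.mul_pow (setLike_mul_comm hx hy), e, e', mul_one]
    | inv x _ e => rw [inv_pow, e, inv_one]
  have fB : ∀ x ∈ B, ∀ e ∈ Ln N a b, x • e = e := fun x hx e he =>
    (closure_le (stabilizer G e)).2 (by rintro _ ⟨c, rfl⟩; exact kf c e he) hx
  have la := T.left_mem a b
  have hyp := fun L => H15.exists_hyperplane_not_le (K := F a) (L := L) hp ⟨cB, pB⟩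
    (fun e => k1 ⟨a, la⟩ (mem_bot.1 (e.le (kB _)))) (fun x hx => nF h (fB x hx a la))
    fun q hq hd e => h.cop a (e ▸ hd)
  obtain ⟨A₀, a1, a2, a3⟩ := hyp ⊥ fun e => h.fne a (eq_bot_iff.2 e)
  obtain ⟨A₁, b1, b2, b3⟩ := hyp (centralizer (A₀ : Set G)) fun e => by
    rw [show A₀ = ⊥ from eq_bot_iff.2 fun g hg => eq_one_of_cen h hab (fun f hf => (e hf g hg).symm)
      (fB g (a1 hg)), relIndex_bot_left] at a2
    exact k1 ⟨b, TI.right_mem a b⟩ (T.ti hab _ (zpowers_le.2 (kN ⟨a, la⟩)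
      ((eq_zpowers hp a2 (kB _) (k1 _)).ge (kB _))) (kN ⟨b, TI.right_mem a b⟩))
  have nk : ∀ A : Subgroup G, ¬ F a ⊓ centralizer (A : Set G) ≤ ⊥ → ∀ c, k c ∉ A := fun A hA c r => by
    obtain ⟨d, hd, cd⟩ := other h hab c
    exact hA fun f hf => fpf h hab c.2 hd cd ⟨kN c, kf c d hd⟩ (k1 c) hf.1 (hf.2 _ r).symm
  obtain ⟨_⟩ : Nonempty (Module (ZMod p) (Additive B)) := ⟨AddCommGroup.zmodModule fun x =>
    Additive.toMul.injective (Subtype.ext (pB _ x.toMul.2))⟩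
  have fn : ∀ A : Subgroup G, A.relIndex B = p → ∃ f : Additive B →ₗ[ZMod p] ZMod p,
      ∀ x : Additive B, f x = 0 ↔ (x.toMul : G) ∈ A := fun A hA => by
    let e : B ⧸ A.subgroupOf B ≃* Multiplicative (ZMod p) := mulEquivOfPrimeCardEq hA (by simp)
    refine ⟨(MonoidHom.toAdditiveLeft (e.toMonoidHom.comp (QuotientGroup.mk' _))).toZModLinearMap p,
      fun x => ?_⟩
    rw [← mem_subgroupOf, ← QuotientGroup.eq_one_iff, ← e.map_eq_one_iff,
      AddMonoidHom.coe_toZModLinearMap]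
    exact (toAdd_eq_zero (x := e x.toMul))
  obtain ⟨f₀, e₀⟩ := fn A₀ a2
  obtain ⟨f₁, e₁⟩ := fn A₁ b2
  let v : Ln N a b → Additive B := fun c => Additive.ofMul ⟨k c, kB c⟩
  have sm : ∀ (n : ℕ) c, ((((n : ZMod p) • v c).toMul : B) : G) = k c ^ n := fun n c => by
    rw [Nat.cast_smul_eq_nsmul]; rfl
  have st : ∀ y ∈ stabilizer G (Ln N a b), ∀ e ∈ Ln N a b, y • e ∈ Ln N a b := fun y hy e he =>
    (mem_stabilizer_set.1 hy e).2 he
  have cj : ∀ y (hy : y ∈ stabilizer G (Ln N a b)) (c : Ln N a b), ∃ n : ℕ,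
      k ⟨y • c, st y hy c c.2⟩ ^ n = y * k c * y⁻¹ := fun y hy c =>
    gen _ _ (T.conj y c _ (kN c)) fun e he => by
      rw [mul_smul, mul_smul, kf c _ (st _ (inv_mem hy) e he), smul_inv_smul]
  let Γ : Subgroup (Additive B ≃ₗ[ZMod p] Additive B) :=
    { carrier := {g | ∃ y ∈ stabilizer G (Ln N a b), ∀ x, ((g x).toMul : G) = y * x.toMul * y⁻¹}
      one_mem' := ⟨1, one_mem _, by simp⟩
      mul_mem' := fun ⟨y, hy, e⟩ ⟨z, hz, e'⟩ => ⟨y * z, mul_mem hy hz, fun x => by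
        rw [LinearEquiv.mul_apply, e, e']; group⟩
      inv_mem' := fun {g} ⟨y, hy, e⟩ => ⟨y⁻¹, inv_mem hy, fun x => by
        rw [← g.apply_symm_apply x, e, LinearEquiv.coe_inv, g.symm_apply_apply,
          ← g.apply_symm_apply x, g.symm_apply_apply]; group⟩ }
  have mk : ∀ y, (∀ e ∈ Ln N a b, y • e ∈ Ln N a b) → ∃ g ∈ Γ, (∀ x, ((g x).toMul : G) = y * x.toMul * y⁻¹) ∧
      ∀ c d : Ln N a b, y • (c : Ω) = d → ∃ s : ZMod p, g (v c) = s • v d := fun y hy => by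
    have hy' : y ∈ stabilizer G (Ln N a b) :=
      (mem_stabilizer_set_iff_smul_set_subset (Set.toFinite _)).2 (by rintro _ ⟨e, he, rfl⟩; exact hy e he)
    have nB : y ∈ normalizer (B : Set G) := mem_normalizer_of_cj_le (map_le_iff_le_comap.2
      ((closure_le _).2 (by
        rintro _ ⟨c, rfl⟩
        obtain ⟨n, hn⟩ := cj y hy' c
        exact (show y * k c * y⁻¹ ∈ B from hn ▸ pow_mem (kB _) n))))
    let e := MulEquiv.toAdditive (B.normalizerMonoidHom ⟨y, nB⟩)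
    refine ⟨e.toLinearEquiv (ZMod.map_smul e), ⟨y, hy', fun _ => rfl⟩, fun _ => rfl, fun c d r => ?_⟩
    obtain ⟨n, hn⟩ := cj y hy' c
    rw [show (⟨y • c, st y hy' c c.2⟩ : Ln N a b) = d from Subtype.ext r] at hn
    exact ⟨n, Additive.toMul.injective (Subtype.ext (hn.symm.trans (sm n d).symm))⟩
  rw [← Nat.card_coe_set_eq]
  refine geo p (Additive B) (Ln N a b) v Γ f₀ f₁ (fun i j ij c e => ?_) (eq_top_iff.2 ?_) ?_
    (fun i j i' j' ij ij' => ?_) (fun i r => nk A₀ a3 i ((e₀ _).1 r))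
    (fun i r => nk A₁ (fun e => b3 (e.trans bot_le)) i ((e₁ _).1 r)) (fun e => b3 ?_) fun i j => ?_
  · rw [← ZMod.natCast_zmod_val c] at e
    exact k1 i (T.ti (fun r => ij (Subtype.ext r)) _ (kN i)
      ((show k i = _ from (congrArg (fun x => (x.toMul : G)) e).trans (sm _ j)) ▸ pow_mem (kN j) _))
  · rintro ⟨x, hx⟩ -
    induction hx using closure_induction with
    | mem x hx => obtain ⟨c, rfl⟩ := hx; exact Submodule.subset_span ⟨c, rfl⟩
    | one => exact zero_mem _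
    | mul x y _ _ e e' => exact add_mem e e'
    | inv x _ e => exact neg_mem e
  · rintro g ⟨y, hy, e⟩ i
    obtain ⟨n, hn⟩ := cj y hy i
    exact ⟨_, n, Additive.toMul.injective (Subtype.ext ((e _).trans (hn.symm.trans (sm n _).symm)))⟩
  · have n1 : (i : Ω) ≠ j := fun r => ij (Subtype.ext r)
    have n2 : (i' : Ω) ≠ j' := fun r => ij' (Subtype.ext r)
    obtain ⟨y, y1, y2⟩ := T.t2.two n1 n2
    obtain ⟨g, hg, -, r⟩ := mk y fun e he => by
      have := T.smul_mem_Ln y ((ln h hab i.2 j.2 n1).ge he)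
      rwa [y1, y2, ln h hab i'.2 j'.2 n2] at this
    obtain ⟨c, hc⟩ := r i i' y1
    obtain ⟨d, hd⟩ := r j j' y2
    exact ⟨g, hg, c, d, hc, hd⟩
  · exact inf_le_right.trans (centralizer_anti fun x hx => (e₁ (Additive.ofMul ⟨x, a1 hx⟩)).1
      (e.le ((e₀ _).2 hx)))
  · obtain ⟨y, hy, y1, y2⟩ := flag h hab (fun g hg => fB g (a1 hg)) (fun e => a3 e.le) i.2 j.2
    obtain ⟨g, hg, r, s⟩ := mk y y2
    exact ⟨g, hg, fun x hx => Additive.toMul.injective (Subtype.ext (by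
      rw [r, ← hy _ ((e₀ x).1 hx), mul_inv_cancel_right])), s i j y1⟩

end H82.OL
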