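import Cfsg.Agent.H89.ON2Spec

/-! Tower ON2, job `JobGeo2`. -/

set_option autoImplicit false

namespace H82.OG

open Polynomial

universe u

variable {K : Type*} [Field K] {ι : Type*}

theorem poly [Fintype ι] {μ : ι → K} (inj : Function.Injective μ) (h0 : ∀ j, μ j ≠ 0) {n : ℕ}
    (hc : Fintype.card ι = n + 3) (he : ∀ j, μ j ^ (n + 3) = 1) (h1 : (n + 3 : K) ≠ 0)
    (h2 : (n + 2 : K) ≠ 0) {α β γ δ : K} (det : α * δ ≠ β * γ)
    (h : ∀ j, (γ + δ * μ j) ^ (n + 3) = (α + β * μ j) ^ (n + 3)) :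
    (α = 0 ∧ δ = 0) ∨ (γ = 0 ∧ β = 0) := by
  have lin : ∀ s t : K, ((C s + C t * X) ^ (n + 3)).natDegree ≤ n + 3 := fun s t =>
    natDegree_pow_le.trans (by
      have : (C s + C t * X).natDegree ≤ 1 := by compute_degree
      nlinarith)
  have R := eq_zero_of_natDegree_lt_card_of_eval_eq_zero
    ((C γ + C δ * X) ^ (n + 3) - (C α + C β * X) ^ (n + 3) +
      C (γ ^ (n + 3) - α ^ (n + 3)) * (X ^ (n + 3) - 1)) (f := fun o : Option ι => o.elim 0 μ)
    (by
      rintro (_ | i) (_ | j) e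
      exacts [rfl, absurd e.symm (h0 j), absurd e (h0 i), congrArg some (inj e)])
    (by rintro (_ | i) <;> simp [h, he]) (by
      rw [Fintype.card_option, hc, Nat.lt_succ_iff]
      refine natDegree_add_le_of_degree_le (natDegree_sub_le_of_le (lin _ _) (lin _ _) |>.trans
        (max_self _).le) ((natDegree_C_mul_le _ _).trans ?_)
      compute_degree)
  have e1 := congrArg (fun P => eval 0 (derivative P)) R
  have e2 := congrArg (fun P => eval 0 (derivative (derivative P))) R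
  simp [derivative_pow_succ, add_assoc] at e1 e2
  have a1 : δ * γ ^ (n + 2) = β * α ^ (n + 2) :=
    mul_left_cancel₀ h1 (by linear_combination e1)
  have a2 : δ ^ 2 * γ ^ (n + 1) = β ^ 2 * α ^ (n + 1) :=
    mul_left_cancel₀ (mul_ne_zero h1 h2) (by linear_combination e2)
  by_cases a : α = 0
  · refine .inl ⟨a, (mul_eq_zero.1 (a1.trans (by simp [a]))).resolve_right fun r => det ?_⟩
    simp [a, pow_eq_zero_iff'.1 r |>.1]
  by_cases c : γ = 0
  · exact .inr ⟨c, (mul_eq_zero.1 (a1.symm.trans (by simp [c]))).resolve_right (pow_ne_zero _ a)⟩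
  exfalso
  by_cases b : β = 0
  · exact det (by simpa [b, a, c] using a1)
  have a3 : γ ^ (n + 3) = α ^ (n + 3) := mul_left_cancel₀ (mul_ne_zero (pow_ne_zero 2 b)
    (pow_ne_zero (n + 1) a)) (by
      linear_combination (δ * γ ^ (n + 2) + β * α ^ (n + 2)) * a1 - γ ^ (n + 3) * a2)
  exact det (mul_right_cancel₀ (pow_ne_zero (n + 3) a)
    (by linear_combination α * γ * a1 - α * δ * a3))

variable {V : Type*} [AddCommGroup V] [Module K V] {v : ι → V} {Γ : Subgroup (V ≃ₗ[K] V)}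
  {f₀ f₁ : V →ₗ[K] K}

theorem form (h5 : ∀ i, f₀ (v i) = 1) {g : V ≃ₗ[K] V} (hg : ∀ x, f₀ x = 0 → g x = x) (i : ι) (x : V) :
    g x = x + f₀ x • (g (v i) - v i) := by
  have := hg (x - f₀ x • v i) (by simp [h5])
  rw [map_sub, map_smul, sub_eq_iff_eq_add] at this
  rw [this, smul_sub]
  abel

theorem step1 (hK : ∀ c : K, ∃ n : ℕ, n = c) (h2 : Submodule.span K (Set.range v) = ⊤)
    (h3 : ∀ g ∈ Γ, ∀ i, ∃ (j : ι) (c : K), g (v i) = c • v j)
    (h4 : ∀ i j i' j', i ≠ j → i' ≠ j' → ∃ g ∈ Γ, ∃ c d : K, g (v i) = c • v i' ∧ g (v j) = d • v j')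
    (h5 : ∀ i, f₀ (v i) = 1) (h6 : ∀ i, f₁ (v i) ≠ 0) (h7 : LinearMap.ker f₀ ≠ LinearMap.ker f₁)
    {g : V ≃ₗ[K] V} (hg : g ∈ Γ) (g0 : ∀ x, f₀ x = 0 → g x = x) (i : ι) (g1 : f₀ (g (v i)) = 1) :
    g (v i) = v i := by
  by_contra n
  have nz : ∀ (h : V ≃ₗ[K] V) i j (c : K), h (v i) = c • v j → c ≠ 0 := fun h i j c e r => by
    have := h5 i
    rw [r, zero_smul, LinearEquiv.map_eq_zero_iff] at e
    simp [e] at this
  obtain ⟨α, hα⟩ : ∃ α, α = g (v i) - v i := ⟨_, rfl⟩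
  have a0 : f₀ α = 0 := by simp [hα, g1, h5]
  have pw : ∀ n : ℕ, (g ^ n) (v i) = v i + (n : K) • α := fun n => by
    induction n with
    | zero => simp
    | succ n ih =>
      rw [pow_succ', LinearEquiv.mul_apply, ih, map_add, map_smul, g0 α a0, Nat.cast_succ, add_smul,
        one_smul, hα]
      abel
  have ln : ∀ c : K, ∃ k, v i + c • α = v k := fun c => by
    obtain ⟨n, rfl⟩ := hK c
    obtain ⟨k, d, e⟩ := h3 _ (pow_mem hg n) i
    rw [pw] at e
    have : d = 1 := by simpa [h5, a0] using (congrArg f₀ e).symm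
    exact ⟨k, by rw [e, this, one_smul]⟩
  obtain ⟨j, hj⟩ := ln 1
  have ij : i ≠ j := fun e => n (by rwa [← e, one_smul, add_eq_left, hα, sub_eq_zero] at hj)
  have key : ∀ i' j', f₁ (v i') = f₁ (v j') := fun i' j' => by_contra fun ne => by
    obtain ⟨h, hh, c, d, e1, e2⟩ := h4 i j i' j' ij fun e => ne (e ▸ rfl)
    have c0 := nz h _ _ _ e1
    have d0 := nz h _ _ _ e2
    have k : ∀ f : V →ₗ[K] K, (∀ i, f (v i) ≠ 0) → d * f (v j') = c * f (v i') := fun f hf => by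
      by_contra r
      obtain ⟨k, hk⟩ := ln (c * f (v i') / (c * f (v i') - d * f (v j')))
      obtain ⟨l, m, e⟩ := h3 h hh k
      refine mul_ne_zero (nz h _ _ _ e) (hf l) ?_
      rw [← smul_eq_mul, ← map_smul, ← e, ← hk, show α = v j - v i by rw [← hj]; simp]
      simp only [map_add, map_smul, map_sub, e1, e2, smul_eq_mul]
      field_simp [sub_ne_zero.2 (Ne.symm r)]
      ring
    have a := k f₀ fun i => by simp [h5]
    have b := k f₁ h6
    rw [h5, h5, mul_one, mul_one] at a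
    exact ne (mul_left_cancel₀ c0 (a ▸ b.symm))
  have : f₁ = f₁ (v i) • f₀ := LinearMap.ext_on_range h2 fun k => by simp [h5, key k i]
  exact h7 (by rw [this, LinearMap.ker_smul _ _ (h6 i)])

theorem core [Fintype ι] (hK : ∀ c : K, ∃ n : ℕ, n = c)
    (hp : ∀ n : ℕ, n ≠ 0 → n ≤ Fintype.card ι → (∃ μ : ι → K, Function.Injective μ ∧ ∀ j, μ j ≠ 0) →
      (n : K) ≠ 0)
    (h1 : Function.Injective v) (h2 : Submodule.span K (Set.range v) = ⊤)
    (h3 : ∀ g ∈ Γ, ∀ i, ∃ (j : ι) (c : K), g (v i) = c • v j)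
    (h4 : ∀ i j i' j', i ≠ j → i' ≠ j' → ∃ g ∈ Γ, ∃ c d : K, g (v i) = c • v i' ∧ g (v j) = d • v j')
    (h5 : ∀ i, f₀ (v i) = 1) (h6 : ∀ i, f₁ (v i) ≠ 0) (h7 : LinearMap.ker f₀ ≠ LinearMap.ker f₁)
    (h8 : ∀ i j, ∃ g ∈ Γ, (∀ x, f₀ x = 0 → g x = x) ∧ ∃ c : K, g (v i) = c • v j) :
    Fintype.card ι ≤ 3 := by
  classical
  by_contra! big
  have S := @step1 K _ ι V _ _ v Γ f₀ f₁ hK h2 h3 h4 h5 h6 h7
  obtain ⟨i, i', ii⟩ := Fintype.exists_pair_of_one_lt_card (α := ι) (by omega)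
  choose g gΓ g0 l gl using h8 i
  have fl : ∀ j, f₀ (g j (v i)) = l j := fun j => by simp [gl, h5]
  have fg : ∀ j x, f₀ (g j x) = l j * f₀ x := fun j x => by
    rw [form h5 (g0 j) i x, map_add, map_smul, map_sub, fl, h5, smul_eq_mul]; ring
  have l0 : ∀ j, l j ≠ 0 := fun j r => by
    simpa [h5, r] using fg j ((g j).symm (v i))
  have l1 : l i' - 1 ≠ 0 := sub_ne_zero.2 fun r => ii (h1 (by
    rw [← S (gΓ i') (g0 i') i ((fl i').trans r), gl, r, one_smul]))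
  have cm : ∀ j, g i' (g j (v i)) = g j (g i' (v i)) := fun j => by
    have := S (mul_mem (inv_mem (mul_mem (gΓ j) (gΓ i'))) (mul_mem (gΓ i') (gΓ j))) (fun x hx => by
      simp only [LinearEquiv.mul_apply, LinearEquiv.coe_inv, LinearEquiv.symm_apply_eq, g0 _ x hx]) i
      (mul_left_cancel₀ (mul_ne_zero (l0 j) (l0 i')) (by
        rw [mul_assoc, ← fg, ← fg, ← LinearEquiv.mul_apply, ← LinearEquiv.mul_apply,
          mul_inv_cancel_left, LinearEquiv.mul_apply, fg, fl]; ring))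
    rwa [LinearEquiv.mul_apply, LinearEquiv.coe_inv, LinearEquiv.symm_apply_eq] at this
  obtain ⟨c, hc⟩ : ∃ c, c = (l i' - 1)⁻¹ • (g i' (v i) - v i) := ⟨_, rfl⟩
  have c1 : f₀ c = 1 := by rw [hc, map_smul, map_sub, fl, h5, smul_eq_mul, inv_mul_cancel₀ l1]
  have ac : ∀ j, g j (v i) - v i = (l j - 1) • c := fun j => by
    have := cm j
    rw [form h5 (g0 i') i, form h5 (g0 j) i (g i' _), fl, fl] at this
    rw [hc, smul_comm, eq_inv_smul_iff₀ l1]
    linear_combination (norm := module) -this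
  obtain ⟨d, hd⟩ : ∃ d, d = v i - c := ⟨_, rfl⟩
  have d0 : f₀ d = 0 := by simp [hd, h5, c1]
  have vj : ∀ j, v j = c + (l j)⁻¹ • d := fun j => by
    rw [← inv_smul_smul₀ (l0 j) (v j), ← gl, sub_eq_iff_eq_add.1 (ac j), hd, inv_smul_eq_iff₀ (l0 j),
      smul_add, smul_inv_smul₀ (l0 j)]
    module
  have inj : Function.Injective fun j => (l j)⁻¹ := fun j k e => h1 (by rw [vj, vj k]; congr 2)
  have dn : d ≠ 0 := fun r => ii (h1 (by rw [vj, vj i', r, smul_zero, smul_zero]))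
  have ind : ∀ s t s' t' : K, s • c + t • d = s' • c + t' • d → s = s' ∧ t = t' := fun s t s' t' e => by
    obtain rfl : s = s' := by simpa [c1, d0] using congrArg f₀ e
    exact ⟨rfl, smul_left_injective K dn (add_left_cancel e)⟩
  have li : (l i)⁻¹ = 1 := (ind 1 _ 1 1 (by rw [one_smul, one_smul, ← vj, hd]; abel)).2
  have mul : ∀ k j, ∃ m, (l m)⁻¹ = (l k)⁻¹ * (l j)⁻¹ := fun k j => by
    obtain ⟨m, s, e⟩ := h3 _ (gΓ k) j
    rw [form h5 (g0 k) i, h5, one_smul, ac, vj, vj m] at e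
    obtain ⟨e1, e2⟩ := ind (l k) (l j)⁻¹ s (s * (l m)⁻¹) (by linear_combination (norm := module) e)
    exact ⟨m, by rw [e2, ← e1, inv_mul_cancel_left₀ (l0 k)]⟩
  generalize (fun j => (l j)⁻¹) = μ, hμ : (fun j => (l j)⁻¹) = μ at inj
  have m0 : ∀ j, μ j ≠ 0 := fun j => hμ ▸ inv_ne_zero (l0 j)
  replace vj : ∀ j, v j = c + μ j • d := hμ ▸ vj
  replace li : μ i = 1 := hμ ▸ li
  replace mul : ∀ k j, ∃ m, μ m = μ k * μ j := hμ ▸ mul
  have he : ∀ k, μ k ^ Fintype.card ι = 1 := fun k => by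
    choose τ hτ using mul k
    have := Fintype.prod_bijective τ (Finite.injective_iff_bijective.1 fun a b e =>
      inj (mul_left_cancel₀ (m0 k) (by rw [← hτ, ← hτ, e]))) _ μ fun j => (hτ j).symm
    rw [Finset.prod_mul_distrib, Finset.prod_const, Finset.card_univ] at this
    exact (mul_eq_right₀ (Finset.prod_ne_zero_iff.2 fun j _ => m0 j)).1 this
  have sp : ∀ x, ∃ s t : K, x = s • c + t • d := fun x => by
    induction h2.ge (Submodule.mem_top (x := x)) using Submodule.span_induction with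
    | mem x hx => obtain ⟨j, rfl⟩ := hx; exact ⟨1, μ j, by rw [vj, one_smul]⟩
    | zero => exact ⟨0, 0, by simp⟩
    | add x y _ _ hx hy =>
      obtain ⟨s, t, rfl⟩ := hx; obtain ⟨s', t', rfl⟩ := hy; exact ⟨s + s', t + t', by module⟩
    | smul r x _ hx => obtain ⟨s, t, rfl⟩ := hx; exact ⟨r * s, r * t, by module⟩
  obtain ⟨k, hk⟩ : ∃ k, k ≠ i ∧ k ≠ i' ∧ μ k * μ i' ≠ 1 := by
    by_contra! r
    obtain ⟨s, hs⟩ : ∃ s, ∀ k, μ k * μ i' = 1 → k = s := by
      by_cases e : ∃ s, μ s * μ i' = 1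
      · obtain ⟨s, hs⟩ := e
        exact ⟨s, fun k hk => inj (mul_right_cancel₀ (m0 i') (hk.trans hs.symm))⟩
      · exact ⟨i, fun k hk => absurd ⟨k, hk⟩ e⟩
    have := Finset.card_le_card (s := Finset.univ) (t := {i, i', s}) fun k _ => by
      by_cases a : k = i
      · simp [a]
      by_cases b : k = i'
      · simp [b]
      simp [hs k (r k a b)]
    exact absurd (this.trans Finset.card_le_three) big.not_ge
  obtain ⟨h, hh, s, t, e1, e2⟩ := h4 i i' i k ii hk.1.symm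
  obtain ⟨α, γ, a1⟩ := sp (h c)
  obtain ⟨β, δ, a2⟩ := sp (h d)
  have act : ∀ j m r, h (v j) = r • v m → α + β * μ j = r ∧ γ + δ * μ j = r * μ m := fun j m r e =>
    ind _ _ _ _ (by
      rw [vj, vj m, map_add, map_smul, a1, a2] at e
      linear_combination (norm := module) e)
  obtain ⟨n, hn⟩ : ∃ n, Fintype.card ι = n + 3 := ⟨Fintype.card ι - 3, by omega⟩
  have det : α * δ ≠ β * γ := fun e => by
    have z : ∀ s t : K, h (s • c + t • d) = 0 → s = 0 ∧ t = 0 := fun s t r =>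
      ind _ _ _ _ (by simpa using h.map_eq_zero_iff.1 r)
    have z1 := z δ (-γ) (by
      rw [map_add, map_smul, map_smul, a1, a2]
      linear_combination (norm := module) e • c)
    have z2 := z β (-α) (by
      rw [map_add, map_smul, map_smul, a1, a2]
      linear_combination (norm := module) (-e) • d)
    exact dn (h.map_eq_zero_iff.1 (by rw [a2, z1.1, z2.1]; simp))
  obtain ⟨b1, b2⟩ := act _ _ _ e1
  obtain ⟨b3, b4⟩ := act _ _ _ e2
  rw [li] at b1 b2
  rcases poly inj m0 hn (hn ▸ he) (by exact_mod_cast hp (n + 3) (by omega) hn.ge ⟨μ, inj, m0⟩)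
    (by exact_mod_cast hp (n + 2) (by omega) (by omega) ⟨μ, inj, m0⟩) det (fun j => by
      obtain ⟨m, r, e⟩ := h3 h hh j
      rw [(act j m r e).1, (act j m r e).2, mul_pow, ← hn, he, mul_one]) with ⟨x, y⟩ | ⟨x, y⟩
  · exact hk.2.2 (mul_left_cancel₀ (fun r : β = 0 => det (by simp [x, r])) (by
      linear_combination b2 - b1 - b4 + μ k * b3 - (μ k - 1) * x + (μ i' - 1) * y))
  · exact hk.2.1 (inj (mul_left_cancel₀ (fun r : α = 0 => det (by simp [y, r])) (by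
      linear_combination μ i' * (b2 - b1) - b4 + μ k * b3 + (1 - μ i') * x + (μ i' - μ k * μ i') * y)))

theorem jobGeo2 : H89.ON2.JobGeo2.{u} := fun p _ V ι _ _ _ v Γ f₀ f₁ h1 h2 h3 h4 h5 h6 h7 h8 => by
  have := Fintype.ofFinite ι
  rw [Nat.card_eq_fintype_card]
  have r : ∀ {g : V ≃ₗ[ZMod p] V} {i j c}, g (v i) = c • v j →
      g ((f₀ (v i))⁻¹ • v i) = ((f₀ (v i))⁻¹ * c * f₀ (v j)) • (f₀ (v j))⁻¹ • v j := fun e => by
    rw [map_smul, e, mul_smul, mul_smul, smul_inv_smul₀ (h5 _)]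
  refine core (v := fun i => (f₀ (v i))⁻¹ • v i) (Γ := Γ) (f₀ := f₀) (f₁ := f₁)
    (fun c => ⟨c.val, ZMod.natCast_zmod_val c⟩) (fun n n0 hn ⟨μ, inj, m0⟩ e => ?_)
    (fun i j e => by_contra fun n => h1 i j n (f₀ (v i) * (f₀ (v j))⁻¹)
      (by rw [mul_smul, ← inv_smul_eq_iff₀ (h5 i)]; exact e)) ?_
    (fun g hg i => let ⟨j, _, e⟩ := h3 g hg i; ⟨j, _, r e⟩)
    (fun i j i' j' a b => let ⟨g, hg, _, _, e, e'⟩ := h4 i j i' j' a b; ⟨g, hg, _, _, r e, r e'⟩)
    (fun i => by simp [h5 i]) (fun i => by simp [h5 i, h6 i]) h7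
    fun i j => let ⟨g, hg, a, _, e⟩ := h8 i j; ⟨g, hg, a, _, r e⟩
  · have := Fintype.card_lt_of_injective_of_notMem μ inj (b := 0) fun ⟨j, e⟩ => m0 j e
    rw [ZMod.card] at this
    exact absurd (Nat.le_of_dvd (by omega) ((ZMod.natCast_eq_zero_iff n p).1 e)) (by omega)
  · refine eq_top_iff.2 (h2.ge.trans (Submodule.span_le.2 ?_))
    rintro _ ⟨i, rfl⟩
    rw [← smul_inv_smul₀ (h5 i) (v i)]
    exact Submodule.smul_mem _ _ (Submodule.subset_span ⟨i, rfl⟩)

end H82.OG
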