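import Cfsg.Agent.H89.ON2Spec
import Cfsg.Agent.H89.Wagner
import Cfsg.Agent.H17.Inv
import Cfsg.Agent.H24.Socle

/-! Tower ON2, jobs `JobLn` and `JobL3`. -/

set_option autoImplicit false
set_option linter.unusedSectionVars false

namespace H82.OL

open MulAction Cfsg Subgroup H89.K H98 H89.ON2

universe u

section

variable {G : Type*} [Group G] [Finite G] {p : ℕ}

theorem exists_fix (hp : p.Prime) {A M : Subgroup G} (hA : IsPGroup p A)
    (hn : A ≤ normalizer (M : Set G)) (hd : p ∣ Nat.card M) :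
    ∃ m ∈ M, m ≠ 1 ∧ ∀ x ∈ A, x * m = m * x := by
  have := Fact.mk hp
  let _ := MulAction.compHom M (M.normalizerMonoidHom.comp (inclusion hn))
  obtain ⟨m, hm, ne⟩ := hA.exists_fixed_point_of_prime_dvd_card_of_fixed_point (α := M) hd (a := 1)
    fun x => map_one (M.normalizerMonoidHom (inclusion hn x))
  exact ⟨m, m.2, fun e => ne (Subtype.ext e.symm), fun x hx =>
    mul_inv_eq_iff_eq_mul.1 (congrArg Subtype.val (hm ⟨x, hx⟩))⟩

theorem ord_of_card {K : Subgroup G} (hp : p.Prime) (hK : Nat.card K = p) {k : G} (hk : k ∈ K)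
    (h1 : k ≠ 1) : orderOf k = p :=
  (hp.eq_one_or_self_of_dvd _ (hK ▸ K.orderOf_dvd_natCard hk)).resolve_left (mt orderOf_eq_one_iff.1 h1)

theorem eq_zpowers {K : Subgroup G} (hp : p.Prime) (hK : Nat.card K = p) {k : G} (hk : k ∈ K)
    (h1 : k ≠ 1) : zpowers k = K :=
  eq_of_le_of_card_ge (zpowers_le.2 hk) (by rw [Nat.card_zpowers, ord_of_card hp hK hk h1, hK])

theorem pow_card {K : Subgroup G} (hK : Nat.card K = p) {k : G} (hk : k ∈ K) : k ^ p = 1 :=
  orderOf_dvd_iff_pow_eq_one.1 (hK ▸ K.orderOf_dvd_natCard hk)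

theorem comm_of_card (hp : p.Prime) {A M : Subgroup G} (hA : IsPGroup p A)
    (hn : A ≤ normalizer (M : Set G)) (hM : Nat.card M = p) {x m : G} (hx : x ∈ A) (hm : m ∈ M) :
    m * x = x * m := by
  obtain ⟨z, h1, h2, h3⟩ := exists_fix hp hA hn hM.symm.dvd
  exact mem_centralizer_singleton_iff.1 (zpowers_le.2 (mem_centralizer_singleton_iff.2
    (h3 x hx).symm) ((eq_zpowers hp hM h1 h2).ge hm))

theorem eq_one_of_cop (hp : p.Prime) {F : Subgroup G} (h : ¬ p ∣ Nat.card F) {u : G} (hu : u ∈ F)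
    {n : ℕ} (e : u ^ p ^ n = 1) : u = 1 :=
  orderOf_eq_one_iff.1 (Nat.eq_one_of_dvd_coprimes ((hp.coprime_iff_not_dvd.2 h).pow_left n)
    (orderOf_dvd_of_pow_eq_one e) (F.orderOf_dvd_natCard hu))

end

variable {G Ω : Type u} [Group G] [Finite G] [MulAction G Ω] {N F : Ω → Subgroup G} {p : ℕ}
  {a b c d : Ω} (h : FZ N F p)
include h

theorem nF {g : G} (hg : g • a = a) : g ∈ normalizer (F a : Set G) :=
  mem_normalizer_fintype fun u hu => by have := h.fconj g a u hu; rwa [hg] at this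

omit [Finite G] in
theorem fa {f : G} (hf : f ∈ F a) : f • a = a := h.fix a f (h.le a hf)

theorem X_eq (hab : a ≠ b) (hc : c ∈ Ln N a b) (hca : c ≠ a) : X N a c = X N a b :=
  (eq_of_le_of_card_ge (le_inf inf_le_left hc) (by rw [h.card hab, h.card hca.symm])).symm

theorem Ln_eq (hab : a ≠ b) (hc : c ∈ Ln N a b) (hca : c ≠ a) : Ln N a c = Ln N a b := by
  rw [Ln, X_eq h hab hc hca, Ln]

theorem Ln_sub (hab : a ≠ b) : Ln N a b ⊆ Ln N b a := fun w hw => by
  have T := h.toTI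
  by_cases e : b = w
  · exact e ▸ T.left_mem b a
  obtain ⟨k, hk, k1⟩ := T.exists_ne hab
  have r : X N b w ≤ X N b a := fun m hm => ⟨hm.1, (T.cent hab.symm hk k1 hm.1).1
    (comm_of_card h.prime (isPGroup_zpowers (k := 1) (by rw [pow_one, pow_card (h.card hab) hk]))
      (zpowers_le.2 (cj_eq_self_iff.1 (by rw [T.cj_X, hw k hk, show k • b = b from hk.2])))
      (h.card e) (mem_zpowers k) hm)⟩
  exact fun g hg => ((eq_of_le_of_card_ge r (by rw [h.card e, h.card hab.symm])).ge hg).2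

theorem Ln_comm (hab : a ≠ b) : Ln N a b = Ln N b a := (Ln_sub h hab).antisymm (Ln_sub h hab.symm)

theorem ln (hab : a ≠ b) (hc : c ∈ Ln N a b) (hd : d ∈ Ln N a b) (hcd : c ≠ d) :
    Ln N c d = Ln N a b := by
  by_cases e : c = a
  · subst e
    exact Ln_eq h hab hd hcd.symm
  have := (Ln_comm h e).trans (Ln_eq h hab hc e)
  rw [← this] at hd ⊢
  exact Ln_eq h e hd hcd.symm

theorem fpf (hab : a ≠ b) (hc : c ∈ Ln N a b) (hd : d ∈ Ln N a b) (hcd : c ≠ d) {k : G}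
    (hk : k ∈ X N c d) (k1 : k ≠ 1) {f : G} (hf : f ∈ F a) (e : f * k = k * f) : f = 1 := by
  have T := h.toTI
  by_cases ca : c = a
  swap
  · exact h.reg ca f hf (T.fixc hk.1 k1 e)
  subst ca
  by_contra f1
  have n : f • d ≠ d := fun r => f1 (h.reg hcd.symm f hf r)
  have m : f • d ∈ Ln N c d := fun g hg => (zpowers_le (H := stabilizer G (f • d))).2
    (H89.K.fix_of_comm e hk.2) ((eq_zpowers h.prime (h.card hcd) hk k1).ge hg)
  have n' : f • d ≠ c := fun r => hcd (MulAction.injective f ((fa h hf).trans r.symm))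
  obtain ⟨l, hl, l1⟩ := T.exists_ne hcd.symm
  have h1 := T.conj_X f hl
  rw [fa h hf, ← X_eq h n' (ln h hcd m (T.left_mem c d) n' ▸ TI.right_mem c d) n.symm] at h1
  have h2 : Commute (f * l * f⁻¹) l := T.comm n h1 ⟨hl.1, Ln_sub h hcd m l hl⟩
  have := eq_one_of_cop h.prime (h.cop c) (u := f * l * f⁻¹ * l⁻¹) (n := 1) (by
    simpa only [mul_assoc] using mul_mem hf (conj_mem_of_mem_normalizer (nF h hl.2) (inv_mem hf)))
    (by rw [pow_one, h2.inv_right.mul_pow, conj_pow, inv_pow, pow_card (h.card hcd.symm) hl]; group)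
  exact n (T.fixc hl.1 l1 (commutatorElement_eq_one_iff_mul_comm.1 this))

theorem syl (hab : a ≠ b) : IsSyl p (X N a b) (N a) :=
  ⟨inf_le_left, .of_card ((h.card hab).trans (pow_one p).symm), fun Q hQ h1 h2 =>
    le_antisymm (fun q hq => by
      obtain ⟨f, hf, k, hk, rfl⟩ := h.dec hab q (h2 hq)
      obtain ⟨n, hn⟩ := hQ ⟨f, (mul_mem_cancel_right (h1 hk)).1 hq⟩
      rwa [eq_one_of_cop h.prime (h.cop a) hf (congrArg Subtype.val hn :), one_mul]) h1⟩

theorem tr (hab : a ≠ b) {w : Ω} (hw : w ≠ a) : ∃ c ∈ Ln N a b, c ≠ a ∧ ∃ f ∈ F a, f • c = w := by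
  have := Fact.mk h.prime
  obtain ⟨g, hg, e⟩ := (syl h hab).exists_cj_eq (syl h hw.symm)
  obtain ⟨f, hf, k, hk, rfl⟩ := h.dec hab g hg
  rw [← cj_cj, cj_eq_self_of_mem hk] at e
  refine ⟨f⁻¹ • w, fun x hx => ?_, fun r => hw ?_, f, hf, smul_inv_smul f w⟩
  · have : (f * x * f⁻¹) • w = w := (e.le (conj_mem_cj hx)).2
    rwa [← smul_inv_smul f w, conj_smul_eq] at this
  · rw [← smul_inv_smul f w, r, fa h hf]

theorem uniq (hab : a ≠ b) (hc : c ∈ Ln N a b) (hca : c ≠ a) {f : G} (hf : f ∈ F a)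
    (e : f • c ∈ Ln N a b) : f = 1 := by
  have T := h.toTI
  obtain ⟨k, hk, k1⟩ := T.exists_ne hab
  have h1 := T.conj_X f (X_eq h hab hc hca ▸ hk)
  rw [fa h hf, X_eq h hab e fun r => hca (MulAction.injective f (r.trans (fa h hf).symm))] at h1
  exact fpf h hab (T.left_mem a b) (TI.right_mem a b) hab hk k1 hf
    (commutatorElement_eq_one_iff_mul_comm.1 (h.reg hab.symm (f * k * f⁻¹ * k⁻¹) (by
      simpa only [mul_assoc] using mul_mem hf (conj_mem_of_mem_normalizer (nF h (T.fix a k hk.1))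
        (inv_mem hf))) (mul_mem h1 (inv_mem hk)).2))

/-- an element centralising `F a` and fixing a line through `a` is trivial -/
theorem eq_one_of_cen (hab : a ≠ b) {g : G} (h1 : ∀ f ∈ F a, f * g = g * f)
    (h2 : ∀ c ∈ Ln N a b, g • c = c) : g = 1 := h.t2.faith g fun w => by
  by_cases e : w = a
  · exact e ▸ h2 a (h.toTI.left_mem a b)
  obtain ⟨c, hc, -, f, hf, rfl⟩ := tr h hab e
  exact H89.K.fix_of_comm (h1 f hf) (h2 c hc)

theorem two : p ≠ 2 := fun e => by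
  have T := h.toTI
  obtain ⟨a, b, -, hab, -⟩ := T.t2.big
  obtain ⟨k, hk, k1⟩ := T.exists_ne hab
  obtain ⟨l, hl, l1⟩ := T.exists_ne hab.symm
  have i1 := H17.inverts_of_fpf (by rw [← sq, ← e, pow_card (h.card hab) hk]) (nF h (T.fix a k hk.1))
    fun f hf r => fpf h hab (T.left_mem a b) (TI.right_mem a b) hab hk k1 hf r.symm
  have i2 := H17.inverts_of_fpf (by rw [← sq, ← e, pow_card (h.card hab.symm) hl]) (nF h hl.2)
    fun f hf r => fpf h hab (TI.right_mem a b) (T.left_mem a b) hab.symm hl l1 hf r.symm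
  have := eq_one_of_cen h hab (g := k * l) (fun f hf => by
    rw [eq_comm, ← mul_inv_eq_iff_eq_mul, show k * l * f * (k * l)⁻¹ = k * (l * f * l⁻¹) * k⁻¹ by group,
      i2 f hf, i1 _ (inv_mem hf), inv_inv]) fun c hc => by rw [mul_smul, Ln_sub h hab hc l hl, hc k hk]
  exact k1 (T.ti hab k hk.1 (eq_inv_of_mul_eq_one_left this ▸ inv_mem hl.1))

theorem trA (hab : a ≠ b) {A : Subgroup G} (hA : ∀ g ∈ A, ∀ c ∈ Ln N a b, g • c = c) {w : Ω}
    (hw : w ≠ a) (h1 : ∀ g ∈ A, g • w = w) :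
    ∃ c ∈ Ln N a b, c ≠ a ∧ ∃ f ∈ F a ⊓ centralizer (A : Set G), f • c = w := by
  obtain ⟨c, hc, ca, f, hf, rfl⟩ := tr h hab hw
  refine ⟨c, hc, ca, f, ⟨hf, fun x hx => ?_⟩, rfl⟩
  have := h.reg ca (f⁻¹ * (x * f * x⁻¹)) (mul_mem (inv_mem hf) (conj_mem_of_mem_normalizer
    (nF h (hA x hx a (h.toTI.left_mem a b))) hf)) (by
      rw [mul_smul, mul_smul, hA _ (inv_mem hx) c hc, mul_smul, h1 x hx, inv_smul_smul])
  rwa [inv_mul_eq_one, eq_mul_inv_iff_mul_eq, eq_comm] at this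

theorem cardA (hab : a ≠ b) {A : Subgroup G} (hA : ∀ g ∈ A, ∀ c ∈ Ln N a b, g • c = c) :
    {w : Ω | ∀ g ∈ A, g • w = w}.ncard - 1 =
      ((Ln N a b).ncard - 1) * Nat.card ↥(F a ⊓ centralizer (A : Set G)) := by
  have := h.t2.finite
  have la := h.toTI.left_mem a b
  rw [← Set.ncard_sdiff_singleton_of_mem la, ← Set.ncard_sdiff_singleton_of_mem
    (show a ∈ {w : Ω | ∀ g ∈ A, g • w = w} from fun g hg => hA g hg a la), ← Nat.card_coe_set_eq,
    ← Nat.card_coe_set_eq, ← Nat.card_prod]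
  refine (Nat.card_eq_of_bijective (fun x => ⟨(x.2 : G) • (x.1 : Ω), fun g hg =>
    H89.K.fix_of_comm (x.2.2.2 g hg).symm (hA g hg _ x.1.2.1), fun r => x.1.2.2
      (MulAction.injective (x.2 : G) ((show _ = a from r).trans (fa h x.2.2.1).symm))⟩) ⟨?_, ?_⟩).symm
  · rintro ⟨⟨c, hc⟩, f, hf⟩ ⟨⟨c', hc'⟩, f', hf'⟩ e
    have e : f • c = f' • c' := congrArg Subtype.val e
    obtain rfl := inv_mul_eq_one.1 (uniq h hab hc.1 hc.2 ((F a).mul_mem ((F a).inv_mem hf'.1) hf.1)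
      (by rw [mul_smul, e, inv_smul_smul]; exact hc'.1))
    obtain rfl := MulAction.injective _ e
    rfl
  · rintro ⟨w, h1, h2⟩
    obtain ⟨c, hc, ca, f, hf, rfl⟩ := trA h hab hA h2 h1
    exact ⟨⟨⟨c, hc, ca⟩, f, hf⟩, rfl⟩

theorem other (hab : a ≠ b) (c : Ω) : ∃ d ∈ Ln N a b, c ≠ d := by
  by_cases e : c = a
  exacts [⟨b, TI.right_mem a b, e ▸ hab⟩, ⟨a, h.toTI.left_mem a b, e⟩]

theorem flag (hab : a ≠ b) {A : Subgroup G} (hA : ∀ g ∈ A, ∀ c ∈ Ln N a b, g • c = c)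
    (hne : F a ⊓ centralizer (A : Set G) ≠ ⊥) (hc : c ∈ Ln N a b) (hd : d ∈ Ln N a b) :
    ∃ y ∈ centralizer (A : Set G), y • c = d ∧ ∀ e ∈ Ln N a b, y • e ∈ Ln N a b := by
  have := h.t2.finite
  have T := h.toTI
  obtain ⟨r, hr, rd⟩ := Nat.exists_prime_and_dvd (mt card_eq_one.1 hne)
  have := Fact.mk hr
  have k1 : ∀ u ∈ Ln N a b, ∃ g ∈ F u ⊓ centralizer (A : Set G), g ≠ 1 ∧ g ^ r = 1 := fun u hu => by
    obtain ⟨v, hv, uv⟩ := other h hab u
    have e := ln h hab hu hv uv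
    have c1 := cardA h uv (e ▸ hA)
    rw [e, cardA h hab hA] at c1
    rw [Nat.eq_of_mul_eq_mul_left (by
      have := (Set.one_lt_ncard (s := Ln N a b)).2 ⟨u, hu, v, hv, uv⟩
      omega) c1] at rd
    obtain ⟨g, hg⟩ := exists_prime_orderOf_dvd_card' r rd
    exact ⟨g, g.2, fun e => hr.ne_one (by rw [← hg, show g = 1 from Subtype.ext e, orderOf_one]),
      by rw [← coe_pow, ← hg, pow_orderOf_eq_one, coe_one]⟩
  have cl : ∀ g ∈ centralizer (A : Set G), ∀ w ∈ {w : Ω | ∀ g ∈ A, g • w = w},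
      g • w ∈ {w : Ω | ∀ g ∈ A, g • w = w} := fun g hg w hw x hx =>
    H89.K.fix_of_comm (hg x hx).symm (hw x hx)
  obtain ⟨y, hy, e⟩ := H89.gleason hr (centralizer (A : Set G)) (Set.toFinite _) cl (fun w hw => by
    obtain ⟨g, hg, g1, gr⟩ : ∃ g ∈ F w ⊓ centralizer (A : Set G), g ≠ 1 ∧ g ^ r = 1 := by
      by_cases e : w = a
      · exact e ▸ k1 a (T.left_mem a b)
      obtain ⟨c, hc, -, f, hf, rfl⟩ := trA h hab hA e hw
      obtain ⟨g, hg, g1, gr⟩ := k1 c hc
      exact ⟨f * g * f⁻¹, ⟨h.fconj f c g hg.1, (centralizer _).mul_mem ((centralizer _).mul_mem hf.2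
        hg.2) ((centralizer _).inv_mem hf.2)⟩, by simpa using g1, by rw [conj_pow, gr]; group⟩
    exact ⟨g, hg.2, gr, fa h hg.1, fun v _ r => by_contra fun n => g1 (h.reg n g hg.1 r)⟩)
    (fun g hg => hA g hg c hc) fun g hg => hA g hg d hd
  obtain ⟨c', hc', cc⟩ := other h hab c
  obtain ⟨d', hd', dd⟩ := other h hab d
  have e1 := ln h hab hd hd' dd
  obtain ⟨v, hv, vd, f, hf, e2⟩ := trA h dd (e1 ▸ hA) (w := y • c')
    (fun r => cc (MulAction.injective y (e.trans r.symm))) (cl y hy c' fun g hg => hA g hg c' hc')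
  have a1 : (f⁻¹ * y) • c = d := by rw [mul_smul, e, inv_smul_eq_iff, fa h hf.1]
  refine ⟨f⁻¹ * y, mul_mem (inv_mem (mem_inf.1 hf).2) hy, a1, fun s hs => ?_⟩
  have := T.smul_mem_Ln (f⁻¹ * y) (ln h hab hc hc' cc ▸ hs)
  rwa [a1, mul_smul f⁻¹ y c', ← e2, inv_smul_smul, ln h hab hd (e1 ▸ hv) vd.symm] at this

omit h in
theorem jobLn : JobLn.{u} := fun _ _ _ _ _ _ _ _ h =>
  { h with
    two := two h
    ln := ln h
    fpf := fun hab hc hd hcd _ hk k1 _ hf e => fpf h hab hc hd hcd hk k1 hf e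
    tr := fun hab _ hw => tr h hab hw
    uniq := fun hab _ hc hca _ hf e => uniq h hab hc hca hf e
    flag := fun _ hab hA hne _ hc _ hd => flag h hab hA hne hc hd }

omit h in
theorem jobL3 : JobL3.{u} := fun G Ω _ _ _ N F p a b H hab h3 => by
  have h := H.toFZ
  have T := h.toTI
  have := T.t2.finite
  have odd : Odd (Nat.card (H89.K.St G a b)) := Nat.not_even_iff_odd.1 fun e => by
    obtain ⟨⟨j, hj⟩, jo⟩ := exists_prime_orderOf_dvd_card' 2 e.two_dvd
    rw [← orderOf_coe] at jo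
    have j2 : ∀ c : Ω, j • j • c = c := fun c => by
      rw [← mul_smul, ← sq, ← show orderOf j = 2 from jo, pow_orderOf_eq_one, one_smul]
    obtain ⟨u, hu⟩ : ∃ u : Ω, u ≠ j • u := by
      by_contra! r
      simp [T.t2.faith j fun c => (r c).symm] at jo
    have k : ∀ c ∈ Ln N u (j • u), j • c ∈ Ln N u (j • u) := fun c hc => by
      have := T.smul_mem_Ln j hc
      rwa [j2, ← Ln_comm h hu] at this
    obtain ⟨g, g1, g2⟩ := T.t2.two hab hu
    have c3 : (Ln N u (j • u)).ncard = 3 := by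
      rw [← h3, ← Set.ncard_image_of_injective (Ln N a b) (MulAction.injective g), ← g2, ← g1]
      congr 1
      ext c
      refine ⟨fun hc => ⟨g⁻¹ • c, ?_, smul_inv_smul g c⟩, ?_⟩
      · simpa only [inv_smul_smul] using T.smul_mem_Ln g⁻¹ hc
      · rintro ⟨c, hc, rfl⟩
        exact T.smul_mem_Ln g hc
    obtain ⟨w, hw, e⟩ : ∃ w, w ∉ ({u, j • u} : Set Ω) ∧ insert w {u, j • u} = Ln N u (j • u) :=
      (Set.exists_eq_insert_iff_ncard).2 ⟨by
        rintro _ (rfl | rfl)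
        exacts [T.left_mem _ _, TI.right_mem _ _], by rw [c3, Set.ncard_pair hu]⟩
    have mw : w ∈ Ln N u (j • u) := e ▸ Set.mem_insert _ _
    have wu : w ≠ u := fun r => hw (.inl r)
    have jw : j • w = w := by
      rcases e.ge (k w mw) with r | r | r
      · exact r
      · exact absurd (.inr (by rw [← r, j2]; rfl)) hw
      · exact absurd (MulAction.injective j r) wu
    have e1 := ln h hu mw (T.left_mem _ _) wu
    have key : ∀ x, j • x = x → x = w := fun x hx => by_contra fun n => by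
      obtain ⟨c, hc, cw, f, hf, rfl⟩ := tr h wu n
      have r : (f⁻¹ * (j * f * j⁻¹)) • j • c = c := by rw [mul_smul, conj_smul_eq.2 rfl, hx, inv_smul_smul]
      rw [uniq h wu (e1 ▸ k c (e1 ▸ hc)) (fun r => cw (MulAction.injective j (r.trans jw.symm)))
        (mul_mem (inv_mem hf) (conj_mem_of_mem_normalizer (nF h jw) hf)) (r.symm ▸ hc), one_smul] at r
      rcases e.ge (e1 ▸ hc) with s | s | s
      · exact cw s
      · exact hu (s ▸ r.symm)
      · rw [show c = j • u from s, j2] at r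
        exact hu r
    exact hab ((key a hj.1).trans (key b hj.2).symm)
  have c1 := cardA h hab (A := ⊥) fun g hg c _ => by rw [mem_bot.1 hg, one_smul]
  rw [h3, centralizer_bot', inf_top_eq, show {w : Ω | ∀ g ∈ (⊥ : Subgroup G), g • w = w} = Set.univ from
    Set.eq_univ_of_forall fun c g hg => by rw [mem_bot.1 hg, one_smul], Set.ncard_univ] at c1
  have c2 := T.t2.two_lt
  have : Group.IsSolvable G := by_contra fun r => by
    have := H24.four_dvd_of_not_solvable r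
    rw [T.t2.card_group hab, c1, show Nat.card Ω = 2 * Nat.card (F a) + 1 by omega, mul_left_comm,
      mul_assoc, show 4 = 2 * 2 from rfl] at this
    exact (((odd_two_mul_add_one _).mul (h.odd a)).mul odd).not_two_dvd_nat
      (Nat.dvd_of_mul_dvd_mul_left two_pos this)
  exact T.naff (T.t2.aff_of_solvable ⊤ fun e => T.ne hab (eq_bot_iff.2 (le_top.trans e.le)))

end H82.OL
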