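import Cfsg.Agent.H82.OnLn

/-! Tower ON2, job `JobPhi`. -/

set_option autoImplicit false

namespace H82.OL

open MulAction Cfsg Subgroup H89.K H98 H89.ON2

universe u

variable {G Ω : Type u} [Group G] [Finite G] [MulAction G Ω] {N : Ω → Subgroup G} {a b c d : Ω}
  {p : ℕ} {R R' : Subgroup G}

theorem card_syl (T : TI N) (hab : a ≠ b) (hcd : c ≠ d) (hp : p.Prime) (hR : IsSyl p R (X N a b))
    (hR' : IsSyl p R' (X N c d)) : Nat.card R = Nat.card R' := by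
  have := Fact.mk hp
  rw [hR.card_eq, hR'.card_eq, T.card_X hab hcd]

omit [Finite G] in
theorem comm_N (T : TI N) {h x : G} (hh : h ∈ N a) (hx : x • a = a) : h * x * h⁻¹ * x⁻¹ ∈ N a := by
  simpa only [mul_assoc] using mul_mem hh (T.conj_of_fix hx (inv_mem hh))

theorem phi1 (T : TI N) (hab : a ≠ b) (hp : p.Prime) (hR : IsSyl p R (X N a b))
    (hR' : IsSyl p R' (X N b a)) {h : G} (hh : h ∈ N a)
    (hn : h ∈ normalizer ((R ⊔ R' : Subgroup G) : Set G)) (hb : h • b ≠ b) : Phi N a b R R' h := by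
  have bn : ∀ x ∈ R ⊔ R', x ∈ N a → x ∈ R := fun x hx h1 => by
    obtain ⟨r, hr, l, hl, rfl⟩ := (mem_sup_left_norm fun r hr => centralizer_le_normalizer _
      fun l hl => (T.comm hab (hR.le hr) (hR'.le hl)).symm).1 hx
    rwa [T.ti hab l (((N a).mul_mem_cancel_left (hR.le hr).1).1 h1) (hR'.le hl).1, mul_one]
  have ψ : ∀ l ∈ R', h * l * h⁻¹ * l⁻¹ ∈ R := fun l hl => bn _ (mul_mem (conj_mem_of_mem_normalizer hn
    (mem_sup_right hl)) (inv_mem (mem_sup_right hl))) (comm_N T hh (hR'.le hl).2)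
  have nc : ∀ l ∈ R', h * l = l * h → l = 1 := fun l hl e => by_contra fun n =>
    hb (T.fixc (hR'.le hl).1 n e)
  have sj : ∀ r ∈ R, ∃ l ∈ R', h * l * h⁻¹ = r * l := fun r hr => by
    obtain ⟨l, e⟩ := ((Nat.bijective_iff_injective_and_card (fun l : R' => (⟨_, ψ l l.2⟩ : R))).2
      ⟨fun l l' e => Subtype.ext (inv_mul_eq_one.1 (nc _ (mul_mem (inv_mem l'.2) l.2) (by
        have e : h * l * h⁻¹ * (l : G)⁻¹ = h * l' * h⁻¹ * (l' : G)⁻¹ := congrArg Subtype.val e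
        calc h * ((l' : G)⁻¹ * l) = h * (l' : G)⁻¹ * h⁻¹ * (h * l * h⁻¹ * (l : G)⁻¹) * l * h := by group
          _ = _ := by rw [e]; group))).symm, card_syl T hab.symm hab hp hR' hR⟩).2 ⟨r, hr⟩
    exact ⟨l, l.2, mul_inv_eq_iff_eq_mul.1 (congrArg Subtype.val e)⟩
  have ab : a ≠ h • b := fun e => hab (MulAction.injective h ((T.fix a h hh).trans e))
  have hx : ∀ l ∈ R', h * l * h⁻¹ ∈ X N (h • b) a := fun l hl => by
    simpa only [T.fix a h hh] using T.conj_X h (hR'.le hl)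
  have k1 : ∀ k ∈ X N a b, k • h • b = h • b → ∀ r ∈ R, k * r = r * k := fun k hk e r hr => by
    obtain ⟨l, hl, e1⟩ := sj r hr
    have := T.comm ab ⟨hk.1, e⟩ (hx l hl)
    rwa [e1, mul_assoc, ← T.comm hab hk (hR'.le hl), ← mul_assoc, ← mul_assoc, mul_left_inj] at this
  have rr : ∀ r ∈ R, ∀ r' ∈ R, r * r' = r' * r := fun r hr => k1 r (hR.le hr) (by
    have : (h⁻¹ * r * h) • b = b := (hR.le (bn _ (conj_mem_of_mem_normalizer' hn (mem_sup_left hr))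
      (mul_mem (mul_mem (inv_mem hh) (hR.le hr).1) hh))).2
    rwa [mul_smul, mul_smul, inv_smul_eq_iff] at this)
  refine ⟨rr, fun l hl l' hl' => commutatorElement_eq_one_iff_mul_comm.1 (nc _ (mul_mem (mul_mem
    (mul_mem hl hl') (inv_mem hl)) (inv_mem hl')) ?_), fun r hr r1 k hk e => k1 k hk ?_, sj⟩
  · have c : ∀ r ∈ R, ∀ l ∈ R', Commute r l := fun r hr l hl => T.comm hab (hR.le hr) (hR'.le hl)
    rw [← mul_inv_eq_iff_eq_mul, commutatorElement_def, ← conj_mul, ← conj_mul, ← conj_mul,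
      ← conj_inv, ← conj_inv, ← inv_mul_cancel_right (h * l * h⁻¹) l,
      ← inv_mul_cancel_right (h * l' * h⁻¹) l']
    have h1 := ψ l hl
    have h2 := ψ l' hl'
    generalize h * l * h⁻¹ * l⁻¹ = r at h1
    generalize h * l' * h⁻¹ * l'⁻¹ = r' at h2
    have c1 : Commute r' (r * l) := (show Commute r' r from rr _ h2 _ h1).mul_right (c _ h2 _ hl)
    have c2 : Commute r (l * l' * l⁻¹) := c _ h1 _ (mul_mem (mul_mem hl hl') (inv_mem hl))
    have c3 : Commute r' (l * l' * l⁻¹ * l'⁻¹) :=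
      c _ h2 _ (mul_mem (mul_mem (mul_mem hl hl') (inv_mem hl)) (inv_mem hl'))
    calc r * l * (r' * l') * (r * l)⁻¹ * (r' * l')⁻¹
        = r' * (r * (l * l' * l⁻¹) * r⁻¹ * l'⁻¹) * r'⁻¹ := by rw [← mul_assoc (r * l), ← c1.eq]; group
      _ = _ := by rw [c2.eq, mul_inv_cancel_right, c3.eq, mul_inv_cancel_right]
  · obtain ⟨l, hl, e1⟩ := sj r hr
    refine T.fixc (hx l hl).1 (fun e2 => r1 ?_) ?_
    · rwa [conj_eq_one_iff.1 e2, mul_one, mul_one, mul_inv_cancel, eq_comm] at e1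
    · rw [e1, ← mul_assoc, e, mul_assoc, T.comm hab hk (hR'.le hl), mul_assoc]

theorem phi2 (T : TI N) (hab : a ≠ b) (hp : p.Prime) (hR : IsSyl p R (X N a b))
    (hR' : IsSyl p R' (X N b a)) {o : G} (ho : o ∈ X N b a) (o1 : o ≠ 1) {n : ℕ} (on : o ^ p ^ n = 1)
    {g : G} (hg : g ∈ N a) (gb : g • b ≠ b) (e : (g * o * g⁻¹) • b = b) :
    ∃ h ∈ N a, h ∈ normalizer ((R ⊔ R' : Subgroup G) : Set G) ∧ h • b ≠ b := by
  have := Fact.mk hp
  obtain ⟨R₁, h1, oR⟩ := exists_isSyl_le (isPGroup_zpowers on) (zpowers_le.2 ho)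
  obtain ⟨z, hz, z1, zc⟩ := exists_fix hp h1.isPGroup le_normalizer
    (h1.isPGroup.card_eq_or_dvd.resolve_left fun r => o1 (mem_bot.1 ((card_eq_one.1 r).le
      (oR (mem_zpowers o)))))
  have zL := h1.le hz
  have hk : g * o * g⁻¹ * o⁻¹ ∈ X N a b := ⟨comm_N T hg ho.2, (stabilizer G b).mul_mem e
    ((stabilizer G b).inv_mem (T.fix b o ho.1))⟩
  have zg : z • g • b = g • b := T.fixc (T.conj g b o ho.1) (by simpa using o1) (by
    rw [← inv_mul_cancel_right (g * o * g⁻¹) o, ← mul_assoc, ← T.comm hab hk zL, mul_assoc,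
      ← zc o (oR (mem_zpowers o)), ← mul_assoc])
  obtain ⟨f, hf⟩ : ∃ f, f = g⁻¹ := ⟨_, rfl⟩
  have fN : f ∈ N a := hf ▸ inv_mem hg
  have fb : f • b ≠ b := fun r => gb (by rw [hf, inv_smul_eq_iff] at r; exact r.symm)
  have ab : a ≠ f • b := fun e => hab (MulAction.injective f ((T.fix a f fN).trans e))
  have hx : ∀ l ∈ X N b a, f * l * f⁻¹ ∈ X N (f • b) a := fun l hl => by
    simpa only [T.fix a f fN] using T.conj_X f hl
  have hk1 : f * z * f⁻¹ * z⁻¹ ∈ X N a b := ⟨comm_N T fN zL.2, (stabilizer G b).mul_mem (by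
    rw [mem_stabilizer_iff, hf, inv_inv, mul_smul, mul_smul, zg, inv_smul_smul])
    ((stabilizer G b).inv_mem (T.fix b z zL.1))⟩
  have fx : ∀ l ∈ R₁, l • f • b = f • b := fun l hl => T.fixc (hx z zL).1 (by simpa using z1) (by
    rw [← inv_mul_cancel_right (f * z * f⁻¹) z, ← mul_assoc, ← T.comm hab hk1 (h1.le hl), mul_assoc,
      zc l hl, ← mul_assoc])
  have mφ : ∀ l ∈ R₁, l * (f * l * f⁻¹)⁻¹ ∈ X N a (f • b) := fun l hl => ⟨by
    simpa [mul_assoc] using inv_mem (comm_N T fN (h1.le hl).2), (stabilizer G _).mul_mem (fx l hl)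
      ((stabilizer G _).inv_mem (T.fix _ _ (hx l (h1.le hl)).1))⟩
  let φ : R₁ →* G := MonoidHom.mk' (fun l => l * (f * l * f⁻¹)⁻¹) fun l l' => by
    rw [mul_assoc (l : G) (f * l * f⁻¹)⁻¹, ← T.comm ab (mφ l' l'.2) (inv_mem (hx l (h1.le l.2))), coe_mul]
    group
  have c2 : Nat.card φ.range = Nat.card R₁ := Nat.card_congr (φ.ofInjective
    ((injective_iff_map_eq_one φ).2 fun l r => Subtype.ext (by_contra fun n => fb (T.fixc (h1.le l.2).1 n
      (mul_inv_eq_iff_eq_mul.1 (mul_inv_eq_one.1 r).symm))))).toEquiv.symm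
  have p2 : IsPGroup p φ.range := h1.isPGroup.of_surjective _ φ.rangeRestrict_surjective
  have l1 : φ.range ≤ X N a (f • b) := by rintro _ ⟨l, rfl⟩; exact mφ l l.2
  have l2 : φ.range ≤ X N a b := by
    rintro _ ⟨l, rfl⟩
    refine ⟨(mφ l l.2).1, T.fixc zL.1 z1 ?_⟩
    have c1 : Commute (φ l) (φ ⟨z, hz⟩) :=
      (show Commute l ⟨z, hz⟩ from Subtype.ext (zc l l.2)).map φ
    have := c1.mul_right (show Commute (φ l) _ from T.comm ab (mφ l l.2) (hx z zL))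
    rwa [show φ ⟨z, hz⟩ * (f * z * f⁻¹) = z from inv_mul_cancel_right _ _] at this
  have c3 := card_syl T hab hab.symm hp hR h1
  obtain ⟨k₂, hk₂, e₂⟩ := hR.exists_cj_eq (hR.of_card_ge p2 l2 (by rw [c2, c3]))
  obtain ⟨k₃, hk₃, e₃⟩ := hR.exists_cj_eq (hR.of_card_ge (isPGroup_cj f⁻¹ p2)
    (cj_le_iff.2 (by rwa [inv_inv, T.cj_X, T.fix a f fN])) (by rw [card_cj, c2, c3]))
  obtain ⟨y, hy, e₄⟩ := hR'.exists_cj_eq h1
  have n1 : k₂⁻¹ * f * k₃ ∈ normalizer ((R ⊔ R₁ : Subgroup G) : Set G) := mem_normalizer_of_cj_le (by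
    rw [cj_sup, ← cj_cj, ← cj_cj, e₃, cj_cj_inv, ← e₂, cj_inv_cj]
    refine sup_le le_sup_left ?_
    rintro _ ⟨l, hl, rfl⟩
    have := mul_mem_sup (inv_mem (mem_cj.1 (e₂.ge ⟨⟨l, hl⟩, rfl⟩))) hl
    convert this using 1
    show k₂⁻¹ * f * k₃ * l * (k₂⁻¹ * f * k₃)⁻¹ = (k₂⁻¹ * (l * (f * l * f⁻¹)⁻¹) * k₂)⁻¹ * l
    rw [mul_assoc _ k₃, T.comm hab hk₃ (h1.le hl),
      show (k₂⁻¹ * (l * (f * l * f⁻¹)⁻¹) * k₂)⁻¹ * l = k₂⁻¹ * f * l * f⁻¹ * l⁻¹ * (k₂ * l) by group,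
      T.comm hab hk₂ (h1.le hl)]
    group)
  refine ⟨y⁻¹ * (k₂⁻¹ * f * k₃) * y, conj_mem_of_mem_normalizer' (T.stab_le a hy.2)
    ((N a).mul_mem ((N a).mul_mem ((N a).inv_mem hk₂.1) fN) hk₃.1), ?_, fun r => fb ?_⟩
  · rw [← mem_cj, cj_normalizer, cj_sup, e₄, cj_eq_self (centralizer_le_normalizer _
      fun r hr => T.comm hab (hR.le hr) hy)]
    exact n1
  · rwa [mul_smul, T.fix b y hy.1, mul_smul, inv_smul_eq_iff, T.fix b y hy.1, mul_smul,
      show k₃ • b = b from hk₃.2, mul_smul, inv_smul_eq_iff, show k₂ • b = b from hk₂.2] at r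

theorem jobPhi : JobPhi.{u} := fun _ _ _ _ _ _ _ _ _ _ _ T hab hp hR hR' =>
  ⟨fun _ hh hn hb => phi1 T hab hp hR hR' hh hn hb,
    fun _ ho o1 ⟨_, on⟩ _ hg gb e => phi2 T hab hp hR hR' ho o1 on hg gb e⟩

end H82.OL
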