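import Cfsg.Agent.H82.OnEven
import Cfsg.Agent.H3.HkKit2

/-! Tower ON2, job `JobT1b`. -/

set_option autoImplicit false

namespace H82.ON

open MulAction Cfsg Subgroup H89.K H98 H89.ON2 H65

universe u

theorem mem_cen1 {G : Type*} [Group G] {x y : G} : x ∈ centralizer {y} ↔ x * y = y * x :=
  mem_centralizer_singleton_iff

theorem cen1_of_zpowers {G : Type*} [Group G] {x y z : G} (h : y ∈ zpowers x) (e : z * x = x * z) :
    z * y = y * z := (mem_cen1.1 (zpowers_le.2 (mem_cen1.2 e.symm) h)).symm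

theorem ord_of_card {G : Type*} [Group G] [Finite G] {K : Subgroup G} {p : ℕ} (hp : p.Prime)
    (hK : Nat.card K = p) {k : G} (hk : k ∈ K) (h1 : k ≠ 1) : orderOf k = p :=
  (hp.eq_one_or_self_of_dvd _ (hK ▸ K.orderOf_dvd_natCard hk)).resolve_left (mt orderOf_eq_one_iff.1 h1)

theorem eq_zpowers {G : Type*} [Group G] [Finite G] {K : Subgroup G} {p : ℕ} (hp : p.Prime)
    (hK : Nat.card K = p) {k : G} (hk : k ∈ K) (h1 : k ≠ 1) : zpowers k = K :=
  eq_of_le_of_card_ge (zpowers_le.2 hk) (by rw [Nat.card_zpowers, ord_of_card hp hK hk h1, hK])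

theorem eq_one_of_sq {G : Type*} [Group G] {x : G} {n : ℕ} (hn : Odd n) (h1 : x ^ n = 1)
    (h2 : x * x = 1) : x = 1 := by
  obtain ⟨m, rfl⟩ := hn
  rwa [pow_succ, pow_mul, sq, h2, one_pow, one_mul] at h1

/-- an involution centralising only the centre inverts the central quotient -/
theorem comm_central {G : Type*} [Group G] [Finite G] {F : Subgroup G} (ho : Odd (Nat.card F)) {ζ : G}
    (h2 : ζ * ζ = 1) (hn : ζ ∈ normalizer (F : Set G))
    (hc : F ⊓ centralizer {ζ} ≤ centralizer (F : Set G)) {u v : G} (hu : u ∈ F) (hv : v ∈ F) :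
    u * v * u⁻¹ * v⁻¹ ∈ centralizer (F : Set G) := by
  have k : ∀ u ∈ F, ∃ z ∈ F ⊓ centralizer (F : Set G), ζ * u * ζ⁻¹ = u⁻¹ * z := fun u hu => by
    have zi : ζ⁻¹ = ζ := inv_eq_of_mul_eq_one_left h2
    have hw : u * (ζ * u⁻¹ * ζ⁻¹) ∈ F := mul_mem hu (conj_mem_of_mem_normalizer hn (inv_mem hu))
    obtain ⟨w, e⟩ : ∃ w, w = u * (ζ * u⁻¹ * ζ⁻¹) := ⟨_, rfl⟩
    rw [← e] at hw
    obtain ⟨m, hm⟩ := ho
    have e1 : ζ * w * ζ⁻¹ = w⁻¹ := by
      rw [e, zi]; simp only [mul_inv_rev, inv_inv, zi, mul_assoc, h2, mul_one]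
    have e2 : w ^ (m + 1) * w ^ (m + 1) = w := by
      rw [← pow_add, show m + 1 + (m + 1) = 2 * m + 1 + 1 by ring, pow_succ, ← hm,
        orderOf_dvd_iff_pow_eq_one.1 (F.orderOf_dvd_natCard hw), one_mul]
    have e3 : ζ * w ^ (m + 1) * ζ⁻¹ = (w ^ (m + 1))⁻¹ := by rw [← conj_pow, e1, inv_pow]
    have iF := pow_mem hw (m + 1)
    generalize w ^ (m + 1) = i at e2 e3 iF
    have e4 : ζ * u * ζ⁻¹ = i⁻¹ * i⁻¹ * u := by rw [← mul_inv_rev, e2, e]; group
    have zF := mul_mem (inv_mem iF) hu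
    have hz := hc ⟨zF, mem_cen1.2 (by
      rw [eq_comm, ← mul_inv_eq_iff_eq_mul, ← conj_mul, conj_inv.symm, e3, e4]; group)⟩
    refine ⟨_, mul_mem (⟨zF, hz⟩ : _ ∈ F ⊓ _) ⟨zF, hz⟩, ?_⟩
    rw [e4, mul_assoc, ← mul_assoc u⁻¹, hz _ (inv_mem hu)]
    group
  obtain ⟨z1, h1, e1⟩ := k _ (inv_mem hu)
  obtain ⟨z2, h2, e2⟩ := k _ (inv_mem hv)
  obtain ⟨z3, h3, e3⟩ := k _ (mul_mem (inv_mem hu) (inv_mem hv))
  rw [← conj_mul, e1, e2, mul_inv_rev, inv_inv, inv_inv, mul_assoc, ← mul_assoc z1, ← h1.2 v hv] at e3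
  have : u * v = v * u * (z3 * z2⁻¹ * z1⁻¹) := by
    rw [← mul_assoc, ← mul_assoc, ← e3]; group
  have hz := mul_mem (mul_mem (mem_inf.1 h3).2 (inv_mem (mem_inf.1 h2).2)) (inv_mem (mem_inf.1 h1).2)
  rwa [this, hz _ (mul_mem hv hu), mul_assoc, ← mul_inv_rev, mul_inv_cancel_right]

theorem sigma_id {E : Type} [Field E] (h2 : (2 : E) ≠ 0) {σ : E ≃+* E}
    (h : ∀ c, c ≠ 0 → σ c * c⁻¹ = 1 ∨ σ c * c⁻¹ = -1) (c : E) : σ c = c := by
  have k : ∀ c, σ c = c ∨ σ c = -c := fun c => by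
    by_cases e : c = 0
    · simp [e]
    exact (h c e).imp (fun r => by rwa [mul_inv_eq_one₀ e] at r)
      fun r => by rwa [mul_inv_eq_iff_eq_mul₀ e, neg_one_mul] at r
  refine (k c).elim id fun r => ?_
  rcases k (c + 1) with s | s <;> rw [map_add, map_one, r] at s
  · rw [r]; linear_combination s
  · exact absurd (by linear_combination s) h2

theorem jobT1b : JobT1b.{u} := fun G Ω _ _ _ N F p a b E _ _ x y A B h hR hab hL d => by
  have T := h.toTI
  have hp := h.prime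
  have := Fact.mk hp
  have po := hp.odd_of_ne_two h.two
  have rel := d.ld.rel
  obtain ⟨oE, -, -, hD, -, -, ninv, -, -, -, hone, -⟩ := H3.HK2.kit2.bas hR.sr hab d.leA d.leB d.ld
  have semi := fun g hg => H3.HK2.kit2.semi hR.sr hab d.leA d.leB d.ld g hg (d.nA hg) (d.nB hg)
  have ch : ringChar E ≠ 2 := fun e => by
    have := FiniteField.even_card_of_char_two e
    rw [Nat.odd_iff] at oE
    omega
  have two := Ring.two_ne_zero ch
  have xF : ∀ c, x c ∈ F a := fun c => d.leA ((d.ld.rx _).2 ⟨c, rfl⟩)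
  have fpf := h.fpf hab (T.left_mem a b) (TI.right_mem a b) hab
  have nF : ∀ g, g • a = a → g ∈ normalizer (F a : Set G) := fun g hg =>
    mem_normalizer_fintype fun u hu => by have := h.fconj g a u hu; rwa [hg] at this
  have nK : ∀ g ∈ St G a b, ∀ k ∈ X N a b, g * k * g⁻¹ ∈ X N a b := fun g hg k hk => by
    have := T.conj_X g hk
    rwa [show g • a = a from hg.1, show g • b = b from hg.2] at this
  have hinv : ∀ c, c ≠ 0 → (sl2h x y c)⁻¹ = sl2h x y c⁻¹ := fun c hc => inv_eq_of_mul_eq_one_right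
    (by rw [rel.h_mul' hc (inv_ne_zero hc), mul_inv_cancel₀ hc, rel.h_one])
  obtain ⟨k, hk, k1⟩ := T.exists_ne hab
  have kD : k ∈ St G a b := ⟨T.fix a k hk.1, hk.2⟩
  have zK := eq_zpowers hp (h.card hab) hk k1
  have kp : k ^ p = 1 := ord_of_card hp (h.card hab) hk k1 ▸ pow_orderOf_eq_one k
  obtain ⟨l, σ, l0, kx, -, kn, kh⟩ := semi k kD
  have hσ := sigma_id two (σ := σ) fun c hc => by
    have c0 := mul_ne_zero (σ.map_ne_zero_iff.2 hc) (inv_ne_zero hc)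
    have e : k * sl2h x y c * k⁻¹ * (sl2h x y c)⁻¹ = sl2h x y (σ c * c⁻¹) := by
      rw [kh c hc, hinv c hc, rel.h_mul' (σ.map_ne_zero_iff.2 hc) (inv_ne_zero hc)]
    refine hone _ c0 (by_contra fun n => n ?_)
    have m : sl2h x y (σ c * c⁻¹) ∈ X N a b := by
      simpa only [← e, mul_assoc] using mul_mem hk (nK _ (hD c hc) _ (inv_mem hk))
    rw [← e, ← cen1_of_zpowers ((eq_zpowers hp (h.card hab) m n).ge hk)
      (by rw [rel.h_mul' hc c0, rel.h_mul' c0 hc, mul_comm])]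
    group
  simp only [hσ] at kx kn kh
  have kpow : ∀ (i : ℕ) c, k ^ i * x c * (k ^ i)⁻¹ = x (l ^ i * c) := fun i => by
    induction i with
    | zero => simp
    | succ i ih =>
      intro c
      rw [pow_succ, pow_succ, mul_assoc (l ^ i), ← ih, ← kx]; group
  have lp : l ^ p = 1 := d.ld.inj (by simpa [kp] using (kpow p 1).symm)
  have x1 : ∀ c, x c = 1 → c = 0 := fun c e => d.ld.inj (e.trans rel.x_zero.symm)
  have l1 : l * l ≠ 1 := fun e => by
    obtain rfl : l = 1 := by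
      obtain ⟨m, rfl⟩ := po
      rwa [pow_succ, pow_mul, sq, e, one_pow, one_mul] at lp
    exact one_ne_zero (x1 _ (fpf k hk k1 _ (xF 1) (by
      rw [eq_comm, ← mul_inv_eq_iff_eq_mul, kx, one_mul])))
  obtain ⟨n, hn⟩ : ∃ n, n = sl2n x y 1 := ⟨_, rfl⟩
  obtain ⟨na, nb⟩ : H7.HKS.Sw n a b := hn ▸ d.ld.sw 1 one_ne_zero
  obtain ⟨s, hs⟩ : ∃ s, s = sl2h x y l := ⟨_, rfl⟩
  have hl' : n * k⁻¹ * n⁻¹ ∈ X N b a := by simpa only [na, nb] using T.conj_X n (inv_mem hk)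
  have e0 : s = k * (n * k⁻¹ * n⁻¹) := by
    rw [hs, sl2h, rel.n_neg, ← mul_one l, ← kn 1 one_ne_zero, hn]; group
  obtain ⟨l', e1⟩ : ∃ l', l' = n * k⁻¹ * n⁻¹ := ⟨_, rfl⟩
  rw [← e1] at hl' e0
  have kl : Commute k l' := T.comm hab hk hl'
  have KL : ∀ g, g = k⁻¹ ∨ g = k → g * l' ≠ 1 := fun g hg e => k1 (T.ti hab k hk.1 (by
    rcases hg with rfl | rfl
    exacts [inv_mul_eq_one.1 e ▸ hl'.1, eq_inv_of_mul_eq_one_left e ▸ inv_mem hl'.1]))
  have l'p : l' ^ p = 1 := by rw [e1, conj_pow, inv_pow, kp]; group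
  have sD : s ∈ St G a b := hs ▸ hD l l0
  have sx : ∀ c, s * x c * s⁻¹ = x (l ^ 2 * c) := fun c => by
    rw [hs, rel.h_mul_x l0, mul_inv_cancel_right]
  obtain ⟨t, ht⟩ : ∃ t, t = k⁻¹ * l' := ⟨_, rfl⟩
  have ks : Commute k s := e0 ▸ (Commute.refl k).mul_right kl
  have e2 : t = (k ^ 2)⁻¹ * s := by rw [ht, e0]; group
  have tD : t ∈ St G a b := e2 ▸ mul_mem (inv_mem (pow_mem kD 2)) sD
  have tx : ∀ c, t * x c = x c * t := fun c => by
    rw [← mul_inv_eq_iff_eq_mul, e2, mul_inv_rev, inv_inv, mul_assoc, mul_assoc, ← mul_assoc (x c),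
      ← mul_assoc s, ← mul_assoc s, sx, ← kpow]; group
  have tn : n * t * n⁻¹ = t := by
    have e : Commute k (n * n) := mul_inv_eq_iff_eq_mul.1 (by rw [hn, rel.n_one_sq, kh _ (by simp)])
    rw [ht, ← conj_mul, ← e1, kl.inv_left.eq, mul_right_inj, e1,
      show n * (n * k⁻¹ * n⁻¹) * n⁻¹ = n * n * k⁻¹ * (n * n)⁻¹ by group, ← e.inv_left.eq,
      mul_inv_cancel_right]
  have ns : n * s * n⁻¹ = s⁻¹ := by rw [hn, hs, ninv l 1 l0 one_ne_zero, hinv l l0]
  have ts : Commute t s := e2 ▸ (ks.pow_left 2).inv_left.mul_left (Commute.refl s)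
  have so : orderOf s = p := orderOf_eq_prime (by rw [e0, kl.mul_pow, kp, l'p, mul_one])
    (e0 ▸ KL k (.inr rfl))
  have t1 : t ≠ 1 := ht ▸ KL _ (.inl rfl)
  have tO : orderOf t = p := orderOf_eq_prime
    (by rw [ht, kl.inv_left.mul_pow, inv_pow, kp, l'p, inv_one, mul_one]) t1
  have sA : ∀ c, x c * s = s * x c → x c = 1 := fun c e => by
    have := d.ld.inj ((sx c).symm.trans (by rw [← e, mul_inv_cancel_right]))
    rw [show c = 0 from by_contra fun n => l1 (by rw [← sq]; exact mul_right_cancel₀ n (by rw [this, one_mul])),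
      rel.x_zero]
  have st : ∀ v ∈ zpowers s, v ∈ zpowers t → v = 1 := fun v h1 h2 => by_contra fun n =>
    one_ne_zero (x1 _ (sA 1 (cen1_of_zpowers (gen_of_prime (so ▸ hp) h1 n)
      (cen1_of_zpowers h2 (tx 1).symm))))
  obtain ⟨A1, A2, A3⟩ := H99.exists_noncyclic_of_commute tO so ts fun r =>
    (e0 ▸ KL k (.inr rfl)) (st s (mem_zpowers s) r)
  have AD : zpowers t ⊔ zpowers s ≤ St G a b := sup_le (zpowers_le.2 tD) (zpowers_le.2 sD)
  have key : ∀ g ∈ zpowers t ⊔ zpowers s, g ≠ 1 → F a ⊓ centralizer {g} ≠ ⊥ → t ∈ zpowers g ∨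
      (s ∈ zpowers g ∧ g ∈ zpowers s ∧ ∃ τ : E ≃+* E, τ l * l = 1) := fun g hg g1 hc => by
    have gD := AD hg
    obtain ⟨u, hu, v, hv, rfl⟩ := (mem_sup_left_norm (zpowers_le.2 (centralizer_le_normalizer _
      (by rw [zpowers_eq_closure, centralizer_closure]; exact mem_cen1.2 ts)))).1 hg
    by_cases v1 : v = 1
    · rw [v1, mul_one] at g1 ⊢
      exact .inl (gen_of_prime (tO ▸ hp) hu g1)
    obtain ⟨w, hw, wa, wb⟩ := h.flag (zpowers (u * v)) hab (fun g hg c hc => by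
      rw [hL] at hc
      rcases hc with rfl | rfl
      exacts [(zpowers_le.2 gD hg).1, (zpowers_le.2 gD hg).2])
      (by rwa [zpowers_eq_closure, centralizer_closure]) a (T.left_mem a b) b (TI.right_mem a b)
    have wb' := wb b (TI.right_mem a b)
    rw [hL] at wb'
    have dD : n⁻¹ * w ∈ St G a b := mem_St.2 ⟨by rw [mul_smul, wa, inv_smul_eq_iff, na], by
      rw [mul_smul, wb'.resolve_right fun e => hab (MulAction.injective w
        (wa.trans e.symm)), inv_smul_eq_iff, nb]⟩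
    obtain ⟨e, he⟩ : ∃ e, e = n⁻¹ * w := ⟨_, rfl⟩
    rw [← he] at dD
    obtain ⟨m, τ, m0, dx, -, -, dh⟩ := semi e dD
    obtain ⟨μ, hμ⟩ := (mem_powers_iff_mem_zpowers.2 (zK.ge (nK e dD k hk)))
    replace hμ : k ^ μ = e * k * e⁻¹ := hμ
    have τl : τ l = l ^ μ := by
      have := kpow μ (m * τ 1)
      rw [hμ, ← dx, conj_inv, conj_mul, conj_mul, kx, dx] at this
      have := d.ld.inj this
      rw [mul_one, map_one, mul_one, mul_comm] at this
      exact mul_right_cancel₀ m0 this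
    have es : e * s * e⁻¹ = s ^ μ := by
      rw [hs, dh l l0, τl]
      clear hμ τl
      induction μ with
      | zero => simp [rel.h_one]
      | succ i ih => rw [pow_succ, pow_succ, ← ih, rel.h_mul' (pow_ne_zero i l0) l0]
    have et : e * t * e⁻¹ = t ^ μ := by
      rw [e2, ← conj_mul, ← conj_inv, ← conj_pow, ← hμ, es, (ks.pow_left 2).inv_left.mul_pow,
        inv_pow, ← pow_mul, ← pow_mul, mul_comm μ]
    have pw : ∀ {z r : G}, r ∈ zpowers z → e * z * e⁻¹ = z ^ μ → e * r * e⁻¹ = r ^ μ := by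
      rintro z _ ⟨i, rfl⟩ r
      simp only []
      rw [← conj_zpow, r, ← zpow_natCast, ← zpow_natCast, ← zpow_mul, ← zpow_mul, mul_comm]
    have c1 : u * v = u ^ μ * (v ^ μ)⁻¹ := by
      have nu : n * u ^ μ * n⁻¹ = u ^ μ := by
        rw [cen1_of_zpowers (pow_mem hu μ) (mul_inv_eq_iff_eq_mul.1 tn), mul_inv_cancel_right]
      have nv : n * v ^ μ * n⁻¹ = (v ^ μ)⁻¹ := by
        obtain ⟨i, hi⟩ := pow_mem hv μ
        rw [← hi]; simp only []; rw [← conj_zpow, ns, inv_zpow]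
      rw [← nu, ← nv, conj_mul, ← pw hu et, ← pw hv es, conj_mul, he,
        show n * (n⁻¹ * w * (u * v) * (n⁻¹ * w)⁻¹) * n⁻¹ = w * (u * v) * w⁻¹ by group,
        ← hw _ (mem_zpowers _), mul_inv_cancel_right]
    have c2 : v ^ (μ + 1) = 1 := st _ (pow_mem hv _) (by
      rw [pow_succ', eq_mul_inv_iff_mul_eq.1 (eq_inv_mul_iff_mul_eq.2 (c1.trans rfl) |>.trans
        (mul_assoc _ _ _).symm)]
      exact mul_mem (inv_mem hu) (pow_mem hu μ))
    have vo := ord_of_card hp ((Nat.card_zpowers s).trans so) hv v1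
    obtain ⟨j, hj⟩ : p ∣ μ + 1 := vo ▸ orderOf_dvd_of_pow_eq_one c2
    have up : u ^ p = 1 := orderOf_dvd_iff_pow_eq_one.1 (tO ▸ orderOf_dvd_of_mem_zpowers hu)
    have u1 : u = 1 := eq_one_of_sq po up (by
      rw [pow_succ', mul_eq_one_iff_eq_inv] at c2
      rw [← c2, mul_left_inj] at c1
      rw [← one_pow j, ← up, ← pow_mul, ← hj, pow_succ, ← c1])
    rw [u1, one_mul]
    exact .inr ⟨gen_of_prime (so ▸ hp) hv v1, hv, τ, by rw [τl, ← pow_succ, hj, pow_mul, lp, one_pow]⟩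
  have gen := H1.le_of_noncyclic_centralizer_le (K := F a) A3 (fun g hg => nF g (AD hg).1) (by
    obtain ⟨i, hi⟩ := IsPGroup.iff_card.1 A1
    exact hi ▸ ((Nat.Prime.coprime_iff_not_dvd hp).2 (h.cop a)).pow_left i)
  have nt : ¬ F a ≤ centralizer {t} := fun r => t1 (T.t2.faith t fun c => by
    by_cases e : c = a
    · exact e ▸ tD.1
    obtain ⟨f, hf, rfl⟩ := hR.tr hab.symm e
    exact H89.K.fix_of_comm (mem_cen1.1 (r hf)) tD.2)
  obtain ⟨g, hg, g1, gc⟩ : ∃ g ∈ zpowers t ⊔ zpowers s, g ≠ 1 ∧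
      ¬ F a ⊓ centralizer {g} ≤ centralizer {t} := by
    by_contra! r
    exact nt (gen _ r)
  obtain ⟨u, hu, un⟩ := SetLike.not_le_iff_exists.1 gc
  obtain ⟨sg, -, τ, hτ⟩ := (key g hg g1 fun e => gc (e.le.trans bot_le)).resolve_left fun r =>
    un (mem_cen1.2 (cen1_of_zpowers r (mem_cen1.1 hu.2)))
  have us := cen1_of_zpowers sg (mem_cen1.1 hu.2)
  rcases d.tri with e | e | ⟨e, e'⟩
  · obtain ⟨c, rfl⟩ := (d.ld.rx u).1 (e ▸ hu.1)
    exact un (mem_cen1.2 (tx c).symm)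
  · have δ0 : l - τ l ≠ 0 := fun r => l1 (by rw [← hτ, ← sub_eq_zero.1 r])
    have δ1 : τ (l - τ l) = -(l - τ l) := by
      rw [map_sub, neg_sub, sub_right_inj]
      refine mul_left_cancel₀ (τ.map_ne_zero_iff.2 l0) ?_
      rw [← map_mul, mul_comm, hτ, map_one]
    have δ2 : τ ((l - τ l) ^ (Fintype.card E / 2)) = (l - τ l) ^ (Fintype.card E / 2) := by
      rcases FiniteField.pow_dichotomy ch δ0 with r | r <;> simp [r]
    rw [map_pow, δ1, Odd.neg_pow (by rw [Nat.odd_iff]; omega)] at δ2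
    exact pow_ne_zero _ δ0 ((mul_eq_zero.1 (by linear_combination -δ2)).resolve_left two)
  · have cc : ∀ u ∈ F a, ∀ v ∈ F a, ∃ c, x c = u * v * u⁻¹ * v⁻¹ := fun u hu v hv =>
      (d.ld.rx _).1 (e.ge ⟨(F a).mul_mem ((F a).mul_mem ((F a).mul_mem hu hv) ((F a).inv_mem hu))
        ((F a).inv_mem hv),
        comm_central (h.odd a) (by rw [rel.h_mul' (by simp) (by simp)]; simpa using rel.h_one)
          (nF _ (hD (-1) (by simp)).1) ((e'.trans e).le.trans inf_le_right) hu hv⟩)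
    have wF : u⁻¹ * (t * u * t⁻¹) ∈ F a :=
      mul_mem (inv_mem hu.1) (conj_mem_of_mem_normalizer (nF t tD.1) hu.1)
    have ws : u⁻¹ * (t * u * t⁻¹) ∈ centralizer {s} := mul_mem (inv_mem (mem_cen1.2 us))
      (mul_mem (mul_mem (mem_cen1.2 ts) (mem_cen1.2 us)) (inv_mem (mem_cen1.2 ts)))
    have := gen (centralizer {u⁻¹ * (t * u * t⁻¹)}) fun g hg g1 v hv => mem_cen1.2 (by
      by_cases v1 : v = 1
      · simp [v1]
      rcases key g hg g1 fun e => v1 (mem_bot.1 (e.le hv)) with r | ⟨r, -⟩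
      · have vt := cen1_of_zpowers r (mem_cen1.1 hv.2)
        obtain ⟨c, hc⟩ := cc u hu.1 v hv.1
        have e1 : t * (u * v * u⁻¹) * t⁻¹ = u * v * u⁻¹ := by
          rw [← inv_mul_cancel_right (u * v * u⁻¹) v, ← hc, ← mul_assoc, tx, mul_assoc _ t, ← vt]; group
        calc v * (u⁻¹ * (t * u * t⁻¹)) = u⁻¹ * (u * v * u⁻¹) * (t * u * t⁻¹) := by group
          _ = u⁻¹ * (t * u * (v * t⁻¹)) := by rw [← e1]; group
          _ = _ := by rw [(show Commute v t from vt).inv_right.eq]; group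
      · have vs := mem_cen1.2 (cen1_of_zpowers r (mem_cen1.1 hv.2))
        obtain ⟨c, hc⟩ := cc v hv.1 _ wF
        exact commutatorElement_eq_one_iff_mul_comm.1 (hc.symm.trans (sA c (mem_cen1.1 (hc ▸
          mul_mem (mul_mem (mul_mem vs ws) (inv_mem vs)) (inv_mem ws))))))
    obtain ⟨c, hc⟩ := (d.ld.rx _).1 (e.ge ⟨wF, fun v hv => mem_cen1.1 (this hv)⟩)
    have := sA c (hc ▸ mem_cen1.1 ws)
    rw [hc, inv_mul_eq_one, eq_mul_inv_iff_mul_eq] at this
    exact un (mem_cen1.2 this)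

end H82.ON
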